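import Cfsg.Agent.Lib.MonsterType.Words

/-! Certificates for fixed classes using one congruence per class, and linearity of the induced maps. -/

set_option autoImplicit false

namespace CfsgLib.MonsterType

open Cfsg CfsgLib CfsgLib.Leech CfsgLib.MonsterQ
open CfsgLib.Leech.Orbits (vecOf eqB eq_of_eqB)

/-- The checks on one representative. -/
def rowB (T : ℕ) (row : ℕ → List ℤ) (k : ℕ) : Bool :=
  leechL (row k) && congB (monoL T 0 (row k)) (row k) &&
    (Nat.beq k 0 == eqB (vecOf (row k)) fun _ => 0) &&
    decide (((List.range 24).map fun i => (row k).getD i 0 * (row k).getD i 0).sum ≤ 64)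

/-- Additivity in the top digit. -/
def topB (row : ℕ → List ℤ) (n k : ℕ) : Bool :=
  congB ((List.range 24).map fun i => (row k).getD i 0 + (row (2 ^ n)).getD i 0) (row (2 ^ n + k))

/-- The class of the average of a generator. -/
def avgB (p T d : ℕ) (row : ℕ → List ℤ) (avg : List ℕ) (k : ℕ) : Bool :=
  Nat.blt (avg.getD k (2 ^ d)) (2 ^ d) &&
    congB (forceL (toList (leechGen k)) (avgL T p)) (row (avg.getD k (2 ^ d)))

theorem cong_two_zero (v : leechLattice) : Cong (v + v) 0 := cong_zero_iff.2 (Cong.refl v)

theorem fixed_of_checks {p T d : ℕ} (hp : p % 2 = 1) {row : ℕ → List ℤ} {avg : List ℕ}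
    (hT : Trans.okT T = true) (hp1 : eqW (List.replicate p (some (T, 0))) [] = true)
    (hrow : ∀ k < 2 ^ d, rowB T row k = true) (htop : ∀ n < d, ∀ k < 2 ^ n, topB row n k = true)
    (havg : ∀ k < 59, avgB p T d row avg k = true) :
    FixedClasses (stepEl (some (T, 0))) p d (fun k => latOf (row k)) := by
  set t := stepEl (some (T, 0)) with ht
  set rv : ℕ → leechLattice := fun k => latOf (row k) with hrv
  have hok : stepOk (some (T, 0)) = true := hT
  simp only [rowB, Bool.and_eq_true, decide_eq_true_eq] at hrow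
  simp only [avgB, Bool.and_eq_true, Nat.blt_eq] at havg
  have hco : ∀ {k}, k < 2 ^ d → (rv k : GolayPt → ℤ) = vecOf (row k) :=
    fun hk => coe_latOf (leechB_of_leechL (hrow _ hk).1.1.1)
  have hz : ∀ {k}, k < 2 ^ d → (rv k = 0 ↔ k = 0) := by
    intro k hk
    have h1 := (hrow k hk).1.2
    rw [beq_iff_eq] at h1
    constructor
    · intro e
      have e' := (hco hk).symm.trans (congrArg Subtype.val e)
      have : eqB (vecOf (row k)) (fun _ => 0) = true := by rw [e']; simp [eqB]
      exact Nat.eq_of_beq_eq_true (h1.trans this)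
    · rintro rfl
      refine Subtype.ext ((hco hk).trans ?_)
      exact eq_of_eqB h1.symm
  let E : ℕ → leechLattice := fun k => ∑ j ∈ Finset.range d, if k.testBit j then rv (2 ^ j) else 0
  have hsum : ∀ k, ∀ n ≤ d, k < 2 ^ n → Cong (rv k) (∑ j ∈ Finset.range n, if k.testBit j then rv (2 ^ j) else 0) := by
    intro k n
    induction n generalizing k with
    | zero =>
      intro _ hk
      have hk0 : k = 0 := by simpa using hk
      subst hk0
      simp only [Finset.range_zero, Finset.sum_empty]
      rw [(hz (Nat.two_pow_pos d)).2 rfl]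
      exact Cong.refl 0
    | succ n ih =>
      intro hnd hk
      rw [Finset.sum_range_succ]
      by_cases hkn : k < 2 ^ n
      · rw [Nat.testBit_lt_two_pow hkn]
        simpa using ih k (by omega) hkn
      · obtain ⟨k', hk', rfl⟩ : ∃ k', k' < 2 ^ n ∧ k = 2 ^ n + k' :=
          ⟨k - 2 ^ n, by rw [pow_succ] at hk; omega, by omega⟩
        have hb : (2 ^ n + k').testBit n = true := by
          rw [Nat.testBit_two_pow_add_eq, Nat.testBit_lt_two_pow hk']; rfl
        have hlow : ∀ j ∈ Finset.range n, (if (2 ^ n + k').testBit j then rv (2 ^ j) else 0) =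
            if k'.testBit j then rv (2 ^ j) else 0 := fun j hj => by
          rw [Nat.testBit_two_pow_add_gt (Finset.mem_range.1 hj)]
        rw [Finset.sum_congr rfl hlow, hb, if_pos rfl]
        have hk2 : 2 ^ n + k' < 2 ^ d := hk.trans_le (Nat.pow_le_pow_right (by norm_num) hnd)
        have hc : Cong (rv k' + rv (2 ^ n)) (rv (2 ^ n + k')) :=
          cong_of_congB (by
            rw [AddSubgroup.coe_add, hco (by omega), hco (by omega)]
            funext q
            rw [vecOf_map_range]; rfl) (hco hk2) (htop n (by omega) k' hk')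
        exact hc.symm.trans (cong_add (ih k' (by omega) hk') (Cong.refl _))
  have hE : ∀ k < 2 ^ d, Cong (rv k) (E k) := fun k hk => hsum k d le_rfl hk
  have hadd : ∀ k < 2 ^ d, ∀ l < 2 ^ d, Cong (rv k + rv l) (rv (k ^^^ l)) := by
    intro k hk l hl
    refine (cong_add (hE k hk) (hE l hl)).trans (Cong.trans ?_ (hE _ (Nat.xor_lt_two_pow hk hl)).symm)
    simp only [E, ← Finset.sum_add_distrib, Nat.testBit_xor]
    suffices ∀ n, Cong (∑ x ∈ Finset.range n, ((if k.testBit x = true then rv (2 ^ x) else 0) +
        if l.testBit x = true then rv (2 ^ x) else 0))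
        (∑ x ∈ Finset.range n, if (k.testBit x ^^ l.testBit x) = true then rv (2 ^ x) else 0) from this d
    intro n
    induction n with
    | zero => simp only [Finset.range_zero, Finset.sum_empty]; exact Cong.refl 0
    | succ n ih =>
      rw [Finset.sum_range_succ, Finset.sum_range_succ]
      refine cong_add ih ?_
      cases k.testBit n <;> cases l.testBit n
      · simpa using Cong.refl (0 : leechLattice)
      · simpa using Cong.refl (rv (2 ^ n))
      · simpa using Cong.refl (rv (2 ^ n))
      · simpa using cong_two_zero (rv (2 ^ n))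
  have htp : t ^ p = 1 := by
    have e := eq_of_eqW hp1
    rwa [wordEl_replicate] at e
  refine ⟨htp, fun k hk => ?_, (hz (Nat.two_pow_pos d)).2 rfl, fun k hk hk0 e => hk0 ((hz hk).1 e),
    fun k hk => ?_, hadd, ?_⟩
  · refine cong_of_congB ?_ (hco hk) (hrow k hk).1.1.2
    rw [ht, coe_stepEl hok, hco hk, ← vecOf_stepL hok]
    rfl
  · rw [sqNorm, hco hk, sum_vecOf _ (fun a => a ^ 2)]
    simp only [pow_two]
    exact (hrow k hk).2
  let N : leechLattice →+ leechLattice :=
    AddMonoidHom.mk' (fun v => ∑ i ∈ Finset.range p, t ^ i • v) fun a b => by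
      simp only [smul_add', Finset.sum_add_distrib]
  have hav : ∀ n (v : leechLattice) (l : List ℤ), (v : GolayPt → ℤ) = vecOf l →
      ((∑ i ∈ Finset.range n, t ^ i • v : leechLattice) : GolayPt → ℤ) = vecOf (avgL T n l) := by
    intro n
    induction n with
    | zero =>
      intro v l _
      funext q
      simp only [Finset.range_zero, Finset.sum_empty, avgL, vecOf_map_range]; rfl
    | succ n ih =>
      intro v l hl
      rw [Finset.sum_range_succ', pow_zero, one_smul, avgL, forceL_eq, forceL_eq, AddSubgroup.coe_add,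
        show (∑ i ∈ Finset.range n, t ^ (i + 1) • v) = ∑ i ∈ Finset.range n, t ^ i • (t • v) from
          Finset.sum_congr rfl fun i _ => by rw [pow_succ, mul_smul],
        ih (t • v) (monoL T 0 l) (by rw [ht, coe_stepEl hok, hl, ← vecOf_stepL hok]; rfl), hl]
      funext q
      rw [vecOf_map_range]
      exact add_comm _ _
  intro v hv
  suffices H : ∀ x (hx : x ∈ leechLattice), ∃ k < 2 ^ d, Cong (N ⟨x, hx⟩) (rv k) by
    obtain ⟨k, hk, hc⟩ := H _ v.2
    refine ⟨k, hk, Cong.trans ?_ hc⟩
    have hi : ∀ i, Cong (t ^ i • v) v := by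
      intro i
      induction i with
      | zero => rw [pow_zero, one_smul]; exact Cong.refl v
      | succ i ih => rw [pow_succ', mul_smul]; exact (ih.smul t).trans hv
    have hsum' : ∀ n, Cong (∑ i ∈ Finset.range n, t ^ i • v) ((n % 2) • v) := by
      intro n
      induction n with
      | zero => simp only [Finset.range_zero, Finset.sum_empty, Nat.zero_mod, zero_smul]; exact Cong.refl 0
      | succ n ih =>
        rw [Finset.sum_range_succ]
        refine (cong_add ih (hi n)).trans ?_
        rcases Nat.mod_two_eq_zero_or_one n with e | e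
        · rw [e, show (n + 1) % 2 = 1 by omega, zero_smul, one_smul, zero_add]; exact Cong.refl v
        · rw [e, show (n + 1) % 2 = 0 by omega, zero_smul, one_smul]; exact cong_zero_iff.2 (Cong.refl v)
    have h1 := hsum' p
    rw [hp, one_smul] at h1
    exact h1.symm
  intro x hx
  have hx' : x ∈ genSub := by rw [genSub_eq]; exact hx
  induction hx' using AddSubgroup.closure_induction with
  | mem y hy =>
    obtain ⟨k, hk, rfl⟩ := hy
    refine ⟨_, (havg k hk).1, cong_of_congB ?_ (hco (havg k hk).1) (havg k hk).2⟩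
    rw [forceL_eq]
    exact hav p _ _ (vecOf_toList _).symm
  | zero =>
    refine ⟨0, Nat.two_pow_pos d, ?_⟩
    rw [(hz (Nat.two_pow_pos d)).2 rfl, show (⟨0, hx⟩ : leechLattice) = 0 from rfl, map_zero]
    exact Cong.refl 0
  | add a b ha hb iha ihb =>
    replace ha := genSub_le ha
    replace hb := genSub_le hb
    obtain ⟨k, hk, hka⟩ := iha ha
    obtain ⟨l, hl, hlb⟩ := ihb hb
    refine ⟨k ^^^ l, Nat.xor_lt_two_pow hk hl, ?_⟩
    rw [show (⟨a + b, hx⟩ : leechLattice) = ⟨a, ha⟩ + ⟨b, hb⟩ from rfl, map_add]
    exact (cong_add hka hlb).trans (hadd k hk l hl)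
  | neg a ha iha =>
    replace ha := genSub_le ha
    obtain ⟨k, hk, hka⟩ := iha ha
    refine ⟨k, hk, ?_⟩
    rw [show (⟨-a, hx⟩ : leechLattice) = -⟨a, ha⟩ from rfl, map_neg]
    exact (cong_neg _).trans hka

/-- Linear extension of the images of the basis classes. -/
def imgK (A : List ℕ) : ℕ → ℕ → ℕ
  | 0, _ => 0
  | n + 1, k => bif k.testBit n then imgK A n k ^^^ A.getD n 0 else imgK A n k

theorem imgK_sound {t : Co0} {p d : ℕ} {rv : ℕ → leechLattice} (F : FixedClasses t p d rv) {g : Co0}
    {A : List ℕ} (h : ∀ j < d, A.getD j 0 < 2 ^ d ∧ Cong (g • rv (2 ^ j)) (rv (A.getD j 0))) {k : ℕ}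
    (hk : k < 2 ^ d) : imgK A d k < 2 ^ d ∧ Cong (g • rv k) (rv (imgK A d k)) := by
  suffices ∀ n ≤ d, imgK A n k < 2 ^ d ∧ Cong (g • rv (k % 2 ^ n)) (rv (imgK A n k)) by
    have := this d le_rfl
    rwa [Nat.mod_eq_of_lt hk] at this
  intro n
  induction n with
  | zero =>
    intro _
    refine ⟨Nat.two_pow_pos d, ?_⟩
    rw [pow_zero, Nat.mod_one, imgK, F.zero, smul_zero']
    exact Cong.refl 0
  | succ n ih =>
    intro hn
    obtain ⟨h1, h2⟩ := ih (by omega)
    have hlo : k % 2 ^ n < 2 ^ d :=
      (Nat.mod_lt _ (Nat.two_pow_pos n)).trans_le (Nat.pow_le_pow_right (by norm_num) (by omega))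
    cases hb : k.testBit n with
    | false =>
      simp only [imgK, hb, cond_false]
      refine ⟨h1, ?_⟩
      have e : k % 2 ^ (n + 1) = k % 2 ^ n := by
        refine Nat.eq_of_testBit_eq fun i => ?_
        simp only [Nat.testBit_mod_two_pow]
        by_cases hi : i = n
        · subst hi; simp [hb]
        · rw [show (decide (i < n + 1)) = decide (i < n) from decide_eq_decide.2 (by omega)]
      rw [e]; exact h2
    | true =>
      simp only [imgK, hb, cond_true]
      obtain ⟨hA, hA'⟩ := h n (by omega)
      refine ⟨Nat.xor_lt_two_pow h1 hA, ?_⟩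
      have e : k % 2 ^ (n + 1) = k % 2 ^ n ^^^ 2 ^ n := by
        refine Nat.eq_of_testBit_eq fun i => ?_
        simp only [Nat.testBit_mod_two_pow, Nat.testBit_xor, Nat.testBit_two_pow]
        by_cases hi : i = n
        · subst hi; simp [hb]
        · rw [show (decide (i < n + 1)) = decide (i < n) from decide_eq_decide.2 (by omega),
            decide_eq_false (Ne.symm hi), Bool.xor_false]
      rw [e]
      refine ((F.add _ hlo _ (Nat.pow_lt_pow_right (by norm_num) (by omega))).smul g).symm.trans ?_
      rw [smul_add']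
      exact (cong_add h2 hA').trans (F.add _ h1 _ hA)

end CfsgLib.MonsterType
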