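import Cfsg.Agent.Lib.MonsterQ.Lattice
import Cfsg.Agent.Lib.Leech.Orbits.Engine

/-! Coded words in the automorphism group of the lattice, and certificates for the classes modulo two
fixed by an element of odd order. -/

set_option autoImplicit false

namespace CfsgLib.MonsterType

open Cfsg CfsgLib CfsgLib.Leech CfsgLib.MonsterQ
open CfsgLib.Leech.Orbits (vecOf monoTbl eqB eq_of_eqB monoFun_tbl)

/-- A step: the extra automorphism, or a signed permutation. -/
abbrev Step := Option (ℕ × ℕ)

/-- Effect of a step on coordinates. -/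
def stepFun : Step → (GolayPt → ℤ) → GolayPt → ℤ
  | none, x => xiFun x
  | some (T, cx), x => monoTbl T cx x

/-- Validity of a step. -/
def stepOk : Step → Bool
  | none => true
  | some (T, _) => Trans.okT T

open scoped Classical in
/-- The automorphism of a step. -/
noncomputable def stepEl : Step → Co0
  | none => xiEl
  | some (T, cx) =>
    if h : Trans.okT T = true then
      monoEl (Trans.tblPerm T) (Trans.tblPerm_mem h) (Golay.toWord (Golay.comb cx)) (Golay.toWord_comb_mem cx)
    else 1

theorem coe_stepEl : ∀ {s : Step}, stepOk s = true → ∀ v : leechLattice,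
    ((stepEl s • v : leechLattice) : GolayPt → ℤ) = stepFun s v
  | none, _, v => rfl
  | some (T, cx), h, v => by
    rw [stepEl, dif_pos (show Trans.okT T = true from h), coe_monoEl_smul, monoFun_tbl h]
    rfl

/-- The list of coordinates. -/
def toList (x : GolayPt → ℤ) : List ℤ := (List.range 24).map fun i => x (Golay.pt i)

theorem vecOf_toList (x : GolayPt → ℤ) : vecOf (toList x) = x := by
  funext p
  simp [vecOf, toList, List.getD_eq_getElem?_getD, List.getElem?_range (Golay.bit_lt p), Golay.pt_bit]

/-- Continue with the literal value of a number. -/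
def forceI {α : Sort*} : ℤ → (ℤ → α) → α
  | Int.ofNat 0, k => k (Int.ofNat 0)
  | Int.ofNat (m + 1), k => k (Int.ofNat (m + 1))
  | Int.negSucc 0, k => k (Int.negSucc 0)
  | Int.negSucc (m + 1), k => k (Int.negSucc (m + 1))

theorem forceI_eq {α : Sort*} (x : ℤ) (k : ℤ → α) : forceI x k = k x := by
  rcases x with (_ | m) | (_ | m) <;> rfl

/-- Continue with the literal values of a list of numbers. -/
def forceL {α : Sort*} : List ℤ → (List ℤ → α) → α
  | [], k => k []
  | x :: l, k => forceI x fun y => forceL l fun m => k (y :: m)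

theorem forceL_eq {α : Sort*} : ∀ (l : List ℤ) (k : List ℤ → α), forceL l k = k l
  | [], _ => rfl
  | x :: l, k => by rw [forceL, forceI_eq, forceL_eq l]

/-- The positions of each tetrad. -/
def tets : List (List ℕ) :=
  (List.range 6).map fun a =>
    (List.range 24).filter fun i => Nat.beq (([0, 0, 0, 4, 3, 4, 5, 5, 1, 2, 2, 1, 1, 3, 4, 2, 3, 4, 1, 5, 2, 5, 3, 0] : List ℕ).getD i 0) a

theorem tets_spec : ∀ p : GolayPt, ((tets.getD (sextetLab p) []).map Golay.pt).Nodup ∧
    Finset.univ.filter (fun q => sextetLab q = sextetLab p) = ((tets.getD (sextetLab p) []).map Golay.pt).toFinset ∧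
    (tets.getD (sextetLab p) []).all fun i => Nat.blt i 24 := by
  decide +kernel

/-- The extra automorphism on a list. -/
def xiL (l : List ℤ) : List ℤ :=
  (List.range 24).map fun i =>
    let a := sextetLab (Golay.pt i)
    let x := l.getD i 0 - ((tets.getD a []).map fun j => l.getD j 0).sum / 2
    bif Nat.beq a 0 then -x else x

/-- A signed permutation on a list. -/
def monoL (T cx : ℕ) (l : List ℤ) : List ℤ :=
  (List.range 24).map fun i =>
    bif (Golay.comb cx).testBit i then -l.getD (Trans.img T i) 0 else l.getD (Trans.img T i) 0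

/-- A step on a list. -/
def stepL : Step → List ℤ → List ℤ
  | none, l => xiL l
  | some (T, cx), l => monoL T cx l

theorem vecOf_map_range (f : ℕ → ℤ) (p : GolayPt) : vecOf ((List.range 24).map f) p = f (Golay.bit p) := by
  simp [vecOf, List.getD_eq_getElem?_getD, List.getElem?_range (Golay.bit_lt p)]

theorem vecOf_stepL : ∀ {s : Step}, stepOk s = true → ∀ l : List ℤ, vecOf (stepL s l) = stepFun s (vecOf l)
  | none, _, l => by
    funext p
    simp only [stepL, stepFun, xiL, vecOf_map_range, Golay.pt_bit, xiFun]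
    obtain ⟨hnd, heq, hlt⟩ := tets_spec p
    have hsum : ((tets.getD (sextetLab p) []).map fun j => l.getD j 0).sum = tetradSum (vecOf l) p := by
      rw [tetradSum, heq, List.sum_toFinset _ hnd, List.map_map]
      refine congrArg List.sum (List.map_congr_left fun j hj => ?_)
      simp only [List.all_eq_true, Nat.blt_eq] at hlt
      simp only [Function.comp_apply, vecOf, Golay.bit_pt (hlt j hj)]
    rw [hsum]
    by_cases h : sextetLab p = 0
    · rw [if_pos h, h]; rfl
    · rw [if_neg h, show Nat.beq (sextetLab p) 0 = false from Bool.eq_false_iff.2 fun e => h (Nat.eq_of_beq_eq_true e)]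
      rfl
  | some (T, cx), h, l => by
    funext p
    have hlt : Trans.img T (Golay.bit p) < 24 := by
      have h' : Trans.okT T = true := h
      simp only [Trans.okT, Bool.and_eq_true, List.all_eq_true, List.mem_range, Nat.blt_eq] at h'
      exact h'.1.1 _ (Golay.bit_lt p)
    simp only [stepL, monoL, stepFun, monoTbl, vecOf_map_range, Trans.tblFun]
    simp only [vecOf, Golay.bit_pt hlt]

/-- A word applied to a list, first letter first. -/
def wordL : List Step → List ℤ → List ℤ
  | [], l => l
  | s :: w, l => forceL (stepL s l) (wordL w)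

/-- The automorphism of a word. -/
noncomputable def wordEl : List Step → Co0
  | [] => 1
  | s :: w => wordEl w * stepEl s

theorem coe_wordEl : ∀ {w : List Step}, w.all stepOk = true → ∀ (v : leechLattice) (l : List ℤ),
    (v : GolayPt → ℤ) = vecOf l → ((wordEl w • v : leechLattice) : GolayPt → ℤ) = vecOf (wordL w l)
  | [], _, v, l, h => by rw [wordEl, one_smul]; exact h
  | s :: w, hw, v, l, h => by
    rw [List.all_cons, Bool.and_eq_true] at hw
    rw [wordEl, mul_smul, wordL, forceL_eq]
    refine coe_wordEl hw.2 _ _ ?_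
    rw [coe_stepEl hw.1, h, vecOf_stepL hw.1]

theorem wordEl_append : ∀ a b : List Step, wordEl (a ++ b) = wordEl b * wordEl a
  | [], b => by simp [wordEl]
  | s :: a, b => by rw [List.cons_append, wordEl, wordEl, wordEl_append a b, mul_assoc]

theorem wordEl_single (s : Step) : wordEl [s] = stepEl s := by simp [wordEl]

theorem wordEl_replicate (s : Step) : ∀ k : ℕ, wordEl (List.replicate k s) = stepEl s ^ k
  | 0 => rfl
  | k + 1 => by rw [List.replicate_succ, wordEl, wordEl_replicate s k, pow_succ]

/-- Eight times a coordinate vector, as a list. -/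
def unitL (i : ℕ) : List ℤ := (List.range 24).map fun j => if Nat.beq j i then 8 else 0

theorem vecOf_unitL : ∀ p : GolayPt, vecOf (unitL (Golay.bit p)) = Pi.single p 8 := by
  intro p
  funext q
  simp only [vecOf, unitL, List.getD_eq_getElem?_getD, List.getElem?_map,
    List.getElem?_range (Golay.bit_lt q), Option.map_some, Option.getD_some, Pi.single_apply, Nat.beq_eq]
  by_cases h : q = p
  · simp [h]
  · rw [if_neg h, if_neg fun e => h (by rw [← Golay.pt_bit q, e, Golay.pt_bit])]

/-- Two words agree on the standard frame. -/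
def eqW (w w' : List Step) : Bool :=
  w.all stepOk && w'.all stepOk &&
    (List.range 24).all fun i => eqB (vecOf (wordL w (unitL i))) (vecOf (wordL w' (unitL i)))

theorem eq_of_eqW {w w' : List Step} (h : eqW w w' = true) : wordEl w = wordEl w' := by
  simp only [eqW, Bool.and_eq_true] at h
  obtain ⟨⟨hw, hw'⟩, h3⟩ := h
  refine ext_eightVec fun p => Subtype.ext ?_
  rw [coe_wordEl hw (eightVec p) (unitL (Golay.bit p)) (vecOf_unitL p).symm,
    coe_wordEl hw' (eightVec p) (unitL (Golay.bit p)) (vecOf_unitL p).symm]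
  exact eq_of_eqB (List.all_eq_true.1 h3 _ (List.mem_range.2 (Golay.bit_lt p)))

/-- The membership test on a list. -/
def leechL (l : List ℤ) : Bool :=
  (List.range 24).all (fun i => l.getD i 0 % 2 == l.getD 23 0 % 2) &&
    Golay.memb (Golay.bitsOf (fun i => l.getD i 0 / 2 % 2 == 1) 24) &&
    (((List.range 24).map fun i => l.getD i 0).sum % 8 == 4 * l.getD 23 0 % 8)

theorem univ_eq : (Finset.univ : Finset GolayPt) = ((List.range 24).map Golay.pt).toFinset ∧
    ((List.range 24).map Golay.pt).Nodup := by
  decide +kernel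

theorem sum_vecOf (l : List ℤ) (f : ℤ → ℤ) :
    ∑ p, f (vecOf l p) = ((List.range 24).map fun i => f (l.getD i 0)).sum := by
  rw [univ_eq.1, List.sum_toFinset _ univ_eq.2, List.map_map]
  refine congrArg List.sum (List.map_congr_left fun i hi => ?_)
  simp only [Function.comp_apply, vecOf, Golay.bit_pt (List.mem_range.1 hi)]

theorem leechB_of_leechL {l : List ℤ} (h : leechL l = true) : leechB (vecOf l) = true := by
  simp only [leechL, Bool.and_eq_true, List.all_eq_true, List.mem_range, beq_iff_eq] at h
  have hm : maskOf (vecOf l) = Golay.bitsOf (fun i => l.getD i 0 / 2 % 2 == 1) 24 := by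
    refine Nat.eq_of_testBit_eq fun j => ?_
    simp only [maskOf, Golay.testBit_bitsOf]
    by_cases hj : j < 24
    · simp [vecOf, Golay.bit_pt hj]
    · simp [hj]
  simp only [leechB, Bool.and_eq_true, List.all_eq_true, List.mem_range, beq_iff_eq]
  refine ⟨⟨fun i hi => ?_, hm ▸ h.1.2⟩, ?_⟩
  · simp only [vecOf, Golay.bit_pt hi]; exact h.1.1 i hi
  · rw [show (∑ i, vecOf l i) = _ from sum_vecOf l fun a => a]; exact h.2

/-- Congruence modulo twice the lattice. -/
def congB (x y : List ℤ) : Bool :=
  forceL ((List.range 24).map fun i => x.getD i 0 - y.getD i 0) fun d =>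
    (List.range 24).all (fun i => d.getD i 0 % 2 == 0) &&
      forceL ((List.range 24).map fun i => d.getD i 0 / 2) leechL

theorem cong_of_congB {x y : List ℤ} {v w : leechLattice} (hv : (v : GolayPt → ℤ) = vecOf x)
    (hw : (w : GolayPt → ℤ) = vecOf y) (h : congB x y = true) : Cong v w := by
  simp only [congB, forceL_eq, Bool.and_eq_true, List.all_eq_true, List.mem_range, beq_iff_eq] at h
  refine cong_coe.2 ⟨⟨_, mem_of_leechB (leechB_of_leechL h.2)⟩, funext fun p => ?_⟩
  have hp := h.1 _ (Golay.bit_lt p)
  have e := vecOf_map_range (fun i => x.getD i 0 - y.getD i 0) p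
  simp only [vecOf] at e
  rw [e] at hp
  simp only [Pi.sub_apply, hv, hw, Pi.smul_apply, nsmul_eq_mul, Nat.cast_ofNat, vecOf_map_range]
  simp only [vecOf] at hp ⊢
  rw [e]
  omega

/-- The element of a coded list (zero when invalid). -/
def latOf (l : List ℤ) : leechLattice :=
  if h : leechB (vecOf l) = true then ⟨vecOf l, mem_of_leechB h⟩ else 0

theorem coe_latOf {l : List ℤ} (h : leechB (vecOf l) = true) : (latOf l : GolayPt → ℤ) = vecOf l := by
  rw [latOf, dif_pos h]

/-- Certificate that a word maps one vector into the class of another. -/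
def mapsB (w : List Step) (x y : List ℤ) : Bool :=
  w.all stepOk && leechL x && leechL y && congB (wordL w x) y

theorem cong_of_mapsB {w : List Step} {x y : List ℤ} (h : mapsB w x y = true) :
    Cong (wordEl w • latOf x) (latOf y) := by
  simp only [mapsB, Bool.and_eq_true] at h
  exact cong_of_congB (coe_wordEl h.1.1.1 _ _ (coe_latOf (leechB_of_leechL h.1.1.2))) (coe_latOf (leechB_of_leechL h.1.2)) h.2

/-- The sum of the first `n` images of a vector under a coded permutation. -/
def avgL (T : ℕ) : ℕ → List ℤ → List ℤ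
  | 0, _ => (List.range 24).map fun _ => 0
  | n + 1, l => forceL (monoL T 0 l) fun m => forceL (avgL T n m) fun a =>
      (List.range 24).map fun i => l.getD i 0 + a.getD i 0

/-- The vectors in a table. -/
def repAt (reps : List (List ℤ)) (k : ℕ) : leechLattice := latOf (reps.getD k [])

/-- Checks that the table lists the fixed classes. -/
def fixB (p T d : ℕ) (reps : List (List ℤ)) (avg : List ℕ) : Bool :=
  Trans.okT T && eqW (List.replicate p (some (T, 0))) [] &&
    ((List.range (2 ^ d)).all fun k =>
      leechL (reps.getD k []) &&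
        eqB (vecOf (monoL T 0 (reps.getD k []))) (vecOf (reps.getD k [])) &&
        (Nat.beq k 0 == eqB (vecOf (reps.getD k [])) fun _ => 0) &&
        decide (((List.range 24).map fun i => (reps.getD k []).getD i 0 * (reps.getD k []).getD i 0).sum ≤ 64) &&
        (List.range d).all fun j =>
          congB ((List.range 24).map fun i => (reps.getD k []).getD i 0 + (reps.getD (2 ^ j) []).getD i 0)
            (reps.getD (k ^^^ 2 ^ j) [])) &&
    ((List.range 59).all fun k => Nat.blt (avg.getD k (2 ^ d)) (2 ^ d) &&
      congB (forceL (toList (leechGen k)) (avgL T p)) (reps.getD (avg.getD k (2 ^ d)) []))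

/-- The classes fixed by an element are those of a table. -/
structure FixedClasses (t : Co0) (p d : ℕ) (rv : ℕ → leechLattice) : Prop where
  pow : t ^ p = 1
  fix : ∀ k < 2 ^ d, Cong (t • rv k) (rv k)
  zero : rv 0 = 0
  ne_zero : ∀ k < 2 ^ d, k ≠ 0 → rv k ≠ 0
  short : ∀ k < 2 ^ d, sqNorm (rv k : GolayPt → ℤ) ≤ 64
  add : ∀ k < 2 ^ d, ∀ l < 2 ^ d, Cong (rv k + rv l) (rv (k ^^^ l))
  cover : ∀ v, Cong (t • v) v → ∃ k < 2 ^ d, Cong v (rv k)

theorem cong_add {a b c e : leechLattice} (h : Cong a b) (h' : Cong c e) : Cong (a + c) (b + e) := by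
  obtain ⟨u, hu⟩ := h
  obtain ⟨u', hu'⟩ := h'
  exact ⟨u + u', by rw [add_sub_add_comm, hu, hu']; abel⟩

theorem cong_zero_iff {v w : leechLattice} : Cong (v + w) 0 ↔ Cong v w := by
  constructor
  · intro h
    have := cong_add h (Cong.refl (-w))
    rw [add_neg_cancel_right, zero_add] at this
    exact this.trans (cong_neg w)
  · intro h
    have := cong_add h (cong_neg w).symm
    rwa [add_neg_cancel] at this

theorem fixed_of_fixB {p T d : ℕ} (hp : p % 2 = 1) {reps : List (List ℤ)} {avg : List ℕ}
    (h : fixB p T d reps avg = true) :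
    FixedClasses (stepEl (some (T, 0))) p d (repAt reps) := by
  simp only [fixB, Bool.and_eq_true, List.all_eq_true, List.mem_range, Nat.blt_eq, decide_eq_true_eq] at h
  obtain ⟨⟨⟨hT, hp1⟩, hrep⟩, havg⟩ := h
  set t := stepEl (some (T, 0)) with ht
  have hok : stepOk (some (T, 0)) = true := hT
  have hco : ∀ {k}, k < 2 ^ d → (repAt reps k : GolayPt → ℤ) = vecOf (reps.getD k []) :=
    fun hk => coe_latOf (leechB_of_leechL (hrep _ hk).1.1.1.1)
  have hz : ∀ {k}, k < 2 ^ d → (repAt reps k = 0 ↔ k = 0) := by
    intro k hk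
    have h1 := (hrep k hk).1.1.2
    rw [beq_iff_eq] at h1
    constructor
    · intro e
      have e' := (hco hk).symm.trans (congrArg Subtype.val e)
      have : eqB (vecOf (reps.getD k [])) (fun _ => 0) = true := by
        rw [e']; simp [eqB]
      exact Nat.eq_of_beq_eq_true (h1.trans this)
    · rintro rfl
      refine Subtype.ext ((hco hk).trans ?_)
      exact eq_of_eqB h1.symm
  have hadd : ∀ l k, k < 2 ^ d → l < 2 ^ d → Cong (repAt reps k + repAt reps l) (repAt reps (k ^^^ l)) := by
    intro l
    induction l using Nat.strong_induction_on with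
    | _ l ih =>
      intro k hk hl
      by_cases hl0 : l = 0
      · subst hl0
        rw [Nat.xor_zero, (hz hl).2 rfl, add_zero]
        exact Cong.refl _
      obtain ⟨j, hj, hjmax⟩ := Nat.exists_most_significant_bit hl0
      have hjd : j < d := by
        by_contra hc
        rw [Nat.testBit_lt_two_pow (hl.trans_le (Nat.pow_le_pow_right (by norm_num) (not_lt.1 hc)))] at hj
        exact Bool.false_ne_true hj
      have h2j : 2 ^ j < 2 ^ d := Nat.pow_lt_pow_right (by norm_num) hjd
      have hlt : l ^^^ 2 ^ j < l := by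
        refine Nat.lt_of_testBit j (by simp [hj]) hj fun i hi => ?_
        simp [(Nat.ne_of_lt hi)]
      have hl' := hlt.trans hl
      have base : ∀ k, k < 2 ^ d → Cong (repAt reps k + repAt reps (2 ^ j)) (repAt reps (k ^^^ 2 ^ j)) :=
        fun k hk => cong_of_congB (by
          rw [AddSubgroup.coe_add, hco hk, hco h2j]
          funext q
          rw [vecOf_map_range]; rfl)
          (hco (Nat.xor_lt_two_pow hk h2j)) ((hrep k hk).2 j hjd)
      have e1 : l ^^^ 2 ^ j ^^^ 2 ^ j = l := by rw [Nat.xor_assoc, Nat.xor_self, Nat.xor_zero]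
      have e2 : k ^^^ (l ^^^ 2 ^ j) ^^^ 2 ^ j = k ^^^ l := by rw [Nat.xor_assoc, e1]
      have A := cong_add (Cong.refl (repAt reps k)) (base _ hl')
      rw [e1, ← add_assoc] at A
      have B := cong_add (ih _ hlt k hk hl') (Cong.refl (repAt reps (2 ^ j)))
      have C := base _ (Nat.xor_lt_two_pow hk hl')
      rw [e2] at C
      exact A.symm.trans (B.trans C)
  have htp : t ^ p = 1 := by
    have e := eq_of_eqW hp1
    rwa [wordEl_replicate] at e
  refine ⟨htp, fun k hk => ?_, (hz (Nat.two_pow_pos d)).2 rfl, fun k hk hk0 e => hk0 ((hz hk).1 e),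
    fun k hk => ?_, fun k hk l hl => hadd l k hk hl, ?_⟩
  · have e : t • repAt reps k = repAt reps k := Subtype.ext (by
      rw [ht, coe_stepEl hok, hco hk, ← vecOf_stepL hok]
      exact eq_of_eqB (hrep k hk).1.1.1.2)
    rw [e]; exact Cong.refl _
  · rw [sqNorm, hco hk, sum_vecOf _ (fun a => a ^ 2)]
    simp only [pow_two]
    exact (hrep k hk).1.2
  let N : leechLattice →+ leechLattice :=
    AddMonoidHom.mk' (fun v => ∑ i ∈ Finset.range p, t ^ i • v) fun a b => by
      simp only [smul_add', Finset.sum_add_distrib]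
  have hav : ∀ n (v : leechLattice) (l : List ℤ), (v : GolayPt → ℤ) = vecOf l →
      ((∑ i ∈ Finset.range n, t ^ i • v : leechLattice) : GolayPt → ℤ) = vecOf (avgL T n l) := by
    intro n
    induction n with
    | zero =>
      intro v l _
      funext q
      simp only [Finset.range_zero, Finset.sum_empty, avgL, vecOf_map_range]; rfl
    | succ n ih =>
      intro v l hl
      rw [Finset.sum_range_succ', pow_zero, one_smul, avgL, forceL_eq, forceL_eq, AddSubgroup.coe_add,
        show (∑ i ∈ Finset.range n, t ^ (i + 1) • v) = ∑ i ∈ Finset.range n, t ^ i • (t • v) from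
          Finset.sum_congr rfl fun i _ => by rw [pow_succ, mul_smul],
        ih (t • v) (monoL T 0 l) (by rw [ht, coe_stepEl hok, hl, ← vecOf_stepL hok]; rfl), hl]
      funext q
      rw [vecOf_map_range]
      exact add_comm _ _
  intro v hv
  suffices H : ∀ x (hx : x ∈ leechLattice), ∃ k < 2 ^ d, Cong (N ⟨x, hx⟩) (repAt reps k) by
    obtain ⟨k, hk, hc⟩ := H _ v.2
    refine ⟨k, hk, Cong.trans ?_ hc⟩
    have hi : ∀ i, Cong (t ^ i • v) v := by
      intro i
      induction i with
      | zero => rw [pow_zero, one_smul]; exact Cong.refl v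
      | succ i ih => rw [pow_succ', mul_smul]; exact (ih.smul t).trans hv
    have hsum : ∀ n, Cong (∑ i ∈ Finset.range n, t ^ i • v) ((n % 2) • v) := by
      intro n
      induction n with
      | zero => simp only [Finset.range_zero, Finset.sum_empty, Nat.zero_mod, zero_smul]; exact Cong.refl 0
      | succ n ih =>
        rw [Finset.sum_range_succ]
        refine (cong_add ih (hi n)).trans ?_
        rcases Nat.mod_two_eq_zero_or_one n with e | e
        · rw [e, show (n + 1) % 2 = 1 by omega, zero_smul, one_smul, zero_add]; exact Cong.refl v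
        · rw [e, show (n + 1) % 2 = 0 by omega, zero_smul, one_smul]; exact cong_zero_iff.2 (Cong.refl v)
    have h1 := hsum p
    rw [hp, one_smul] at h1
    exact h1.symm
  intro x hx
  have hx' : x ∈ genSub := by rw [genSub_eq]; exact hx
  induction hx' using AddSubgroup.closure_induction with
  | mem y hy =>
    obtain ⟨k, hk, rfl⟩ := hy
    refine ⟨_, (havg k hk).1, cong_of_congB ?_ (hco (havg k hk).1) (havg k hk).2⟩
    rw [forceL_eq]
    exact hav p _ _ (vecOf_toList _).symm
  | zero =>
    refine ⟨0, Nat.two_pow_pos d, ?_⟩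
    rw [(hz (Nat.two_pow_pos d)).2 rfl, show (⟨0, hx⟩ : leechLattice) = 0 from rfl, map_zero]
    exact Cong.refl 0
  | add a b ha hb iha ihb =>
    replace ha := genSub_le ha
    replace hb := genSub_le hb
    obtain ⟨k, hk, hka⟩ := iha ha
    obtain ⟨l, hl, hlb⟩ := ihb hb
    refine ⟨k ^^^ l, Nat.xor_lt_two_pow hk hl, ?_⟩
    rw [show (⟨a + b, hx⟩ : leechLattice) = ⟨a, ha⟩ + ⟨b, hb⟩ from rfl, map_add]
    exact (cong_add hka hlb).trans (hadd l k hk hl)
  | neg a ha iha =>
    replace ha := genSub_le ha
    obtain ⟨k, hk, hka⟩ := iha ha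
    refine ⟨k, hk, ?_⟩
    rw [show (⟨-a, hx⟩ : leechLattice) = -⟨a, ha⟩ from rfl, map_neg]
    exact (cong_neg _).trans hka

namespace FixedClasses

variable {t : Co0} {p d : ℕ} {rv : ℕ → leechLattice} (F : FixedClasses t p d rv)
include F

theorem cong_inj {k l : ℕ} (hk : k < 2 ^ d) (hl : l < 2 ^ d) (h : Cong (rv k) (rv l)) : k = l := by
  have h1 := (F.add k hk l hl).symm.trans (cong_zero_iff.2 h)
  by_contra hne
  have hlt := Nat.xor_lt_two_pow hk hl
  refine not_cong_zero (F.ne_zero _ hlt ?_) (F.short _ hlt) h1
  intro e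
  exact hne (Nat.xor_eq_zero_iff.1 e)

theorem norm_eq {v : leechLattice} {k : ℕ} (hk : k < 2 ^ d) (hc : Cong v (rv k))
    (h : sqNorm (v : GolayPt → ℤ) = 64) : sqNorm (rv k : GolayPt → ℤ) = 64 := by
  by_contra hne
  have hlt : sqNorm (v : GolayPt → ℤ) + sqNorm (rv k : GolayPt → ℤ) < 128 := by
    have := F.short k hk; omega
  rcases eq_or_neg_of_cong hc hlt with e | e
  · rw [← e] at hne; exact hne h
  · rw [e, NegMemClass.coe_neg, sqNorm_neg] at h; exact hne h

theorem pow_fix {k : ℕ} (hk : k < 2 ^ d) : ∀ i : ℕ, Cong (t ^ i • rv k) (rv k)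
  | 0 => by rw [pow_zero, one_smul]; exact Cong.refl _
  | i + 1 => by rw [pow_succ', mul_smul]; exact ((pow_fix hk i).smul t).trans (F.fix k hk)

end FixedClasses

end CfsgLib.MonsterType
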