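import Cfsg.Agent.Lib.MonsterType.Normal
import Cfsg.Agent.Lib.MonsterType.Words
import Cfsg.Agent.Lib.LargeXS.OfCommutators
import Cfsg.Agent.Lib.LargeXS.Congr

/-! The centralizer of an element of odd prime order whose action on the lattice modulo two has known
fixed classes. -/

set_option autoImplicit false
set_option linter.style.haveILetI false

namespace CfsgLib.MonsterType

open Cfsg CfsgLib CfsgLib.Leech CfsgLib.MonsterQ
open scoped Pointwise

variable {G : Type*} [Group G]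

/-- The data: an element `b` of odd prime order in `C(z)` over the lattice automorphism `t`, whose
fixed classes are listed by `rv`. -/
structure CentData (z : G) (Q : Subgroup G) (π : ↥(Subgroup.centralizer ({z} : Set G)) →* Spor.Co1)
    (θ : leechLattice → G) (b : G) (p d : ℕ) (t : Co0) (rv : ℕ → leechLattice) : Prop where
  hyp : Hyp z Q π θ
  fixed : FixedClasses t p d rv
  prime : p.Prime
  odd : p ≠ 2
  ord : orderOf b = p
  mem : b ∈ Subgroup.centralizer ({z} : Set G)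
  proj : π ⟨b, mem⟩ = (QuotientGroup.mk t : Spor.Co1)

namespace CentData

variable {z : G} {Q : Subgroup G} {π : ↥(Subgroup.centralizer ({z} : Set G)) →* Spor.Co1}
  {θ : leechLattice → G} {b : G} {p d : ℕ} {t : Co0} {rv : ℕ → leechLattice} (D : CentData z Q π θ b p d t rv)
include D

theorem podd : p % 2 = 1 := D.prime.eq_two_or_odd.resolve_left D.odd

theorem bp : b ^ p = 1 := by rw [← D.ord]; exact pow_orderOf_eq_one b

theorem proj_pow (j : ℕ) :
    π ⟨b ^ j, pow_mem D.mem j⟩ = (QuotientGroup.mk (t ^ j) : Spor.Co1) := by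
  rw [show (⟨b ^ j, pow_mem D.mem j⟩ : ↥(Subgroup.centralizer ({z} : Set G))) = ⟨b, D.mem⟩ ^ j from rfl,
    map_pow, D.proj, QuotientGroup.mk_pow]

/-- Powers of `b` meet `Q` trivially. -/
theorem pow_eq_one_of_mem {j : ℕ} (h : b ^ j ∈ Q) : b ^ j = 1 := by
  obtain ⟨k, hk⟩ := D.hyp.S.two ⟨b ^ j, h⟩
  have hk' : (b ^ j) ^ 2 ^ k = 1 := congrArg Subtype.val hk
  refine orderOf_eq_one_iff.1 (Nat.eq_one_of_dvd_coprimes (a := 2 ^ k) (b := p) ?_
    (orderOf_dvd_of_pow_eq_one hk') ?_)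
  · exact Nat.Coprime.pow_left k ((Nat.coprime_primes Nat.prime_two D.prime).2 (Ne.symm D.odd))
  · refine orderOf_dvd_of_pow_eq_one ?_
    rw [← pow_mul, mul_comm, pow_mul, D.bp, one_pow]

theorem t_ne_one : t ≠ 1 := by
  intro e
  have h : (b : G) ∈ Q := (D.hyp.ker ⟨b, D.mem⟩).1 (by rw [D.proj, e, QuotientGroup.mk_one])
  have := D.pow_eq_one_of_mem (j := 1) (by rwa [pow_one])
  rw [pow_one] at this
  have ho := D.ord
  rw [this, orderOf_one] at ho
  exact D.prime.one_lt.ne ho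

theorem cls_conj_b {x : G} {v : leechLattice} (hx : Cls z θ x v) : Cls z θ (b * x * b⁻¹) (t • v) :=
  D.hyp.cls_conj hx ⟨b, D.mem⟩ D.proj

theorem bz : b * z * b⁻¹ = z := by
  rw [Subgroup.mem_centralizer_singleton_iff.1 D.mem, mul_inv_cancel_right]

/-- An element of `Q` is centralized by `b` exactly when its class is fixed. -/
theorem comm_iff {x : G} {v : leechLattice} (hx : Cls z θ x v) : x * b = b * x ↔ Cong (t • v) v := by
  constructor
  · intro h
    have h1 := D.cls_conj_b hx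
    rw [← h, mul_inv_cancel_right] at h1
    exact D.hyp.cong_of_cls h1 hx
  · intro h
    rcases D.hyp.eq_of_cls hx (D.hyp.cls_of_cong (D.cls_conj_b hx) h) with e | e
    · exact (mul_inv_eq_iff_eq_mul.1 e).symm
    · exfalso
      have hn : ∀ n, b ^ n * x * (b ^ n)⁻¹ = x * z ^ n := by
        intro n
        induction n with
        | zero => simp
        | succ n ih =>
          rw [pow_succ', pow_succ, mul_inv_rev,
            show b * b ^ n * x * ((b ^ n)⁻¹ * b⁻¹) = b * (b ^ n * x * (b ^ n)⁻¹) * b⁻¹ by group, ih,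
            show b * (x * z ^ n) * b⁻¹ = (b * x * b⁻¹) * (b * z * b⁻¹) ^ n by rw [conj_pow]; group,
            e, D.bz, mul_assoc, ← pow_succ', pow_succ]
      have h1 := hn p
      rw [D.bp, one_mul, inv_one, mul_one] at h1
      have hzp : z ^ p = z := by
        obtain ⟨m, hm⟩ : ∃ m, p = 2 * m + 1 := ⟨p / 2, by have := D.podd; omega⟩
        rw [hm, pow_succ, pow_mul, pow_two, D.hyp.zz, one_pow, one_mul]
      rw [hzp, left_eq_mul] at h1
      exact D.hyp.S.ne_one h1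

/-- The fixed subgroup of `b` in `Q`. -/
def CQ (_D : CentData z Q π θ b p d t rv) : Subgroup G := Q ⊓ Subgroup.centralizer ({b} : Set G)

theorem mem_CQ {x : G} : x ∈ D.CQ ↔ x ∈ Q ∧ x * b = b * x := by
  rw [CQ, Subgroup.mem_inf, Subgroup.mem_centralizer_singleton_iff]

theorem cls_rv_mem {x : G} {k : ℕ} (hk : k < 2 ^ d) (hx : Cls z θ x (rv k)) : x ∈ D.CQ :=
  D.mem_CQ.2 ⟨D.hyp.cls_mem hx, (D.comm_iff hx).2 (D.fixed.fix k hk)⟩

theorem exists_rv {x : G} (hx : x ∈ D.CQ) : ∃ k < 2 ^ d, Cls z θ x (rv k) := by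
  obtain ⟨hxQ, hxb⟩ := D.mem_CQ.1 hx
  obtain ⟨v, hv⟩ := D.hyp.cover x hxQ
  obtain ⟨k, hk, hc⟩ := D.fixed.cover v ((D.comm_iff hv).1 hxb)
  exact ⟨k, hk, D.hyp.cls_of_cong hv hc⟩

theorem z_mem_CQ : z ∈ D.CQ :=
  D.mem_CQ.2 ⟨D.hyp.S.mem, (Subgroup.mem_centralizer_singleton_iff.1 D.mem).symm⟩

theorem card_CQ [Finite G] : Nat.card D.CQ = 2 ^ (d + 1) := by
  classical
  let f : Fin (2 ^ d) × Bool → D.CQ := fun a => ⟨θ (rv a.1) * (bif a.2 then z else 1),
    D.cls_rv_mem a.1.2 (by cases a.2; exacts [Or.inl (mul_one _), Or.inr rfl])⟩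
  have hf : Function.Bijective f := by
    constructor
    · rintro ⟨k, e⟩ ⟨l, e'⟩ h
      have h' : θ (rv k) * (bif e then z else 1) = θ (rv l) * (bif e' then z else 1) := congrArg Subtype.val h
      have hk : Cls z θ (θ (rv k) * (bif e then z else 1)) (rv k) := by
        cases e; exacts [Or.inl (mul_one _), Or.inr rfl]
      have hl : Cls z θ (θ (rv k) * (bif e then z else 1)) (rv l) := by
        rw [h']; cases e'; exacts [Or.inl (mul_one _), Or.inr rfl]
      have hkl := Fin.ext (D.fixed.cong_inj k.2 l.2 (D.hyp.cong_of_cls hk hl))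
      subst hkl
      have := mul_left_cancel h'
      cases e <;> cases e' <;> simp_all [D.hyp.S.ne_one, D.hyp.S.ne_one.symm]
    · rintro ⟨x, hx⟩
      obtain ⟨k, hk, hc | hc⟩ := D.exists_rv hx
      · exact ⟨(⟨k, hk⟩, false), Subtype.ext (by show _ * (1 : G) = x; rw [mul_one, hc])⟩
      · exact ⟨(⟨k, hk⟩, true), Subtype.ext hc.symm⟩
  rw [← Nat.card_congr (Equiv.ofBijective f hf), Nat.card_prod, Nat.card_fin, Nat.card_eq_fintype_card,
    Fintype.card_bool, pow_succ]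

/-- The centre of the fixed subgroup is `⟨z⟩`. -/
theorem center_CQ {x : G} (hx : x ∈ D.CQ) (hc : ∀ y ∈ D.CQ, x * y = y * x) : x = 1 ∨ x = z := by
  classical
  have hxQ := (D.mem_CQ.1 hx).1
  have hxb := (D.mem_CQ.1 hx).2
  set f := D.hyp.sgn (U := Q) le_rfl hxQ with hf
  have hone : ∀ y : ↥Q, f y = 1 ↔ (y : G) * x = x * (y : G) := fun y => by
    simp only [hf, Hyp.sgn, MonoidHom.mk'_apply]
    split_ifs with h <;> simp [h]
  let σ : leechLattice → ℤˣ := fun v => f ⟨θ v, D.hyp.mem v⟩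
  have hcls : ∀ (y : ↥Q) v, Cls z θ (y : G) v → f y = σ v := by
    intro y v hy
    rcases hy with h | h
    · exact congrArg f (Subtype.ext h)
    · rw [show y = ⟨θ v, D.hyp.mem v⟩ * ⟨z, D.hyp.S.mem⟩ from Subtype.ext h, map_mul,
        (hone ⟨z, D.hyp.S.mem⟩).2 (D.hyp.z_comm hxQ), mul_one]
  have hadd : ∀ v w, σ (v + w) = σ v * σ w := by
    intro v w
    have := hcls (⟨θ v, D.hyp.mem v⟩ * ⟨θ w, D.hyp.mem w⟩) (v + w) (D.hyp.cls_mul (Or.inl rfl) (Or.inl rfl))
    rw [map_mul] at this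
    exact this.symm
  have ht : ∀ v, σ (t • v) = σ v := by
    intro v
    have h1 := D.cls_conj_b (Or.inl rfl : Cls z θ (θ v) v)
    have hiff : (b * θ v * b⁻¹) * x = x * (b * θ v * b⁻¹) ↔ θ v * x = x * θ v := by
      constructor <;> intro h
      · calc θ v * x = b⁻¹ * ((b * θ v * b⁻¹) * (b * x)) := by group
          _ = b⁻¹ * (((b * θ v * b⁻¹) * x) * b) := by rw [← hxb]; group
          _ = b⁻¹ * (x * b) * θ v := by rw [h]; group
          _ = x * θ v := by rw [hxb]; group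
      · calc b * θ v * b⁻¹ * x = b * θ v * (b⁻¹ * x) := by group
          _ = b * (θ v * x) * b⁻¹ := by
            rw [show b⁻¹ * x = x * b⁻¹ by
              rw [eq_mul_inv_iff_mul_eq, mul_assoc, hxb, inv_mul_cancel_left]]
            group
          _ = (b * x) * θ v * b⁻¹ := by rw [h]; group
          _ = x * (b * θ v * b⁻¹) := by rw [← hxb]; group
    have h2 := hcls ⟨_, D.hyp.cls_mem h1⟩ _ h1
    rw [← h2]
    rcases Int.units_eq_one_or (σ v) with e | e
    · rw [e, hone]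
      exact hiff.2 ((hone _).1 e)
    · rcases Int.units_eq_one_or (f ⟨_, D.hyp.cls_mem h1⟩) with e' | e'
      · have := (hone ⟨θ v, D.hyp.mem v⟩).2 (hiff.1 ((hone _).1 e'))
        rw [show f ⟨θ v, D.hyp.mem v⟩ = σ v from rfl, e] at this
        exact absurd this (by decide)
      · rw [e, e']
  have hti : ∀ (i : ℕ) v, σ (t ^ i • v) = σ v := by
    intro i v
    induction i with
    | zero => rw [pow_zero, one_smul]
    | succ i ih => rw [pow_succ', mul_smul, ht, ih]
  have hall : ∀ v, σ v = 1 := by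
    intro v
    have hsum : ∀ n, σ (∑ i ∈ Finset.range n, t ^ i • v) = σ v ^ n := by
      intro n
      induction n with
      | zero =>
        rw [Finset.range_zero, Finset.sum_empty, pow_zero]
        have h00 := hadd 0 0
        rw [add_zero] at h00
        exact left_eq_mul.1 h00
      | succ n ih => rw [Finset.sum_range_succ, hadd, ih, hti, pow_succ]
    have hfix : t • (∑ i ∈ Finset.range p, t ^ i • v) = ∑ i ∈ Finset.range p, t ^ i • v := by
      have h1 := Finset.sum_range_succ' (fun i => t ^ i • v) p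
      have h2 := Finset.sum_range_succ (fun i => t ^ i • v) p
      rw [D.fixed.pow, one_smul] at h2
      simp only [pow_zero, one_smul] at h1
      rw [h2] at h1
      rw [smul_sum']
      simp only [← mul_smul, ← pow_succ']
      exact (add_right_cancel h1).symm
    have hy : θ (∑ i ∈ Finset.range p, t ^ i • v) ∈ D.CQ :=
      D.mem_CQ.2 ⟨D.hyp.mem _, (D.comm_iff (Or.inl rfl)).2 (by rw [hfix]; exact Cong.refl _)⟩
    have h1 : σ (∑ i ∈ Finset.range p, t ^ i • v) = 1 := (hone _).2 (hc _ hy).symm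
    rw [hsum] at h1
    rcases Int.units_eq_one_or (σ v) with e | e
    · exact e
    · rw [e, (Nat.odd_iff.2 D.podd).neg_one_pow] at h1
      exact absurd h1 (by decide)
  refine D.hyp.S.center x hxQ fun y hy => ?_
  obtain ⟨v, hv⟩ := D.hyp.cover y hy
  exact ((hone ⟨y, hy⟩).1 ((hcls ⟨y, hy⟩ v hv).trans (hall v))).symm

/-- A noncentral element of the fixed subgroup is moved to its other lift by that subgroup. -/
theorem flip_CQ {x : G} (hx : x ∈ D.CQ) (h1 : x ≠ 1) (hz : x ≠ z) :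
    ∃ q ∈ D.CQ, q * x * q⁻¹ = x * z := by
  by_contra hcon
  push Not at hcon
  rcases D.center_CQ hx (fun y hy => by
    rcases D.hyp.S.comm_z_left (D.mem_CQ.1 hy).1 (D.mem_CQ.1 hx).1 with h | h
    · exact h.symm
    · exfalso
      refine hcon y hy ?_
      rw [h, mul_assoc x y z, D.hyp.S.le_cent y (D.mem_CQ.1 hy).1]
      group) with e | e
  exacts [h1 e, hz e]

/-- Automorphisms normalising `⟨t⟩` lift to elements of `C(z)` normalising `⟨b⟩`. -/
theorem lift [Finite G] {g : Co0} {k : ℕ} (hg : g * t * g⁻¹ = t ^ k) :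
    ∃ h : G, ∃ hh : h ∈ Subgroup.centralizer ({z} : Set G),
      π ⟨h, hh⟩ = (QuotientGroup.mk g : Spor.Co1) ∧ h * b * h⁻¹ = b ^ k := by
  classical
  haveI := Fact.mk D.prime
  obtain ⟨⟨h₀, hh₀⟩, hπ₀⟩ := D.hyp.surj (QuotientGroup.mk g)
  set P : Subgroup G := Q ⊔ Subgroup.zpowers b
  have hPz : P ≤ Subgroup.centralizer ({z} : Set G) := sup_le D.hyp.le ((Subgroup.zpowers_le).2 D.mem)
  have hbP : b ∈ P := Subgroup.mem_sup_right (Subgroup.mem_zpowers b)
  set c := h₀ * b * h₀⁻¹ with hc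
  have hcz : c ∈ Subgroup.centralizer ({z} : Set G) := mul_mem (mul_mem hh₀ D.mem) (inv_mem hh₀)
  have hcπ : π ⟨c, hcz⟩ = (QuotientGroup.mk (t ^ k) : Spor.Co1) := by
    rw [show (⟨c, hcz⟩ : ↥(Subgroup.centralizer ({z} : Set G))) = ⟨h₀, hh₀⟩ * ⟨b, D.mem⟩ * ⟨h₀, hh₀⟩⁻¹ from rfl,
      map_mul, map_mul, map_inv, hπ₀, D.proj, ← QuotientGroup.mk_inv, ← QuotientGroup.mk_mul,
      ← QuotientGroup.mk_mul, hg]
  have hnorm : ∀ x ∈ Subgroup.zpowers b, x ∈ Subgroup.normalizer (Q : Set G) := fun x hx => by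
    have hxz : x * z = z * x :=
      Subgroup.mem_centralizer_singleton_iff.1 ((Subgroup.zpowers_le).2 D.mem hx)
    refine Subgroup.mem_normalizer_iff.2 fun q => ⟨fun hq => D.hyp.S.normal x hxz q hq, fun hq => ?_⟩
    have h1 := D.hyp.S.normal x⁻¹ (by rw [inv_mul_eq_iff_eq_mul, ← mul_assoc, hxz, mul_inv_cancel_right]) _ hq
    rwa [show x⁻¹ * (x * q * x⁻¹) * x⁻¹⁻¹ = q by group] at h1
  have hcP : c ∈ P := by
    have h1 : c * (b ^ k)⁻¹ ∈ Q := by
      refine (D.hyp.ker ⟨_, mul_mem hcz (inv_mem (pow_mem D.mem k))⟩).1 ?_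
      rw [show (⟨c * (b ^ k)⁻¹, _⟩ : ↥(Subgroup.centralizer ({z} : Set G))) = ⟨c, hcz⟩ * ⟨b ^ k, pow_mem D.mem k⟩⁻¹ from rfl,
        map_mul, map_inv, hcπ, D.proj_pow, mul_inv_cancel]
    have := mul_mem (Subgroup.mem_sup_left (T := Subgroup.zpowers b) h1) (pow_mem hbP k)
    rwa [inv_mul_cancel_right] at this
  have hcard : Nat.card P = 2 ^ 25 * p := by
    let f : ↥P →* Spor.Co1 := π.comp (Subgroup.inclusion hPz)
    have hker : Nat.card f.ker = 2 ^ 25 := by
      rw [← D.hyp.card]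
      exact Nat.card_congr
        { toFun := fun a => ⟨((a : ↥P) : G), (D.hyp.ker _).1 a.2⟩
          invFun := fun a => ⟨⟨(a : G), Subgroup.mem_sup_left a.2⟩, (D.hyp.ker _).2 a.2⟩
          left_inv := fun a => rfl
          right_inv := fun a => rfl }
    have hrange : f.range = Subgroup.zpowers (QuotientGroup.mk t : Spor.Co1) := by
      refine le_antisymm ?_ ((Subgroup.zpowers_le).2 ⟨⟨b, hbP⟩, D.proj⟩)
      rintro _ ⟨a, rfl⟩
      have ha : (a : G) ∈ (Q : Set G) * (Subgroup.zpowers b : Set G) := by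
        rw [← Subgroup.coe_mul_of_right_le_normalizer_left Q _ hnorm]
        exact a.2
      obtain ⟨q, hq, c', hc', e⟩ := ha
      rw [SetLike.mem_coe, ← mem_powers_iff_mem_zpowers] at hc'
      obtain ⟨j, rfl⟩ := hc'
      rw [← mem_powers_iff_mem_zpowers]
      refine ⟨j, ?_⟩
      show (QuotientGroup.mk t : Spor.Co1) ^ j = π (Subgroup.inclusion hPz a)
      rw [show Subgroup.inclusion hPz a = ⟨q, D.hyp.le hq⟩ * ⟨b ^ j, pow_mem D.mem j⟩ from Subtype.ext e.symm,
        map_mul, (D.hyp.ker ⟨q, D.hyp.le hq⟩).2 hq, one_mul, D.proj_pow, QuotientGroup.mk_pow]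
    rw [← Subgroup.card_mul_index f.ker, Subgroup.index_ker, hker, hrange, Nat.card_zpowers]
    congr 1
    refine orderOf_eq_prime (by rw [← QuotientGroup.mk_pow, D.fixed.pow, QuotientGroup.mk_one]) ?_
    rw [← D.proj]
    intro e
    have := D.pow_eq_one_of_mem (j := 1) (by rw [pow_one]; exact (D.hyp.ker _).1 e)
    rw [pow_one] at this
    have ho := D.ord
    rw [this, orderOf_one] at ho
    exact D.prime.one_lt.ne ho
  have hfac : (Nat.card P).factorization p = 1 := by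
    rw [hcard, Nat.factorization_mul (by norm_num) D.prime.ne_zero, Finsupp.add_apply,
      Nat.Prime.factorization_pow Nat.prime_two, Finsupp.single_eq_of_ne D.odd, D.prime.factorization,
      Finsupp.single_eq_same]
  have hcord : orderOf c = p := by rw [hc, ← MulAut.conj_apply, MulEquiv.orderOf_eq, D.ord]
  obtain ⟨g', hg', j, hj⟩ := conj_sylow_elem p hcP hbP hcord D.ord hfac
  have hg'' : g' ∈ (Q : Set G) * (Subgroup.zpowers b : Set G) := by
    rw [← Subgroup.coe_mul_of_right_le_normalizer_left Q _ hnorm]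
    exact hg'
  obtain ⟨q, hq, c', hc', e⟩ := hg''
  -- move the power of b to the other side
  have hq' : c'⁻¹ * q * c' ∈ Q := by
    have := (Subgroup.mem_normalizer_iff.1 (hnorm _ (inv_mem hc')) q).1 hq
    rwa [inv_inv] at this
  have hb' : c'⁻¹ * b ^ j * c' = b ^ j := by
    rw [SetLike.mem_coe, ← mem_powers_iff_mem_zpowers] at hc'
    obtain ⟨i, rfl⟩ := hc'
    rw [mul_assoc, ← pow_add, add_comm, pow_add, inv_mul_cancel_left]
  refine ⟨c'⁻¹ * q * c' * h₀, mul_mem (D.hyp.le hq') hh₀, ?_, ?_⟩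
  · rw [show (⟨c'⁻¹ * q * c' * h₀, _⟩ : ↥(Subgroup.centralizer ({z} : Set G))) = ⟨_, D.hyp.le hq'⟩ * ⟨h₀, hh₀⟩ from rfl,
      map_mul, (D.hyp.ker ⟨_, D.hyp.le hq'⟩).2 hq', one_mul, hπ₀]
  · have h1 : c'⁻¹ * q * c' * h₀ * b * (c'⁻¹ * q * c' * h₀)⁻¹ = b ^ j := by
      calc c'⁻¹ * q * c' * h₀ * b * (c'⁻¹ * q * c' * h₀)⁻¹
          = c'⁻¹ * ((q * c') * (h₀ * b * h₀⁻¹) * (q * c')⁻¹) * c' := by group
        _ = b ^ j := by
            rw [show q * c' = g' from e, ← hc, hj, hb']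
    rw [h1]
    have hπj : (QuotientGroup.mk (t ^ j) : Spor.Co1) = QuotientGroup.mk (t ^ k) := by
      rw [← D.proj_pow]
      have e2 : (⟨b ^ j, pow_mem D.mem j⟩ : ↥(Subgroup.centralizer ({z} : Set G))) =
          ⟨_, D.hyp.le hq'⟩ * ⟨c, hcz⟩ * ⟨_, D.hyp.le hq'⟩⁻¹ := Subtype.ext (by
        show b ^ j = c'⁻¹ * q * c' * c * (c'⁻¹ * q * c')⁻¹
        rw [← h1, hc]
        group)
      rw [e2, map_mul, map_mul, map_inv, (D.hyp.ker ⟨_, D.hyp.le hq'⟩).2 hq', hcπ]
      group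
    have h2 : b ^ j * (b ^ k)⁻¹ ∈ Q := by
      refine (D.hyp.ker ⟨_, mul_mem (pow_mem D.mem j) (inv_mem (pow_mem D.mem k))⟩).1 ?_
      rw [show (⟨b ^ j * (b ^ k)⁻¹, _⟩ : ↥(Subgroup.centralizer ({z} : Set G))) =
        ⟨b ^ j, pow_mem D.mem j⟩ * ⟨b ^ k, pow_mem D.mem k⟩⁻¹ from rfl, map_mul, map_inv, D.proj_pow,
        D.proj_pow, hπj, mul_inv_cancel]
    obtain ⟨m, hm⟩ : b ^ j * (b ^ k)⁻¹ ∈ Submonoid.powers b := by
      rw [mem_powers_iff_mem_zpowers]
      exact mul_mem (pow_mem (Subgroup.mem_zpowers b) j) (inv_mem (pow_mem (Subgroup.mem_zpowers b) k))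
    have hm' : b ^ m = b ^ j * (b ^ k)⁻¹ := hm
    have := D.pow_eq_one_of_mem (j := m) (hm' ▸ h2)
    rw [hm', mul_inv_eq_one] at this
    exact this

/-- An element of `C(z)` normalising `⟨b⟩` projects to an automorphism normalising `⟨t⟩`. -/
theorem conj_t {h : G} (hh : h ∈ Subgroup.centralizer ({z} : Set G)) {g : Co0}
    (hg : π ⟨h, hh⟩ = (QuotientGroup.mk g : Spor.Co1)) {k : ℕ} (hk : h * b * h⁻¹ = b ^ k) :
    g * t * g⁻¹ = t ^ k := by
  have h1 : (QuotientGroup.mk (g * t * g⁻¹) : Spor.Co1) = QuotientGroup.mk (t ^ k) := by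
    rw [QuotientGroup.mk_mul, QuotientGroup.mk_mul, QuotientGroup.mk_inv, ← hg, ← D.proj, ← D.proj_pow k,
      ← map_inv, ← map_mul, ← map_mul]
    congr 1
    exact Subtype.ext hk
  rw [QuotientGroup.eq] at h1
  set c := (g * t * g⁻¹)⁻¹ * t ^ k with hc
  have hcc : c ∈ ({1, negEl} : Set Co0) := by rw [← center_eq]; exact h1
  rcases hcc with e | e
  · exact inv_mul_eq_one.1 e
  · exfalso
    rw [Set.mem_singleton_iff] at e
    have e1 : t ^ k = g * t * g⁻¹ * negEl := by rw [← e, hc, mul_inv_cancel_left]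
    have e2 : (t ^ k) ^ p = (g * t * g⁻¹) ^ p * negEl ^ p := by
      rw [e1, Commute.mul_pow]
      exact ((Subgroup.mem_center_iff.1 (e ▸ h1) _) :)
    rw [← pow_mul, mul_comm, pow_mul, D.fixed.pow, one_pow, conj_pow, D.fixed.pow, mul_one, mul_inv_cancel,
      one_mul] at e2
    obtain ⟨m, hm⟩ : ∃ m, p = 2 * m + 1 := ⟨p / 2, by have := D.podd; omega⟩
    rw [hm, pow_succ, pow_mul, pow_two, sq_negEl, one_pow, one_mul] at e2
    have h8 := congrArg (fun g : Co0 => ((g • eightVec none : leechLattice) : GolayPt → ℤ) none) e2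
    simp [negEl_smul, coe_eightVec] at h8

theorem comm_t {h : G} (hh : h ∈ Subgroup.centralizer ({z} : Set G)) {g : Co0}
    (hg : π ⟨h, hh⟩ = (QuotientGroup.mk g : Spor.Co1)) (hk : h * b = b * h) : g * t = t * g := by
  have := D.conj_t hh hg (k := 1) (by rw [pow_one, hk, mul_inv_cancel_right])
  rw [pow_one] at this
  exact mul_inv_eq_iff_eq_mul.1 this

end CentData

end CfsgLib.MonsterType
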