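import Cfsg.Agent.Lib.MonsterType.Normal

/-! Sign changes in any frame lift to involutions of the centralizer. -/

set_option autoImplicit false
set_option linter.style.haveILetI false

namespace CfsgLib.MonsterType

open Cfsg CfsgLib CfsgLib.Leech CfsgLib.MonsterQ

variable {G : Type*} [Group G]

theorem exists_invol_lift [Finite G] {z : G} {Q : Subgroup G}
    {π : ↥(Subgroup.centralizer ({z} : Set G)) →* Spor.Co1} {θ : leechLattice → G} (H : Hyp z Q π θ)
    (u : Co0) {d : Co0} (hd : d ∈ diagHom.range) :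
    ∃ h : G, ∃ hh : h ∈ Subgroup.centralizer ({z} : Set G),
      h * h = 1 ∧ π ⟨h, hh⟩ = (QuotientGroup.mk (u * d * u⁻¹) : Spor.Co1) := by
  classical
  set π' := twistHom π u with hπ'
  set θ' : leechLattice → G := fun v => θ (u • v)
  have H' : Hyp z Q π' θ' := twist H u
  have hcls : Cls z θ' (θ' (eightVec none)) (eightVec none) := Or.inl rfl
  obtain ⟨hxQ, hxc, hxz⟩ := H'.conj_iff.2 ⟨_, hcls, sqNorm_eightVec none⟩
  obtain ⟨g, hg⟩ := isConj_iff.1 hxc
  rw [← hg] at hcls hxQ hxz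
  set Qs := Q.map (MulAut.conj g).toMonoidHom with hQs
  obtain ⟨hcard, g', hr, -⟩ := H'.pair_structure hxQ hxz
  -- the image of the other subgroup is the group of sign changes
  set K := (Hyp.rImage π' Q g).comap (QuotientGroup.mk' (Subgroup.center Co0)) with hK
  have hKd : K = diagHom.range := by
    have hX : (Hyp.xImage π' (g * z * g⁻¹)).comap (QuotientGroup.mk' (Subgroup.center Co0)) = monoSub := by
      rw [H'.xImage_comap hcls not_cong_eight, classStab_eightVec]
    obtain ⟨hRX, hRn⟩ := H'.rImage_normal hxQ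
    have hK2 : IsPGroup 2 K := by
      refine (H'.rImage_two g).comap_of_ker_isPGroup _ ?_
      rw [QuotientGroup.ker_mk']
      exact IsPGroup.of_card (n := 1) card_center
    have hle : K ≤ monoSub := hX ▸ Subgroup.comap_mono hRX
    have hmem : ∀ b : Co0, b ∈ K → ∀ c ∈ monoSub, c * b * c⁻¹ ∈ K := fun b hb c hc => by
      show QuotientGroup.mk' _ (c * b * c⁻¹) ∈ Hyp.rImage π' Q g
      rw [map_mul, map_mul, map_inv]
      exact hRn _ (by rw [← hX] at hc; exact hc) _ hb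
    have hnorm : monoSub ≤ Subgroup.normalizer (K : Set Co0) := fun a ha =>
      Subgroup.mem_normalizer_iff.2 fun b => ⟨fun hb => hmem b hb a ha, fun hb => by
        have := hmem _ hb a⁻¹ (inv_mem ha)
        rwa [show a⁻¹ * (a * b * a⁻¹) * a⁻¹⁻¹ = b by group] at this⟩
    refine Subgroup.eq_of_le_of_card_ge (le_diag_of_normal K hK2 hle hnorm) ?_
    have h2 := card_comap_toCo1 1 (Hyp.rImage π' Q g)
    have e : toCo1 1 = QuotientGroup.mk' (Subgroup.center Co0) := MonoidHom.ext fun x => by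
      show (QuotientGroup.mk (1 * x * 1⁻¹) : Spor.Co1) = QuotientGroup.mk x
      rw [one_mul, inv_one, mul_one]
    rw [e] at h2
    rw [card_diag, show Nat.card K = _ from h2]
    have hmul := H'.card_inter_mul hxQ hxz
    rw [hcard] at hmul
    omega
  obtain ⟨⟨h₀, hh₀⟩, ⟨hh₀Qs, -⟩, hπ₀⟩ : (QuotientGroup.mk d : Spor.Co1) ∈ Hyp.rImage π' Q g := hKd.ge hd
  have back : ∀ (h : G) (hh : h ∈ Subgroup.centralizer ({z} : Set G)),
      π' ⟨h, hh⟩ = (QuotientGroup.mk d : Spor.Co1) →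
      π ⟨h, hh⟩ = (QuotientGroup.mk (u * d * u⁻¹) : Spor.Co1) := fun h hh e => (twistHom_apply π u ⟨h, hh⟩ d).1 e
  by_cases h0Q : h₀ ∈ Q
  · refine ⟨1, one_mem _, one_mul 1, back 1 (one_mem _) ?_⟩
    rw [show (⟨1, one_mem _⟩ : ↥(Subgroup.centralizer ({z} : Set G))) = 1 from rfl, map_one, ← hπ₀]
    exact ((H'.ker _).2 h0Q).symm
  set x := g * z * g⁻¹ with hxdef
  have hxc' : ∀ a ∈ Qs, a * x = x * a := fun a ha => by
    have h1 := H'.S.le_cent _ (mem_conjQ.1 ha)
    calc a * x = g * ((g⁻¹ * a * g) * z) * g⁻¹ := by rw [hxdef]; group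
      _ = x * a := by rw [h1, hxdef]; group
  have hsq : h₀ * h₀ = 1 ∨ h₀ * h₀ = x := by
    have hh₀Qs' : h₀ ∈ Qs := hh₀Qs
    rcases H'.S.sq _ (mem_conjQ.1 hh₀Qs') with e | e
    · left
      calc h₀ * h₀ = g * (g⁻¹ * h₀ * g * (g⁻¹ * h₀ * g)) * g⁻¹ := by group
        _ = 1 := by rw [e]; group
    · right
      calc h₀ * h₀ = g * (g⁻¹ * h₀ * g * (g⁻¹ * h₀ * g)) * g⁻¹ := by group
        _ = x := by rw [e]
  rcases hsq with e | e
  · exact ⟨h₀, hh₀, e, back _ hh₀ hπ₀⟩
  obtain ⟨hab, hinv⟩ := H'.inter_props hxQ hxz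
  obtain ⟨q, hq, hne⟩ : ∃ q ∈ Q ⊓ Qs, h₀ * q ≠ q * h₀ := by
    by_contra hcon
    push Not at hcon
    set U := (Q ⊓ Qs) ⊔ Subgroup.zpowers h₀
    have hUle : U ≤ Qs := sup_le inf_le_right ((Subgroup.zpowers_le).2 hh₀Qs)
    have hgen : ∀ a ∈ U, ∀ c ∈ (Q ⊓ Qs : Subgroup G), a * c = c * a := fun a ha c hc => by
      have : U ≤ Subgroup.centralizer ({c} : Set G) := sup_le
        (fun e he => Subgroup.mem_centralizer_singleton_iff.2 (hab e he c hc))
        ((Subgroup.zpowers_le).2 (Subgroup.mem_centralizer_singleton_iff.2 (hcon c hc)))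
      exact Subgroup.mem_centralizer_singleton_iff.1 (this ha)
    have hgen' : ∀ a ∈ U, a * h₀ = h₀ * a := fun a ha => by
      have : U ≤ Subgroup.centralizer ({h₀} : Set G) := sup_le
        (fun e he => Subgroup.mem_centralizer_singleton_iff.2 (hcon e he).symm)
        ((Subgroup.zpowers_le).2 (Subgroup.mem_centralizer_singleton_iff.2 rfl))
      exact Subgroup.mem_centralizer_singleton_iff.1 (this ha)
    have hUab : ∀ a ∈ U, ∀ c ∈ U, a * c = c * a := fun a ha c hc => by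
      have : U ≤ Subgroup.centralizer ({a} : Set G) := sup_le
        (fun e he => Subgroup.mem_centralizer_singleton_iff.2 (hgen a ha e he).symm)
        ((Subgroup.zpowers_le).2 (Subgroup.mem_centralizer_singleton_iff.2 (hgen' a ha).symm))
      exact (Subgroup.mem_centralizer_singleton_iff.1 (this hc)).symm
    set U' := U.map (MulAut.conj g⁻¹).toMonoidHom
    have hU'Q : U' ≤ Q := by
      rintro _ ⟨a, ha, rfl⟩
      have := mem_conjQ.1 (hUle ha)
      simpa using this
    have hb := H'.abelian_card hU'Q (by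
      rintro _ ⟨a, ha, rfl⟩ _ ⟨c, hc, rfl⟩
      rw [← map_mul, ← map_mul, hUab a ha c hc])
    rw [Subgroup.card_map_of_injective (f := (MulAut.conj g⁻¹).toMonoidHom) (MulAut.conj g⁻¹).injective, H'.card] at hb
    have hlt : (Q ⊓ Qs : Subgroup G) < U := lt_of_le_of_ne le_sup_left fun e' =>
      h0Q (e'.symm ▸ Subgroup.mem_sup_right (Subgroup.mem_zpowers h₀) : h₀ ∈ Q ⊓ Qs).1
    have h2 := LargeExtra.card_two_mul_le hlt
    rw [hcard] at h2
    have := Nat.mul_le_mul h2 h2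
    omega
  have hqh : q * h₀ = h₀ * q * x := (H'.conjQ_comm hq.2 hh₀Qs).resolve_left fun e' => hne e'.symm
  refine ⟨h₀ * q, mul_mem hh₀ (H.le hq.1), ?_, back _ _ ?_⟩
  · calc h₀ * q * (h₀ * q) = h₀ * (q * h₀) * q := by group
      _ = h₀ * h₀ * (q * (x * q)) := by rw [hqh]; group
      _ = x * (q * q * x) := by rw [e, ← hxc' q hq.2]; group
      _ = 1 := by
        rw [hinv q hq, one_mul]
        calc x * x = g * (z * z) * g⁻¹ := by rw [hxdef]; group
          _ = 1 := by rw [H'.zz]; group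
  · rw [show (⟨h₀ * q, _⟩ : ↥(Subgroup.centralizer ({z} : Set G))) = ⟨h₀, hh₀⟩ * ⟨q, H.le hq.1⟩ from rfl,
      map_mul, (H'.ker ⟨q, H.le hq.1⟩).2 hq.1, mul_one, hπ₀]

end CfsgLib.MonsterType
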