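import Cfsg.Agent.Lib.MonsterType.FiveRows

/-! Kernel checks of the generators of the centralizer of the element of order five. -/

set_option autoImplicit false

namespace CfsgLib.MonsterType.Five

open Cfsg CfsgLib CfsgLib.Leech CfsgLib.MonsterQ CfsgLib.MonsterType
open CfsgLib.Leech.Orbits (vecOf)

/-- A generating word. -/
def gen (j : ℕ) : List Step := FiveData.gens.getD j []

/-- A system of classes. -/
def sys (a : ℕ) : List ℕ := FiveData.systems.getD a []

/-- A composite of coded permutations of the points. -/
def evalC : List ℕ → ℕ → ℕ
  | [], i => i
  | g :: w, i => Trans.img (FiveData.permGens.getD g 0) (evalC w i)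

/-- The images of the basis classes under one generator. -/
def colsB (j : ℕ) : Bool :=
  (gen j).all stepOk &&
    (List.range 8).all fun i => Nat.blt ((FiveData.cols.getD j []).getD i 0) 256 &&
      mapsB (gen j) (row (2 ^ i)) (row ((FiveData.cols.getD j []).getD i 0))

theorem comm_check : ((List.range 7).all fun j => eqW (tS :: gen j) (gen j ++ [tS])) = true := by
  decide +kernel

theorem cols_check : ((List.range 7).all colsB) = true := by decide +kernel

theorem auto_check : eqW (tS :: FiveData.normStep) (FiveData.normStep ++ List.replicate 3 tS) = true := by
  decide +kernel

theorem systems_check : ((List.range 10).all fun a =>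
    Nat.beq (sys a).length 16 && decide (sys a).Nodup && (sys a).all (Nat.blt · 256) &&
      (List.range 10).all fun c => Nat.beq a c || Nat.blt ((sys a).filter fun k => (sys c).contains k).length 16) =
    true := by
  decide +kernel

theorem perms_check : ((List.range 7).all fun j => (List.range 10).all fun a =>
    (sys a).all fun k => (sys ((FiveData.perms.getD j []).getD a 10)).contains (imgK (FiveData.cols.getD j []) 8 k)) =
    true := by
  decide +kernel

theorem orbit_check : (FiveData.orbit.all fun e => Nat.beq (follow e.2 1) e.1 && e.2.all (Nat.blt · 7)) = true ∧
    ((List.range 256).all fun k => decide (normAt k = 64) == (FiveData.orbit.map Prod.fst).contains k) = true ∧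
    Nat.beq FiveData.orbit.length 75 = true := by
  decide +kernel

theorem frame_check : (leechB (vecOf (unitL 23)) && congB (row 1) (unitL 23)) = true := by decide +kernel

theorem id_check : (Trans.okT idCode && (List.range 24).all fun i => Nat.beq (Trans.img idCode i) i) = true := by
  decide +kernel

theorem perm_gens_check : (FiveData.permGens.all Trans.okT &&
    (List.range 60).all fun n => (FiveData.czWords.getD n []).all (Nat.blt · 2) &&
      (List.range 24).all fun i => Nat.beq (Trans.img (FiveData.cz.getD n 0) i) (evalC (FiveData.czWords.getD n []) i)) =
    true := by
  decide +kernel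

theorem code_check : ((List.range 4096).all fun x =>
    !((List.range 24).all fun i => (Golay.comb x).testBit (Trans.img FiveData.tcode i) == (Golay.comb x).testBit i) ||
      FiveData.fixCode.contains x) = true := by
  decide +kernel

theorem span_check : (FiveData.fixCode.all fun x =>
    (List.range 16).any fun m => Nat.beq (imgK FiveData.signGens 4 m) x) = true := by
  decide +kernel

theorem gens_shape : gen 0 = [some (FiveData.permGens.getD 0 0, 0)] ∧ gen 1 = [some (FiveData.permGens.getD 1 0, 0)] ∧
    (∀ q < 4, gen (2 + q) = [some (idCode, FiveData.signGens.getD q 0)]) := by
  decide +kernel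

end CfsgLib.MonsterType.Five
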