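import Cfsg.Agent.Lib.MonsterType.FiveCheckCz

/-! The listed permutations are all those commuting with the element of order five. -/

set_option autoImplicit false

namespace CfsgLib.MonsterType.Five

open Cfsg CfsgLib CfsgLib.Leech

/-- The permutation of order five. -/
noncomputable def R : Equiv.Perm GolayPt := Trans.tblPerm FiveData.tcode

theorem okT_tcode : Trans.okT FiveData.tcode = true := by decide +kernel

theorem R_mem : R ∈ M24 := Trans.tblPerm_mem okT_tcode

theorem img_lt {i : ℕ} (hi : i < 24) : Trans.img FiveData.tcode i < 24 := by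
  have h := okT_tcode
  simp only [Trans.okT, Bool.and_eq_true, List.all_eq_true, List.mem_range, Nat.blt_eq] at h
  exact h.1.1 i hi

theorem R_pt {i : ℕ} (hi : i < 24) : R (Golay.pt i) = Golay.pt (Trans.img FiveData.tcode i) := by
  rw [R, Trans.tblPerm_apply okT_tcode, Trans.tblFun, Golay.bit_pt hi]

theorem pt_inj {i j : ℕ} (hi : i < 24) (hj : j < 24) (h : Golay.pt i = Golay.pt j) : i = j := by
  rw [← Golay.bit_pt hi, h, Golay.bit_pt hj]

theorem mem_fixPts {i : ℕ} : i ∈ fixPts ↔ i < 24 ∧ Trans.img FiveData.tcode i = i := by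
  simp [fixPts, Nat.beq_eq]

theorem mem_movPts {i : ℕ} : i ∈ movPts ↔ i < 24 ∧ Trans.img FiveData.tcode i ≠ i := by
  simp [movPts, ← Bool.not_eq_true, Nat.beq_eq]

theorem iter_pt {i : ℕ} (hi : i < 24) : ∀ j, (Trans.img FiveData.tcode)^[j] i < 24 ∧
    (R ^ j) (Golay.pt i) = Golay.pt ((Trans.img FiveData.tcode)^[j] i)
  | 0 => ⟨hi, by simp⟩
  | j + 1 => by
    obtain ⟨h1, h2⟩ := iter_pt hi j
    rw [Function.iterate_succ_apply', pow_succ', Equiv.Perm.mul_apply, h2, R_pt h1]
    exact ⟨img_lt h1, rfl⟩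

theorem firsts_check : (fixPts ++ (List.range 5).map fun j =>
    (Trans.img FiveData.tcode)^[j] (movPts.getD 0 0)).Nodup ∧ movPts.getD 0 0 ∈ movPts := by
  decide +kernel

/-- An element commuting with `R` is one of those listed. -/
theorem cz_complete {x : Equiv.Perm GolayPt} (hx : x ∈ M24) (hc : x * R = R * x) :
    ∃ n < 60, ∀ i < 24, x (Golay.pt i) = Golay.pt (Trans.img (FiveData.cz.getD n 0) i) := by
  set f : ℕ → ℕ := fun i => Golay.bit (x (Golay.pt i)) with hfdef
  have hf : ∀ i, f i < 24 ∧ x (Golay.pt i) = Golay.pt (f i) := fun i => ⟨Golay.bit_lt _, (Golay.pt_bit _).symm⟩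
  have hinj : ∀ {i j}, i < 24 → j < 24 → f i = f j → i = j := fun {i j} hi hj h =>
    pt_inj hi hj (x.injective (by rw [(hf i).2, (hf j).2, h]))
  have hxR : ∀ i < 24, Trans.img FiveData.tcode (f i) = f (Trans.img FiveData.tcode i) := by
    intro i hi
    refine pt_inj (img_lt (hf i).1) (hf _).1 ?_
    rw [← R_pt (hf i).1, ← (hf i).2, ← (hf _).2, ← R_pt hi]
    exact (DFunLike.congr_fun hc _).symm
  have hfix : ∀ i ∈ fixPts, f i ∈ fixPts := by
    intro i hi
    obtain ⟨hi, he⟩ := mem_fixPts.1 hi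
    exact mem_fixPts.2 ⟨(hf i).1, by rw [hxR i hi, he]⟩
  obtain ⟨hnd, hbase⟩ := firsts_check
  obtain ⟨hb24, hbne⟩ := mem_movPts.1 hbase
  set a := movPts.getD 0 0 with ha
  have hfa : f a ∈ movPts := mem_movPts.2 ⟨(hf a).1, by
    rw [hxR a hb24]
    exact fun e => hbne (hinj (img_lt hb24) hb24 e)⟩
  have hq : fixPts.map f ∈ quads := by
    have hlen := shape_check.2.2
    have hnf : (fixPts.map f).Nodup := List.Nodup.map_on
      (fun i hi j hj h => hinj (mem_fixPts.1 hi).1 (mem_fixPts.1 hj).1 h) hnd.of_append_left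
    revert hnf hfix hlen
    rcases hF : fixPts with _ | ⟨i0, _ | ⟨i1, _ | ⟨i2, _ | ⟨i3, _ | ⟨i4, l⟩⟩⟩⟩⟩ <;>
      intro hfix hlen hnf <;> simp only [List.length_cons, List.length_nil] at hlen <;>
      try omega
    simp only [List.map_cons, List.map_nil] at hnf ⊢
    rw [quads, List.mem_filter, hF]
    refine ⟨?_, by simpa using hnf⟩
    simp only [List.mem_flatMap, List.mem_map]
    exact ⟨f i0, hfix i0 (by simp), f i1, hfix i1 (by simp), f i2, hfix i2 (by simp), f i3, hfix i3 (by simp), rfl⟩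
  obtain ⟨q, hqlt, hqe⟩ := List.getElem_of_mem hq
  obtain ⟨m, hmlt, hme⟩ := List.getElem_of_mem hfa
  have hq24 : q < 24 := by
    have := Nat.eq_of_beq_eq_true shape_check.1
    omega
  have hm20 : m < 20 := by
    have := Nat.eq_of_beq_eq_true shape_check.2.1
    omega
  have hb := blocks_check q hq24
  simp only [blockB, List.all_eq_true, List.mem_range] at hb
  have hrun := hb m hm20
  rw [List.getD_eq_getElem _ _ hqlt, hqe, List.getD_eq_getElem _ _ hmlt, hme] at hrun
  have hinv : Deduce.Inv x (start (fixPts.map f) (f a)) := by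
    refine ⟨fun e he => ?_, ?_⟩
    · rw [start, List.mem_append] at he
      rcases he with he | he
      · rw [List.zip_map_right, List.mem_map] at he
        obtain ⟨⟨i, i'⟩, hi, rfl⟩ := he
        have hii : i = i' ∧ i ∈ fixPts := by
          obtain ⟨n, hn, hne⟩ := List.getElem_of_mem hi
          simp only [List.getElem_zip, Prod.mk.injEq] at hne
          exact ⟨hne.1.symm.trans hne.2, (List.of_mem_zip hi).1⟩
        obtain ⟨rfl, hi'⟩ := hii
        exact ⟨(mem_fixPts.1 hi').1, (hf i).1, (hf i).2⟩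
      · obtain ⟨j, -, rfl⟩ := List.mem_map.1 he
        obtain ⟨h1, h2⟩ := iter_pt hb24 j
        obtain ⟨h3, h4⟩ := iter_pt (hf a).1 j
        refine ⟨h1, h3, ?_⟩
        rw [← ha, ← h2, ← h4, ← (hf a).2, ← Equiv.Perm.mul_apply, ← Equiv.Perm.mul_apply,
          (Commute.pow_right (show Commute x R from hc) j).eq]
    · rw [start, List.map_append, List.map_fst_zip (by simp), List.map_map]
      exact hnd
  have hrs := Deduce.run_sound hx _ _ hinv hrun
  refine ⟨_, ?_, hrs⟩
  by_contra hn
  have h0 : ∀ i, i < 24 → x (Golay.pt i) = Golay.pt 0 := by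
    intro i hi
    have hlen : FiveData.cz.length = 60 := rfl
    rw [hrs i hi, List.getD_eq_default FiveData.cz 0 (by omega)]
    simp [Trans.img]
  exact absurd (pt_inj (by norm_num) (by norm_num) (x.injective ((h0 0 (by norm_num)).trans (h0 1 (by norm_num)).symm)))
    (by norm_num)

end CfsgLib.MonsterType.Five
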