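import Cfsg.Agent.Lib.MonsterType.Cent

/-! The centralizer of `b` modulo `⟨b⟩` as a group with an extraspecial involution centralizer. -/

set_option autoImplicit false
set_option linter.style.haveILetI false

namespace CfsgLib.MonsterType

open Cfsg CfsgLib CfsgLib.Leech CfsgLib.MonsterQ

variable {G : Type*} [Group G]

/-- The action of the centralizer of `t` on the fixed classes, with image `Γ`. -/
structure Action (t : Co0) (d : ℕ) (rv : ℕ → leechLattice) {Γ : Type*} [Group Γ]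
    (ψ : ↥(Subgroup.centralizer ({t} : Set Co0)) →* Γ) : Prop where
  surj : Function.Surjective ψ
  ker : ∀ g : ↥(Subgroup.centralizer ({t} : Set Co0)), ψ g = 1 →
    ∃ i : ℕ, (g : Co0) = t ^ i ∨ (g : Co0) = t ^ i * negEl
  faith : ∀ g : ↥(Subgroup.centralizer ({t} : Set Co0)),
    (∀ k < 2 ^ d, Cong ((g : Co0) • rv k) (rv k)) → ψ g = 1
  core : ∀ P : Subgroup Γ, P.Normal → IsPGroup 2 P → P = ⊥

theorem psi_eq_one {t : Co0} {d : ℕ} {rv : ℕ → leechLattice} {Γ : Type*} [Group Γ]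
    {ψ : ↥(Subgroup.centralizer ({t} : Set Co0)) →* Γ} (hψ : Action t d rv ψ) {p : ℕ}
    (F : FixedClasses t p d rv) (g : ↥(Subgroup.centralizer ({t} : Set Co0))) {i : ℕ}
    (h : (g : Co0) = t ^ i ∨ (g : Co0) = t ^ i * negEl) : ψ g = 1 := by
  refine hψ.faith g fun k hk => ?_
  rcases h with e | e <;> rw [e]
  · exact F.pow_fix hk i
  · rw [mul_smul, negEl_smul, smul_neg']; exact (cong_neg _).trans (F.pow_fix hk i)

namespace CentData

variable {z : G} {Q : Subgroup G} {π : ↥(Subgroup.centralizer ({z} : Set G)) →* Spor.Co1}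
  {θ : leechLattice → G} {b : G} {p d : ℕ} {t : Co0} {rv : ℕ → leechLattice} (D : CentData z Q π θ b p d t rv)
  {N : Subgroup G} (hN : ∀ n, n ∈ N ↔ n * b = b * n) {Bs : Subgroup N}
  (hBs : ∀ n : N, n ∈ Bs ↔ (n : G) ∈ Subgroup.zpowers b) [Finite G]
include D hN hBs

theorem z_mem_N : z ∈ N := (hN z).2 (Subgroup.mem_centralizer_singleton_iff.1 D.mem).symm

/-- Two elements of order dividing two that agree modulo `⟨b⟩` are equal. -/
theorem eq_of_invol {x y : N} (hx : (x : G) * x = 1) (hy : (y : G) * y = 1) (h : x⁻¹ * y ∈ Bs) :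
    (x : G) = y := by
  have h' := (hBs _).1 h
  rw [← mem_powers_iff_mem_zpowers] at h'
  obtain ⟨i, hi⟩ := h'
  have hi' : b ^ i = (x : G)⁻¹ * y := hi
  have hc : (x : G) * b ^ i = b ^ i * (x : G) := (Commute.pow_right (show Commute (x : G) b from (hN x).1 x.2) i).eq
  have h2 : b ^ i * b ^ i = 1 := by
    have e : (y : G) = (x : G) * b ^ i := by rw [hi', mul_inv_cancel_left]
    calc b ^ i * b ^ i = (x : G) * x * (b ^ i * b ^ i) := by rw [hx, one_mul]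
      _ = (x : G) * b ^ i * ((x : G) * b ^ i) :=
        (Commute.mul_mul_mul_comm (show Commute (x : G) (b ^ i) from hc) (x : G) (b ^ i))
      _ = 1 := by rw [← e, hy]
  have h1 : b ^ i = 1 := by
    obtain ⟨m, hm⟩ : ∃ m, p = 2 * m + 1 := ⟨p / 2, by have := D.podd; omega⟩
    have e : (b ^ i) ^ p = 1 := by rw [← pow_mul, mul_comm, pow_mul, D.bp, one_pow]
    rwa [hm, pow_succ, pow_mul, pow_two, h2, one_pow, one_mul] at e
  rw [hi'] at h1
  exact inv_mul_eq_one.1 h1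

theorem CQ_le : D.CQ ≤ N := fun x hx => (hN x).2 (D.mem_CQ.1 hx).2

variable [Bs.Normal]

/-- The image of `z` in the quotient. -/
def zbar : ↥N ⧸ Bs := QuotientGroup.mk ⟨z, D.z_mem_N hN hBs⟩

theorem lift_cent {x : ↥N ⧸ Bs} (hx : x ∈ Subgroup.centralizer ({D.zbar hN hBs} : Set (↥N ⧸ Bs))) :
    ∃ n : N, QuotientGroup.mk n = x ∧ (n : G) * z = z * n := by
  obtain ⟨n, rfl⟩ := QuotientGroup.mk_surjective x
  refine ⟨n, rfl, ?_⟩
  set zn : N := ⟨z, D.z_mem_N hN hBs⟩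
  have h := Subgroup.mem_centralizer_singleton_iff.1 hx
  have h1 : zn⁻¹ * (n * zn * n⁻¹) ∈ Bs := by
    rw [← QuotientGroup.eq_one_iff]
    simp only [QuotientGroup.mk_mul, QuotientGroup.mk_inv]
    rw [show (QuotientGroup.mk n : ↥N ⧸ Bs) * QuotientGroup.mk zn = QuotientGroup.mk zn * QuotientGroup.mk n from h]
    group
  have h2 := D.eq_of_invol hN hBs (x := zn) (y := n * zn * n⁻¹) D.hyp.zz (by
    show (n : G) * z * (n : G)⁻¹ * ((n : G) * z * (n : G)⁻¹) = 1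
    rw [show (n : G) * z * (n : G)⁻¹ * ((n : G) * z * (n : G)⁻¹) = (n : G) * (z * z) * (n : G)⁻¹ by group,
      D.hyp.zz, mul_one, mul_inv_cancel]) h1
  calc (n : G) * z = (n : G) * z * (n : G)⁻¹ * n := by group
    _ = z * n := congrArg (· * (n : G)) h2.symm

theorem conj_zbar_iff {n : N} (hn : (n : G) ∈ D.CQ) (hsq : (n : G) * n = 1) :
    IsConj (D.zbar hN hBs) (QuotientGroup.mk n) ↔ ∃ m ∈ N, m * z * m⁻¹ = (n : G) := by
  constructor
  · intro h
    obtain ⟨c, hc⟩ := isConj_iff.1 h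
    obtain ⟨m, rfl⟩ := QuotientGroup.mk_surjective c
    refine ⟨m, m.2, D.eq_of_invol hN hBs (x := m * ⟨z, D.z_mem_N hN hBs⟩ * m⁻¹) ?_ hsq ?_⟩
    · show (m : G) * z * (m : G)⁻¹ * ((m : G) * z * (m : G)⁻¹) = 1
      rw [show (m : G) * z * (m : G)⁻¹ * ((m : G) * z * (m : G)⁻¹) = (m : G) * (z * z) * (m : G)⁻¹ by group,
        D.hyp.zz, mul_one, mul_inv_cancel]
    · rw [← QuotientGroup.eq_one_iff]
      simp only [QuotientGroup.mk_mul, QuotientGroup.mk_inv]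
      rw [show (QuotientGroup.mk m : ↥N ⧸ Bs) * QuotientGroup.mk (⟨z, D.z_mem_N hN hBs⟩ : N) * (QuotientGroup.mk m)⁻¹ =
        QuotientGroup.mk n from hc]
      group
  · rintro ⟨m, hm, hmz⟩
    refine isConj_iff.2 ⟨QuotientGroup.mk ⟨m, hm⟩, ?_⟩
    rw [zbar, ← QuotientGroup.mk_inv, ← QuotientGroup.mk_mul, ← QuotientGroup.mk_mul]
    exact congrArg QuotientGroup.mk (Subtype.ext hmz)

/-- The extraspecial centralizer setting in the quotient. -/
theorem setting {Γ : Type*} [Group Γ] {ψ : ↥(Subgroup.centralizer ({t} : Set Co0)) →* Γ}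
    (hψ : Action t d rv ψ) {w : ℕ} (hw : d = 2 * w) (hd : d ≠ 0)
    (hnwc : ∃ x ∈ D.CQ, x ≠ z ∧ ∃ m ∈ N, m * z * m⁻¹ = x) :
    ∃ (R : Subgroup ↥(Subgroup.centralizer ({D.zbar hN hBs} : Set (↥N ⧸ Bs)))) (_ : R.Normal),
      IsExtraspecialCentralizerSetting (D.zbar hN hBs) R w ∧
      Nonempty (↥(Subgroup.centralizer ({D.zbar hN hBs} : Set (↥N ⧸ Bs))) ⧸ R ≃* Γ) ∧
      ∀ x : ↥(Subgroup.centralizer ({D.zbar hN hBs} : Set (↥N ⧸ Bs))),
        x ∈ R ↔ ∃ n : N, (n : G) ∈ D.CQ ∧ (QuotientGroup.mk n : ↥N ⧸ Bs) = x := by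
  classical
  haveI : Fact (Nat.Prime 2) := ⟨Nat.prime_two⟩
  set C := Subgroup.centralizer ({D.zbar hN hBs} : Set (↥N ⧸ Bs)) with hC
  -- the relation between the quotient and the image group
  let Rel : ↥C → Γ → Prop := fun x y => ∃ (n : N) (hz : (n : G) ∈ Subgroup.centralizer ({z} : Set G))
    (g : ↥(Subgroup.centralizer ({t} : Set Co0))), (QuotientGroup.mk n : ↥N ⧸ Bs) = x ∧
      π ⟨n, hz⟩ = (QuotientGroup.mk (g : Co0) : Spor.Co1) ∧ ψ g = y
  have huniq : ∀ x y y', Rel x y → Rel x y' → y = y' := by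
    rintro x y y' ⟨n, hz, g, hn, hg, rfl⟩ ⟨n', hz', g', hn', hg', rfl⟩
    have h1 : n⁻¹ * n' ∈ Bs := by rw [← QuotientGroup.eq, hn, hn']
    have h2 := (hBs _).1 h1
    rw [← mem_powers_iff_mem_zpowers] at h2
    obtain ⟨i, hi⟩ := h2
    have e : (⟨n', hz'⟩ : ↥(Subgroup.centralizer ({z} : Set G))) = ⟨n, hz⟩ * ⟨b ^ i, pow_mem D.mem i⟩ :=
      Subtype.ext (by
        show (n' : G) = (n : G) * b ^ i
        rw [show b ^ i = ((n⁻¹ * n' : N) : G) from hi]; simp)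
    rw [e, map_mul, hg, D.proj_pow, ← QuotientGroup.mk_mul, QuotientGroup.eq] at hg'
    have hcc : ((g : Co0) * t ^ i)⁻¹ * (g' : Co0) ∈ ({1, negEl} : Set Co0) := by rw [← center_eq]; exact hg'
    have h3 : ψ (g⁻¹ * g') = 1 := by
      refine psi_eq_one hψ D.fixed _ (i := i) ?_
      rcases hcc with c | c
      · left
        show (g : Co0)⁻¹ * (g' : Co0) = t ^ i
        rw [inv_mul_eq_one] at c
        rw [← c, inv_mul_cancel_left]
      · right
        rw [Set.mem_singleton_iff, inv_mul_eq_iff_eq_mul] at c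
        show (g : Co0)⁻¹ * (g' : Co0) = t ^ i * negEl
        rw [c, mul_assoc, inv_mul_cancel_left]
    rw [map_mul, map_inv] at h3
    exact inv_mul_eq_one.1 h3
  have hex : ∀ x : ↥C, ∃ y, Rel x y := by
    intro x
    obtain ⟨n, hn, hnz⟩ := D.lift_cent hN hBs x.2
    have hz : (n : G) ∈ Subgroup.centralizer ({z} : Set G) := Subgroup.mem_centralizer_singleton_iff.2 hnz
    obtain ⟨g, hg⟩ := QuotientGroup.mk'_surjective (Subgroup.center Co0) (π ⟨n, hz⟩)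
    have hgt : g ∈ Subgroup.centralizer ({t} : Set Co0) :=
      Subgroup.mem_centralizer_singleton_iff.2 (D.comm_t hz hg.symm ((hN n).1 n.2))
    exact ⟨ψ ⟨g, hgt⟩, n, hz, ⟨g, hgt⟩, hn, hg.symm, rfl⟩
  choose F hF using hex
  have hmul : ∀ x x' : ↥C, F (x * x') = F x * F x' := by
    intro x x'
    refine huniq _ _ _ (hF _) ?_
    obtain ⟨n, hz, g, hn, hg, hgx⟩ := hF x
    obtain ⟨n', hz', g', hn', hg', hgx'⟩ := hF x'
    refine ⟨n * n', mul_mem hz hz', g * g', ?_, ?_, by rw [map_mul, hgx, hgx']⟩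
    · rw [QuotientGroup.mk_mul, hn, hn']; rfl
    · rw [show (⟨((n * n' : N) : G), mul_mem hz hz'⟩ : ↥(Subgroup.centralizer ({z} : Set G))) =
        ⟨n, hz⟩ * ⟨n', hz'⟩ from rfl, map_mul, hg, hg', ← QuotientGroup.mk_mul]
      rfl
  let φ : ↥C →* Γ := MonoidHom.mk' F hmul
  have hsurj : Function.Surjective φ := by
    intro y
    obtain ⟨g, rfl⟩ := hψ.surj y
    obtain ⟨h, hh, hπ, hb⟩ := D.lift (g := (g : Co0)) (k := 1) (by
      rw [pow_one, Subgroup.mem_centralizer_singleton_iff.1 g.2, mul_inv_cancel_right])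
    rw [pow_one, mul_inv_eq_iff_eq_mul] at hb
    have hzc := Subgroup.mem_centralizer_singleton_iff.1 hh
    refine ⟨⟨QuotientGroup.mk ⟨h, (hN h).2 hb⟩, Subgroup.mem_centralizer_singleton_iff.2 ?_⟩,
      huniq _ _ _ (hF _) ⟨⟨h, (hN h).2 hb⟩, hh, g, rfl, hπ, rfl⟩⟩
    rw [zbar, ← QuotientGroup.mk_mul, ← QuotientGroup.mk_mul]
    exact congrArg QuotientGroup.mk (Subtype.ext hzc)
  have hker : ∀ x : ↥C, x ∈ φ.ker ↔ ∃ n : N, (n : G) ∈ D.CQ ∧ (QuotientGroup.mk n : ↥N ⧸ Bs) = x := by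
    intro x
    rw [MonoidHom.mem_ker]
    constructor
    · intro hx
      obtain ⟨n, hz, g, hn, hg, hgx⟩ := hF x
      obtain ⟨i, hi⟩ := hψ.ker g (hgx.trans hx)
      have hπn : π ⟨n, hz⟩ = π ⟨b ^ i, pow_mem D.mem i⟩ := by
        rw [hg, D.proj_pow, QuotientGroup.eq]
        rcases hi with e | e <;> rw [e]
        · rw [inv_mul_cancel]; exact one_mem _
        · rw [mul_inv_rev, mul_assoc, inv_mul_cancel, mul_one]
          exact inv_mem (show negEl ∈ Subgroup.center Co0 from Set.ext_iff.1 center_eq negEl |>.2 (Or.inr rfl))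
      have hq : (n : G) * (b ^ i)⁻¹ ∈ Q := by
        refine (D.hyp.ker ⟨_, mul_mem hz (inv_mem (pow_mem D.mem i))⟩).1 ?_
        rw [show (⟨(n : G) * (b ^ i)⁻¹, _⟩ : ↥(Subgroup.centralizer ({z} : Set G))) =
          ⟨n, hz⟩ * ⟨b ^ i, pow_mem D.mem i⟩⁻¹ from rfl, map_mul, map_inv, hπn, mul_inv_cancel]
      have hbN : b ^ i ∈ N := pow_mem ((hN b).2 rfl) i
      refine ⟨n * ⟨b ^ i, hbN⟩⁻¹, D.mem_CQ.2 ⟨hq, (hN _).1 (n * ⟨b ^ i, hbN⟩⁻¹).2⟩, ?_⟩
      rw [← hn, QuotientGroup.mk_mul, mul_eq_left, QuotientGroup.eq_one_iff]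
      exact inv_mem ((hBs _).2 (pow_mem (Subgroup.mem_zpowers b) i))
    · rintro ⟨n, hn, hnx⟩
      have hz : (n : G) ∈ Subgroup.centralizer ({z} : Set G) := D.hyp.le (D.mem_CQ.1 hn).1
      exact huniq _ _ _ (hF x) ⟨n, hz, 1, hnx, by
        rw [(D.hyp.ker ⟨n, hz⟩).2 (D.mem_CQ.1 hn).1, OneMemClass.coe_one, QuotientGroup.mk_one], map_one ψ⟩
  -- the kernel is a copy of the fixed subgroup
  have hmemC : ∀ a : ↥D.CQ, (QuotientGroup.mk (⟨(a : G), D.CQ_le hN hBs a.2⟩ : N) : ↥N ⧸ Bs) ∈ C := fun a => by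
    refine Subgroup.mem_centralizer_singleton_iff.2 ?_
    rw [zbar, ← QuotientGroup.mk_mul, ← QuotientGroup.mk_mul]
    exact congrArg QuotientGroup.mk (Subtype.ext (D.hyp.S.le_cent _ (D.mem_CQ.1 a.2).1))
  let ι : ↥D.CQ →* ↥φ.ker := MonoidHom.mk' (fun a => ⟨⟨_, hmemC a⟩, (hker _).2 ⟨_, a.2, rfl⟩⟩) fun a c =>
    Subtype.ext (Subtype.ext (QuotientGroup.mk_mul Bs (⟨(a : G), D.CQ_le hN hBs a.2⟩ : N)
      ⟨(c : G), D.CQ_le hN hBs c.2⟩))
  have hι : Function.Bijective ι := by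
    constructor
    · rw [← MonoidHom.ker_eq_bot_iff, Subgroup.eq_bot_iff_forall]
      intro a ha
      have h1 : (⟨(a : G), D.CQ_le hN hBs a.2⟩ : N) ∈ Bs :=
        (QuotientGroup.eq_one_iff _).1 (congrArg (fun x : ↥φ.ker => ((x : ↥C) : ↥N ⧸ Bs)) ha)
      have h2 := (hBs _).1 h1
      rw [← mem_powers_iff_mem_zpowers] at h2
      obtain ⟨i, hi⟩ := h2
      have hi' : b ^ i = (a : G) := hi
      refine Subtype.ext (hi'.symm.trans ?_)
      rw [OneMemClass.coe_one]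
      exact D.pow_eq_one_of_mem (hi' ▸ (D.mem_CQ.1 a.2).1)
    · rintro ⟨x, hx⟩
      obtain ⟨n, hn, hnx⟩ := (hker x).1 hx
      exact ⟨⟨n, hn⟩, Subtype.ext (Subtype.ext hnx)⟩
  let e : ↥D.CQ ≃* ↥φ.ker := MulEquiv.ofBijective ι hι
  have hR2 : IsPGroup 2 φ.ker := ((D.hyp.S.two).to_le (fun x hx => (D.mem_CQ.1 hx).1)).of_equiv e
  have hext : Cfsg.IsExtraspecial 2 φ.ker := by
    refine LargeXS.isExtraspecial_congr e ?_
    have hz1 : ∀ {a : G}, (a = 1 ∨ a = z) → ∀ (h : a ∈ D.CQ), (⟨a, h⟩ : ↥D.CQ) = 1 ∨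
        (⟨a, h⟩ : ↥D.CQ) = ⟨z, D.z_mem_CQ⟩ := by
      rintro a (rfl | rfl) h
      · exact Or.inl rfl
      · exact Or.inr rfl
    refine LargeXS.isExtraspecial_of ((D.hyp.S.two).to_le (fun x hx => (D.mem_CQ.1 hx).1))
      (c := ⟨z, D.z_mem_CQ⟩) (fun h => D.hyp.S.ne_one (congrArg Subtype.val h)) ?_ ?_ ?_ ?_ ?_
    · intro x y
      refine hz1 (a := ((x * y * x⁻¹ * y⁻¹ : ↥D.CQ) : G)) ?_ _
      simp only [Subgroup.coe_mul, InvMemClass.coe_inv]
      rcases D.hyp.S.comm_z_left (D.mem_CQ.1 x.2).1 (D.mem_CQ.1 y.2).1 with h | h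
      · left; rw [h]; group
      · right
        rw [h, show (y : G) * x * z * (x : G)⁻¹ * (y : G)⁻¹ = (y : G) * ((x : G) * z * (x : G)⁻¹) * (y : G)⁻¹ by group,
          D.hyp.S.le_cent _ (D.mem_CQ.1 x.2).1, mul_inv_cancel_right,
          D.hyp.S.le_cent _ (D.mem_CQ.1 y.2).1, mul_inv_cancel_right]
    · intro x
      exact hz1 (D.hyp.S.sq _ (D.mem_CQ.1 x.2).1) _
    · intro x hx
      exact hz1 (D.center_CQ x.2 fun y hy => (congrArg Subtype.val (hx ⟨y, hy⟩)).symm) x.2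
    · intro y
      exact Subtype.ext (D.hyp.S.le_cent _ (D.mem_CQ.1 y.2).1)
    · by_contra hsmall
      push Not at hsmall
      have : Nat.card D.CQ ≤ 2 := by
        refine le_of_le_of_eq (Subgroup.card_le_of_le (K := Subgroup.zpowers z) fun x hx => ?_)
          (by rw [Nat.card_zpowers, D.hyp.hz])
        by_cases h1 : (⟨x, hx⟩ : ↥D.CQ) = 1
        · rw [show x = 1 from congrArg Subtype.val h1]; exact one_mem _
        · rw [show x = z from congrArg Subtype.val (hsmall _ h1)]; exact Subgroup.mem_zpowers z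
      rw [D.card_CQ, pow_succ] at this
      have : 2 ^ 1 ≤ 2 ^ d := Nat.pow_le_pow_right (by norm_num) (Nat.one_le_iff_ne_zero.2 hd)
      omega
  -- the kernel is the largest normal 2-subgroup and contains its centralizer
  have hcore : Cfsg.pCore 2 ↥C = φ.ker := by
    refine le_antisymm (sSup_le ?_) (le_sSup ⟨inferInstance, hR2⟩)
    rintro P ⟨hPn, hP⟩
    rw [← Subgroup.map_eq_bot_iff]
    exact hψ.core _ (hPn.map φ hsurj) (hP.map φ)
  have hfaith : Subgroup.centralizer (φ.ker : Set ↥C) ≤ φ.ker := by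
    intro x hx
    rw [MonoidHom.mem_ker]
    obtain ⟨n, hz, g, hn, hg, hgx⟩ := hF x
    show F x = 1
    rw [← hgx]
    refine hψ.faith g fun k hk => ?_
    have hq : θ (rv k) ∈ D.CQ := D.cls_rv_mem hk (Or.inl rfl)
    have hc := congrArg Subtype.val (Subgroup.mem_centralizer_iff.1 hx _ (ι ⟨_, hq⟩).2)
    rw [Subgroup.coe_mul, Subgroup.coe_mul, ← hn,
      show ((ι ⟨_, hq⟩ : ↥C) : ↥N ⧸ Bs) = QuotientGroup.mk (⟨θ (rv k), D.CQ_le hN hBs hq⟩ : N) from rfl,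
      ← QuotientGroup.mk_mul, ← QuotientGroup.mk_mul, QuotientGroup.eq] at hc
    have hbb := (hBs _).1 hc
    rw [← mem_powers_iff_mem_zpowers] at hbb
    obtain ⟨i, hi⟩ := hbb
    have hi' : b ^ i = (θ (rv k) * (n : G))⁻¹ * ((n : G) * θ (rv k)) := hi
    have hiQ : b ^ i ∈ Q := by
      rw [hi', show (θ (rv k) * (n : G))⁻¹ * ((n : G) * θ (rv k)) =
        ((n : G)⁻¹ * (θ (rv k))⁻¹ * (n : G)⁻¹⁻¹) * θ (rv k) by group]
      refine mul_mem (D.hyp.S.normal _ ?_ _ (inv_mem (D.hyp.mem _))) (D.hyp.mem _)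
      exact (Commute.inv_left (Subgroup.mem_centralizer_singleton_iff.1 hz)).eq
    rw [D.pow_eq_one_of_mem hiQ] at hi'
    have hcomm : (n : G) * θ (rv k) * (n : G)⁻¹ = θ (rv k) := by
      rw [mul_inv_eq_iff_eq_mul]; exact (inv_mul_eq_one.1 hi'.symm).symm
    have h5 := D.hyp.cls_conj (Or.inl rfl : Cls z θ (θ (rv k)) (rv k)) ⟨n, hz⟩ hg
    rw [hcomm] at h5
    exact D.hyp.cong_of_cls h5 (Or.inl rfl)
  have hgf : Cfsg.generalizedFittingSubgroup ↥C = φ.ker := by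
    rw [(Components.genFitting_eq_pCore_iff (G := ↥C) 2).2 (by rw [hcore]; exact hfaith), hcore]
  have hzord : orderOf (D.zbar hN hBs) = 2 := by
    refine orderOf_eq_prime ?_ ?_
    · rw [pow_two, zbar, ← QuotientGroup.mk_mul, QuotientGroup.eq_one_iff]
      rw [show (⟨z, D.z_mem_N hN hBs⟩ * ⟨z, D.z_mem_N hN hBs⟩ : N) = 1 from Subtype.ext D.hyp.zz]
      exact one_mem _
    · intro e
      have h1 : (1 : N)⁻¹ * ⟨z, D.z_mem_N hN hBs⟩ ∈ Bs := by
        rw [inv_one, one_mul]; exact (QuotientGroup.eq_one_iff _).1 e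
      exact D.hyp.S.ne_one (D.eq_of_invol hN hBs (x := 1) (by simp) D.hyp.zz h1).symm
  refine ⟨φ.ker, inferInstance, ⟨hzord, hgf, hext, ?_, ?_⟩,
    ⟨QuotientGroup.quotientKerEquivOfSurjective φ hsurj⟩, hker⟩
  · rw [← Nat.card_congr e.toEquiv, D.card_CQ, hw]
  · obtain ⟨x, hx, hxz, m, hm, hmz⟩ := hnwc
    have hxe : (QuotientGroup.mk (⟨m, hm⟩ : N) : ↥N ⧸ Bs) * D.zbar hN hBs * (QuotientGroup.mk (⟨m, hm⟩ : N))⁻¹ =
        QuotientGroup.mk (⟨x, D.CQ_le hN hBs hx⟩ : N) := by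
      rw [zbar, ← QuotientGroup.mk_inv, ← QuotientGroup.mk_mul, ← QuotientGroup.mk_mul]
      exact congrArg QuotientGroup.mk (Subtype.ext hmz)
    refine ⟨QuotientGroup.mk (⟨m, hm⟩ : N), ⟨by rw [hxe]; exact hmemC ⟨x, hx⟩, (hker _).2 ⟨_, hx, hxe.symm⟩⟩, ?_⟩
    rw [hxe]
    intro h
    refine hxz (D.eq_of_invol hN hBs (x := ⟨x, D.CQ_le hN hBs hx⟩) (y := ⟨z, D.z_mem_N hN hBs⟩) ?_ D.hyp.zz
      (QuotientGroup.eq.1 h))
    show x * x = 1
    rw [← hmz, show m * z * m⁻¹ * (m * z * m⁻¹) = m * (z * z) * m⁻¹ by group, D.hyp.zz, mul_one, mul_inv_cancel]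

end CentData

end CfsgLib.MonsterType
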