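import Cfsg.Agent.Lib.MonsterType.FiveCheckFix
import Cfsg.Agent.Lib.MonsterType.FiveCheckGens
import Cfsg.Agent.Lib.MonsterType.FiveCz
import Cfsg.Agent.Lib.MonsterType.Quot
import Mathlib.GroupTheory.SpecificGroups.Alternating.Simple

/-! The centralizer in the automorphism group of the lattice of the element of order five, and its
action on the fixed classes. -/

set_option autoImplicit false
set_option linter.style.haveILetI false

namespace CfsgLib.MonsterType.Five

open Cfsg CfsgLib CfsgLib.Leech CfsgLib.MonsterQ CfsgLib.MonsterType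
open CfsgLib.Leech.Orbits (vecOf)

/-- The element of order five. -/
noncomputable def tt : Co0 := stepEl tS

/-- The representatives of the fixed classes. -/
def rv (k : ℕ) : leechLattice := latOf (row k)

theorem fixed : FixedClasses tt 5 8 rv := by
  have h := power_check
  rw [Bool.and_eq_true] at h
  exact fixed_of_checks (by norm_num) h.1 h.2 rows_check top_check avg_spec

theorem coe_rv {k : ℕ} (hk : k < 256) : (rv k : GolayPt → ℤ) = vecOf (row k) := by
  have h := rows_check k hk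
  simp only [rowB, Bool.and_eq_true] at h
  exact coe_latOf (leechB_of_leechL h.1.1.1)

/-- The classes of squared norm 64. -/
def frames : List ℕ := FiveData.orbit.map Prod.fst

theorem norm64 {k : ℕ} (hk : k < 256) : sqNorm (rv k : GolayPt → ℤ) = 64 ↔ k ∈ frames := by
  have h := List.all_eq_true.1 orbit_check.2.1 k (List.mem_range.2 hk)
  rw [beq_iff_eq] at h
  rw [sqNorm, coe_rv hk, sum_vecOf _ (fun a => a ^ 2)]
  simp only [pow_two]
  rw [show (((List.range 24).map fun i => (row k).getD i 0 * (row k).getD i 0).sum) = normAt k from rfl,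
    ← decide_eq_true_iff (p := normAt k = 64), h]
  simp [frames]

theorem rv_one_cong : Cong (rv 1) (eightVec none) := by
  have h := frame_check
  simp only [Bool.and_eq_true] at h
  exact cong_of_congB (coe_rv (by norm_num)) (vecOf_unitL none).symm h.2

theorem classStab_one : classStab (rv 1) = monoSub := by
  rw [← classStab_eightVec]
  ext g
  exact ⟨fun h => ((rv_one_cong.smul g).symm.trans h).trans rv_one_cong,
    fun h => ((rv_one_cong.smul g).trans h).trans rv_one_cong.symm⟩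

theorem toWord_comb_zero : Golay.toWord (Golay.comb 0) = (0 : GolayPt → ZMod 2) :=
  funext fun p => by simp [Golay.toWord, Golay.comb, Golay.term]

theorem tt_eq : tt = monoEl R R_mem 0 (zero_mem _) := by
  rw [tt, tS, stepEl, dif_pos okT_tcode]
  exact monoEl_congr rfl toWord_comb_zero

theorem tt_mem : tt ∈ monoSub := tt_eq ▸ monoEl_mem_monoSub _ _

theorem mono_inj {a a' : Equiv.Perm GolayPt} {c c' : GolayPt → ZMod 2} {ha : a ∈ M24} {ha' : a' ∈ M24}
    {hc : c ∈ golayCode} {hc' : c' ∈ golayCode} (h : monoEl a ha c hc = monoEl a' ha' c' hc') : a = a' ∧ c = c' := by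
  have e := monoMap_injective (a₁ := (⟨a, ha⟩, ⟨c, hc⟩)) (a₂ := (⟨a', ha'⟩, ⟨c', hc'⟩)) h
  exact ⟨congrArg (fun p => ((p.1 : M24) : Equiv.Perm GolayPt)) e,
    congrArg (fun p => ((p.2 : golayCode) : GolayPt → ZMod 2)) e⟩

theorem tt_ne_one : tt ≠ 1 := by
  intro e
  rw [tt_eq, ← monoEl_one] at e
  obtain ⟨h1, -⟩ := mono_inj e
  obtain ⟨hi, hne⟩ := mem_movPts.1 firsts_check.2
  have h2 := R_pt hi
  rw [h1, Equiv.Perm.one_apply] at h2
  exact hne (pt_inj hi (img_lt hi) h2).symm

theorem tt_ord : orderOf tt = 5 := by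
  haveI : Fact (Nat.Prime 5) := ⟨Nat.prime_five⟩
  exact orderOf_eq_prime fixed.pow tt_ne_one

/-- The centralizer of `tt`. -/
abbrev K : Subgroup Co0 := Subgroup.centralizer ({tt} : Set Co0)

theorem K_comm (g : K) : (g : Co0) * tt = tt * (g : Co0) := Subgroup.mem_centralizer_singleton_iff.1 g.2

/-- A generator. -/
noncomputable def gEl (j : ℕ) : Co0 := wordEl (gen j)

theorem gEl_mem {j : ℕ} (hj : j < 7) : gEl j ∈ K := by
  have h := eq_of_eqW (List.all_eq_true.1 comm_check j (List.mem_range.2 hj))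
  rw [wordEl, wordEl_append, wordEl_single] at h
  exact Subgroup.mem_centralizer_singleton_iff.2 h

theorem gEl_act {j k : ℕ} (hj : j < 7) (hk : k < 256) :
    imgK (FiveData.cols.getD j []) 8 k < 256 ∧
      Cong (gEl j • rv k) (rv (imgK (FiveData.cols.getD j []) 8 k)) := by
  refine imgK_sound fixed (fun i hi => ?_) hk
  have h := List.all_eq_true.1 cols_check j (List.mem_range.2 hj)
  simp only [colsB, Bool.and_eq_true, List.all_eq_true, List.mem_range, Nat.blt_eq] at h
  exact ⟨(h.2 i hi).1, cong_of_mapsB (h.2 i hi).2⟩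

/-- A product of generators, first letter applied first. -/
noncomputable def prodEl : List ℕ → Co0
  | [] => 1
  | j :: w => prodEl w * gEl j

/-- The subgroup generated by the generators. -/
noncomputable def H : Subgroup Co0 := Subgroup.closure (Set.range fun j : Fin 7 => gEl j)

theorem gEl_mem_H {j : ℕ} (hj : j < 7) : gEl j ∈ H := Subgroup.subset_closure ⟨⟨j, hj⟩, rfl⟩

theorem H_le : H ≤ K := (Subgroup.closure_le _).2 (by rintro _ ⟨j, rfl⟩; exact gEl_mem j.2)

theorem prodEl_spec : ∀ (w : List ℕ), (∀ j ∈ w, j < 7) → prodEl w ∈ H ∧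
    ∀ k < 256, follow w k < 256 ∧ Cong (prodEl w • rv k) (rv (follow w k))
  | [], _ => ⟨one_mem _, fun k hk => ⟨hk, by rw [prodEl, one_smul]; exact Cong.refl _⟩⟩
  | j :: w, h => by
    obtain ⟨h1, h2⟩ := prodEl_spec w fun i hi => h i (List.mem_cons_of_mem _ hi)
    have hj := h j List.mem_cons_self
    refine ⟨mul_mem h1 (gEl_mem_H hj), fun k hk => ?_⟩
    obtain ⟨h3, h4⟩ := gEl_act hj hk
    obtain ⟨h5, h6⟩ := h2 _ h3
    refine ⟨h5, ?_⟩
    rw [prodEl, mul_smul]
    exact (h4.smul _).trans h6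

/-- A signed permutation commuting with `tt`. -/
theorem mono_comm {g : Co0} (hg : g ∈ monoSub) (hc : g * tt = tt * g) :
    ∃ (τ : Equiv.Perm GolayPt) (hτ : τ ∈ M24) (c : GolayPt → ZMod 2) (hc' : c ∈ golayCode),
      g = monoEl τ hτ c hc' ∧ τ * R = R * τ ∧ c ∘ R = c := by
  obtain ⟨τ, hτ, c, hc', rfl⟩ := exists_mono_of_stdStab hg
  refine ⟨τ, hτ, c, hc', rfl, ?_⟩
  rw [tt_eq, monoEl_mul, monoEl_mul] at hc
  obtain ⟨h1, h2⟩ := mono_inj hc
  simp only [Pi.zero_comp, add_zero, zero_add] at h2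
  exact ⟨h1.symm, h2.symm⟩

theorem fixed_word {c : GolayPt → ZMod 2} (hc : c ∈ golayCode) (h : c ∘ R = c) :
    ∃ x ∈ FiveData.fixCode, c = Golay.toWord (Golay.comb x) := by
  obtain ⟨x, hx, rfl⟩ := Golay.mem_golay_iff.1 hc
  have hcc := code_check
  simp only [List.all_eq_true, List.mem_range, Bool.or_eq_true, Bool.not_eq_true', List.contains_eq_mem,
    decide_eq_true_eq] at hcc
  rcases hcc x hx with hne | hmem
  · exfalso
    refine Bool.eq_false_iff.1 hne (List.all_eq_true.2 fun i hi => ?_)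
    rw [List.mem_range] at hi
    have e := congrFun h (Golay.pt i)
    rw [Function.comp_apply, R_pt hi] at e
    simp only [Golay.toWord, Golay.bit_pt hi, Golay.bit_pt (img_lt hi)] at e
    rw [beq_iff_eq]
    revert e
    cases (Golay.comb x).testBit (Trans.img FiveData.tcode i) <;> cases (Golay.comb x).testBit i <;> simp
  · exact ⟨x, hmem, rfl⟩

theorem sign_mem {x : ℕ} (hx : x ∈ FiveData.fixCode) :
    monoEl 1 (one_mem _) (Golay.toWord (Golay.comb x)) (Golay.toWord_comb_mem _) ∈ H := by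
  obtain ⟨m, hm, he⟩ := List.any_eq_true.1 (List.all_eq_true.1 span_check x hx)
  have he' := (Nat.eq_of_beq_eq_true he).symm
  subst he'
  have hid := id_check
  simp only [Bool.and_eq_true, List.all_eq_true, List.mem_range] at hid
  have hidp : Trans.tblPerm idCode = 1 := Equiv.ext fun p => by
    rw [Trans.tblPerm_apply hid.1, Trans.tblFun, Nat.eq_of_beq_eq_true (hid.2 _ (Golay.bit_lt p)), Golay.pt_bit,
      Equiv.Perm.one_apply]
  have hgen : ∀ q < 4, monoEl 1 (one_mem _) (Golay.toWord (Golay.comb (FiveData.signGens.getD q 0)))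
      (Golay.toWord_comb_mem _) ∈ H := by
    intro q hq
    have h := gEl_mem_H (j := 2 + q) (by omega)
    rw [gEl, gens_shape.2.2 q hq, wordEl_single, stepEl, dif_pos hid.1] at h
    convert h using 1
    exact monoEl_congr hidp.symm rfl
  suffices ∀ n ≤ 4, monoEl 1 (one_mem _) (Golay.toWord (Golay.comb (imgK FiveData.signGens n m)))
      (Golay.toWord_comb_mem _) ∈ H from this 4 le_rfl
  intro n
  induction n with
  | zero =>
    intro _
    simp only [imgK]
    convert H.one_mem using 1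
    rw [← monoEl_one]
    exact monoEl_congr rfl toWord_comb_zero
  | succ n ih =>
    intro hn
    cases hb : m.testBit n with
    | false => simp only [imgK, hb, cond_false]; exact ih (by omega)
    | true =>
      have h := mul_mem (ih (by omega)) (hgen n (by omega))
      rw [monoEl_mul] at h
      convert h using 1
      refine monoEl_congr (mul_one _).symm ?_
      simp only [imgK, hb, cond_true, Golay.comb_xor, Golay.toWord_xor]
      funext p
      simp

theorem perm_mem {τ : Equiv.Perm GolayPt} (hτ : τ ∈ M24) (hc : τ * R = R * τ) :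
    monoEl τ hτ 0 (zero_mem _) ∈ H := by
  obtain ⟨n, hn, he⟩ := cz_complete hτ hc
  have h := perm_gens_check
  simp only [Bool.and_eq_true, List.all_eq_true, List.mem_range, Nat.blt_eq] at h
  obtain ⟨hwl, hwi⟩ := h.2 n hn
  have hgl : ∀ g < 2, Trans.okT (FiveData.permGens.getD g 0) = true := fun g hg => by
    rw [List.getD_eq_getElem _ _ (show g < FiveData.permGens.length from hg)]
    exact h.1 _ (List.getElem_mem _)
  suffices ∀ w : List ℕ, (∀ g ∈ w, g < 2) → ∃ (σ : Equiv.Perm GolayPt) (hσ : σ ∈ M24),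
      monoEl σ hσ 0 (zero_mem _) ∈ H ∧ ∀ i < 24, evalC w i < 24 ∧ σ (Golay.pt i) = Golay.pt (evalC w i) by
    obtain ⟨σ, hσ, hmem, hσi⟩ := this _ hwl
    convert hmem using 1
    refine monoEl_congr (Equiv.ext fun p => ?_) rfl
    rw [← Golay.pt_bit p, he _ (Golay.bit_lt p), (hσi _ (Golay.bit_lt p)).2,
      Nat.eq_of_beq_eq_true (hwi _ (Golay.bit_lt p))]
  intro w
  induction w with
  | nil =>
    intro _
    exact ⟨1, one_mem _, by rw [monoEl_one]; exact one_mem _, fun i hi => ⟨hi, rfl⟩⟩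
  | cons g w ih =>
    intro hw
    obtain ⟨σ, hσ, hmem, hσi⟩ := ih fun a ha => hw a (List.mem_cons_of_mem _ ha)
    have hg := hgl g (hw g List.mem_cons_self)
    have hgH : monoEl (Trans.tblPerm (FiveData.permGens.getD g 0)) (Trans.tblPerm_mem hg) 0 (zero_mem _) ∈ H := by
      have h1 := gEl_mem_H (j := g) (lt_trans (hw g List.mem_cons_self) (by norm_num))
      have h2 : gen g = [some (FiveData.permGens.getD g 0, 0)] := by
        have := hw g List.mem_cons_self
        interval_cases g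
        exacts [gens_shape.1, gens_shape.2.1]
      rw [gEl, h2, wordEl_single, stepEl, dif_pos hg] at h1
      convert h1 using 1
      exact monoEl_congr rfl toWord_comb_zero.symm
    refine ⟨_, mul_mem (Trans.tblPerm_mem hg) hσ, ?_, fun i hi => ?_⟩
    · have h1 := mul_mem hmem hgH
      rw [monoEl_mul] at h1
      convert h1 using 1
      exact monoEl_congr rfl (by funext p; simp)
    · obtain ⟨h1, h2⟩ := hσi i hi
      have h3 : Trans.img (FiveData.permGens.getD g 0) (evalC w i) < 24 := by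
        have h' := hg
        simp only [Trans.okT, Bool.and_eq_true, List.all_eq_true, List.mem_range, Nat.blt_eq] at h'
        exact h'.1.1 _ h1
      refine ⟨h3, ?_⟩
      rw [Equiv.Perm.mul_apply, h2, Trans.tblPerm_apply hg, Trans.tblFun, Golay.bit_pt h1]
      rfl

theorem mono_mem {g : Co0} (hg : g ∈ monoSub) (hc : g * tt = tt * g) : g ∈ H := by
  obtain ⟨τ, hτ, c, hc', rfl, hR, hcR⟩ := mono_comm hg hc
  obtain ⟨x, hx, rfl⟩ := fixed_word hc' hcR
  have h := mul_mem (sign_mem hx) (perm_mem hτ hR)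
  rw [monoEl_mul] at h
  convert h using 1
  exact monoEl_congr (mul_one _).symm (by funext p; simp)

theorem frames_spec {k : ℕ} (hk : k ∈ frames) : ∃ w, (∀ j ∈ w, j < 7) ∧ follow w 1 = k := by
  obtain ⟨e, he, rfl⟩ := List.mem_map.1 hk
  have h := List.all_eq_true.1 orbit_check.1 e he
  simp only [Bool.and_eq_true, List.all_eq_true, Nat.blt_eq] at h
  exact ⟨e.2, h.2, Nat.eq_of_beq_eq_true h.1⟩

theorem K_frame (g : K) : ∃ k ∈ frames, k < 256 ∧ Cong ((g : Co0) • rv 1) (rv k) := by
  obtain ⟨k, hk, hc⟩ := fixed.cover ((g : Co0) • rv 1) (by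
    rw [← mul_smul, ← K_comm g, mul_smul]; exact (fixed.fix 1 (by norm_num)).smul (g : Co0))
  refine ⟨k, ?_, hk, hc⟩
  refine (norm64 hk).1 (fixed.norm_eq hk hc ?_)
  rw [sqNorm_smul]
  exact (norm64 (by norm_num)).2 (by decide)

theorem K_le_H : K ≤ H := by
  intro g hg
  obtain ⟨k, hk, -, hc⟩ := K_frame ⟨g, hg⟩
  obtain ⟨w, hw, rfl⟩ := frames_spec hk
  obtain ⟨hH, hact⟩ := prodEl_spec w hw
  have hm : (prodEl w)⁻¹ * g ∈ H := by
    refine mono_mem ?_ ?_
    · rw [← classStab_one, mem_classStab, mul_smul]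
      have h1 := (hc.trans (hact 1 (by norm_num)).2.symm).smul (prodEl w)⁻¹
      rwa [inv_smul_smul] at h1
    · exact Subgroup.mem_centralizer_singleton_iff.1 (mul_mem (inv_mem (H_le hH)) hg)
  simpa using mul_mem hH hm

/-- The number of a point of the disjoint union. -/
def code : Fin 5 ⊕ Fin 5 → ℕ := Sum.elim (fun i => (i : ℕ)) fun i => 5 + i

/-- The system of a point. -/
def sysAt (a : Fin 5 ⊕ Fin 5) : List ℕ := sys (code a)

/-- An element maps the systems as a permutation does. -/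
def Maps (g : Co0) (σ : Equiv.Perm (Fin 5 ⊕ Fin 5)) : Prop :=
  ∀ a, ∀ k ∈ sysAt a, ∃ l ∈ sysAt (σ a), Cong (g • rv k) (rv l)

theorem code_facts : (∀ a, code a < 10) ∧ ∀ a b, code a = code b → a = b := by decide +kernel

theorem sysAt_facts (a : Fin 5 ⊕ Fin 5) : (sysAt a).length = 16 ∧ (sysAt a).Nodup ∧
    (∀ k ∈ sysAt a, k < 256) ∧
    ∀ b, a ≠ b → ((sysAt a).filter fun k => (sysAt b).contains k).length < 16 := by
  have h := List.all_eq_true.1 systems_check (code a) (List.mem_range.2 (code_facts.1 a))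
  simp only [Bool.and_eq_true, List.all_eq_true, List.mem_range, Nat.blt_eq, decide_eq_true_eq, Bool.or_eq_true] at h
  refine ⟨Nat.eq_of_beq_eq_true h.1.1.1, h.1.1.2, h.1.2, fun b hab => ?_⟩
  rcases h.2 (code b) (code_facts.1 b) with e | e
  · exact absurd (code_facts.2 _ _ (Nat.eq_of_beq_eq_true e)) hab
  · exact e

theorem maps_one : Maps 1 1 := fun a k hk => ⟨k, hk, by rw [one_smul]; exact Cong.refl _⟩

theorem Maps.mul {g h : Co0} {σ τ : Equiv.Perm (Fin 5 ⊕ Fin 5)} (hg : Maps g σ) (hh : Maps h τ) :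
    Maps (g * h) (σ * τ) := by
  intro a k hk
  obtain ⟨l, hl, hc⟩ := hh a k hk
  obtain ⟨m, hm, hc'⟩ := hg _ l hl
  exact ⟨m, hm, by rw [mul_smul]; exact (hc.smul g).trans hc'⟩

theorem Maps.pow {g : Co0} {σ : Equiv.Perm (Fin 5 ⊕ Fin 5)} (hg : Maps g σ) : ∀ n : ℕ, Maps (g ^ n) (σ ^ n)
  | 0 => by rw [pow_zero, pow_zero]; exact maps_one
  | n + 1 => by rw [pow_succ, pow_succ]; exact (hg.pow n).mul hg

theorem Maps.unique {g : Co0} {σ τ : Equiv.Perm (Fin 5 ⊕ Fin 5)} (hσ : Maps g σ) (hτ : Maps g τ) : σ = τ := by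
  classical
  refine Equiv.ext fun a => ?_
  by_contra hne
  obtain ⟨h1, h2, h3, -⟩ := sysAt_facts a
  obtain ⟨-, h5, h6, h7⟩ := sysAt_facts (σ a)
  have h8 := h7 (τ a) hne
  choose f hf hfc using fun k : {k // k ∈ (sysAt a).toFinset} => hσ a k.1 (List.mem_toFinset.1 k.2)
  have hmem : ∀ k, f k ∈ ((sysAt (σ a)).filter fun l => (sysAt (τ a)).contains l).toFinset := by
    intro k
    obtain ⟨l, hl, hlc⟩ := hτ a k.1 (List.mem_toFinset.1 k.2)
    have : f k = l := fixed.cong_inj (h6 _ (hf k)) ((sysAt_facts (τ a)).2.2.1 _ hl) ((hfc k).symm.trans hlc)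
    rw [List.mem_toFinset, List.mem_filter]
    exact ⟨hf k, by simpa [this] using hl⟩
  have hinj : Function.Injective fun k => (⟨f k, hmem k⟩ :
      {l // l ∈ ((sysAt (σ a)).filter fun l => (sysAt (τ a)).contains l).toFinset}) := by
    intro k k' e
    have e' := congrArg Subtype.val e
    simp only at e'
    have hc := ((hfc k).trans (e' ▸ (hfc k').symm)).smul g⁻¹
    rw [inv_smul_smul, inv_smul_smul] at hc
    exact Subtype.ext (fixed.cong_inj (h3 _ (List.mem_toFinset.1 k.2)) (h3 _ (List.mem_toFinset.1 k'.2)) hc)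
  have h9 := Fintype.card_le_of_injective _ hinj
  simp only [Fintype.card_coe] at h9
  rw [List.toFinset_card_of_nodup h2, h1, List.toFinset_card_of_nodup (h5.filter _)] at h9
  omega

/-- A generator of the alternating group. -/
def altP (j : ℕ) : Equiv.Perm (Fin 5) :=
  bif Nat.beq j 0 then finRotate 5 else Equiv.swap 0 1 * Equiv.swap 1 2

/-- A product in the alternating group. -/
def evalA : List ℕ → Equiv.Perm (Fin 5)
  | [] => 1
  | j :: w => altP j * evalA w

theorem evalA_mem : ∀ w, evalA w ∈ alternatingGroup (Fin 5)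
  | [] => one_mem _
  | j :: w => by
    refine mul_mem ?_ (evalA_mem w)
    rw [Equiv.Perm.mem_alternatingGroup, altP]
    cases Nat.beq j 0
    · decide +kernel
    · decide +kernel

/-- The parts of the permutations of the systems, as numbers of words. -/
def partsIdx : List (Bool × ℕ × ℕ) :=
  [(false, 48, 58), (false, 8, 9), (true, 45, 27), (true, 51, 51), (true, 20, 39), (true, 23, 34), (false, 42, 2)]

/-- The permutation of the systems under a generator. -/
def gam (j : ℕ) : Equiv.Perm (Fin 5 ⊕ Fin 5) :=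
  (bif (partsIdx.getD j (false, 0, 0)).1 then Equiv.sumComm (Fin 5) (Fin 5) else 1) *
    Equiv.Perm.sumCongr (evalA (FiveData.altWords.getD (partsIdx.getD j (false, 0, 0)).2.1 []))
      (evalA (FiveData.altWords.getD (partsIdx.getD j (false, 0, 0)).2.2 []))

theorem gam_check : ∀ j : Fin 7, ∀ a, code (gam j a) = (FiveData.perms.getD j []).getD (code a) 10 := by
  decide +kernel

theorem congr_mem {σ τ : Equiv.Perm (Fin 5)} (hσ : σ ∈ alternatingGroup (Fin 5))
    (hτ : τ ∈ alternatingGroup (Fin 5)) : Equiv.Perm.sumCongr σ τ ∈ alternatingFiveWreathTwo :=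
  Subgroup.subset_closure (Or.inl ⟨⟨σ, hσ⟩, ⟨τ, hτ⟩, rfl⟩)

theorem swap_mem : (Equiv.sumComm (Fin 5) (Fin 5) : Equiv.Perm (Fin 5 ⊕ Fin 5)) ∈ alternatingFiveWreathTwo :=
  Subgroup.subset_closure (Or.inr rfl)

theorem gam_mem (j : ℕ) : gam j ∈ alternatingFiveWreathTwo := by
  refine mul_mem ?_ (congr_mem (evalA_mem _) (evalA_mem _))
  cases (partsIdx.getD j (false, 0, 0)).1
  exacts [one_mem _, swap_mem]

theorem gam_maps {j : ℕ} (hj : j < 7) : Maps (gEl j) (gam j) := by
  intro a k hk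
  have h := List.all_eq_true.1 (List.all_eq_true.1 (List.all_eq_true.1 perms_check j (List.mem_range.2 hj)) (code a)
    (List.mem_range.2 (code_facts.1 a))) k hk
  rw [← gam_check ⟨j, hj⟩ a] at h
  refine ⟨_, ?_, (gEl_act hj ((sysAt_facts a).2.2.1 k hk)).2⟩
  simpa [sysAt] using h

theorem exists_maps (g : K) : ∃ σ : ↥alternatingFiveWreathTwo, Maps (g : Co0) σ := by
  have h := K_le_H g.2
  suffices ∀ x ∈ H, ∃ σ : ↥alternatingFiveWreathTwo, Maps x σ from this _ h
  intro x hx
  induction hx using Subgroup.closure_induction with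
  | mem y hy =>
    obtain ⟨j, rfl⟩ := hy
    exact ⟨⟨_, gam_mem j⟩, gam_maps j.2⟩
  | one => exact ⟨1, maps_one⟩
  | mul a b _ _ iha ihb =>
    obtain ⟨σ, hσ⟩ := iha
    obtain ⟨τ, hτ⟩ := ihb
    exact ⟨σ * τ, hσ.mul hτ⟩
  | inv a _ iha =>
    obtain ⟨σ, hσ⟩ := iha
    refine ⟨σ ^ (orderOf a - 1), ?_⟩
    rw [show a⁻¹ = a ^ (orderOf a - 1) from inv_eq_of_mul_eq_one_right (by
      rw [← pow_succ', Nat.sub_add_cancel (orderOf_pos a), pow_orderOf_eq_one])]
    exact hσ.pow _

/-- The action on the ten systems. -/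
noncomputable def psi : K →* ↥alternatingFiveWreathTwo :=
  MonoidHom.mk' (fun g => (exists_maps g).choose) fun g h => Subtype.ext
    ((exists_maps (g * h)).choose_spec.unique ((exists_maps g).choose_spec.mul (exists_maps h).choose_spec))

theorem psi_eq {g : K} {σ : Equiv.Perm (Fin 5 ⊕ Fin 5)} (h : Maps (g : Co0) σ) :
    (psi g : Equiv.Perm (Fin 5 ⊕ Fin 5)) = σ :=
  (exists_maps g).choose_spec.unique h

theorem psi_faith (g : K) (hg : ∀ k < 2 ^ 8, Cong ((g : Co0) • rv k) (rv k)) : psi g = 1 :=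
  Subtype.ext (psi_eq fun a k hk => ⟨k, hk, hg k ((sysAt_facts a).2.2.1 k hk)⟩)

/-- The permutation of the systems under a word. -/
def gamW : List ℕ → Equiv.Perm (Fin 5 ⊕ Fin 5)
  | [] => 1
  | j :: w => gamW w * gam j

theorem gamW_maps : ∀ (w : List ℕ), (∀ j ∈ w, j < 7) → Maps (prodEl w) (gamW w)
  | [], _ => maps_one
  | j :: w, h => (gamW_maps w fun i hi => h i (List.mem_cons_of_mem _ hi)).mul (gam_maps (h j List.mem_cons_self))

/-- The elements to be reached. -/
def target (t : ℕ) : Equiv.Perm (Fin 5 ⊕ Fin 5) :=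
  [Equiv.Perm.sumCongr (altP 0) 1, Equiv.Perm.sumCongr (altP 1) 1, Equiv.Perm.sumCongr 1 (altP 0),
    Equiv.Perm.sumCongr 1 (altP 1), Equiv.sumComm (Fin 5) (Fin 5)].getD t 1

theorem target_check : ∀ t : Fin 5, (∀ j ∈ FiveData.targetWords.getD t [], j < 7) ∧
    ∀ a, gamW (FiveData.targetWords.getD t []) a = target t a := by
  decide +kernel

theorem alt_check : ∀ σ : Equiv.Perm (Fin 5), Equiv.Perm.sign σ = 1 →
    ∃ w ∈ FiveData.altWords, ∀ i, evalA w i = σ i := by
  decide +kernel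

/-- The image of the action, as permutations. -/
noncomputable def img : Subgroup (Equiv.Perm (Fin 5 ⊕ Fin 5)) := psi.range.map (Subgroup.subtype _)

theorem target_mem {t : ℕ} (ht : t < 5) : target t ∈ img := by
  obtain ⟨hw, he⟩ := target_check ⟨t, ht⟩
  refine ⟨psi ⟨prodEl (FiveData.targetWords.getD t []), H_le (prodEl_spec _ hw).1⟩, ⟨_, rfl⟩, ?_⟩
  exact (psi_eq (gamW_maps _ hw)).trans (Equiv.ext he)

theorem psi_surj : Function.Surjective psi := by
  have hle : alternatingFiveWreathTwo ≤ img := by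
    refine (Subgroup.closure_le _).2 ?_
    have key : ∀ w, Equiv.Perm.sumCongr (evalA w) 1 ∈ img ∧ Equiv.Perm.sumCongr 1 (evalA w) ∈ img := by
      intro w
      induction w with
      | nil => simp only [evalA, Equiv.Perm.sumCongr_one]; exact ⟨one_mem _, one_mem _⟩
      | cons j w ih =>
        have hj : Equiv.Perm.sumCongr (altP j) 1 ∈ img ∧ Equiv.Perm.sumCongr 1 (altP j) ∈ img := by
          have e : altP j = altP 0 ∨ altP j = altP 1 := by
            cases h : Nat.beq j 0
            · right; simp only [altP, h]; rfl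
            · left; simp only [altP, h]; rfl
          rcases e with e | e <;> rw [e]
          exacts [⟨target_mem (t := 0) (by norm_num), target_mem (t := 2) (by norm_num)⟩,
            ⟨target_mem (t := 1) (by norm_num), target_mem (t := 3) (by norm_num)⟩]
        constructor
        · have := mul_mem hj.1 ih.1
          rwa [Equiv.Perm.sumCongr_mul, one_mul] at this
        · have := mul_mem hj.2 ih.2
          rwa [Equiv.Perm.sumCongr_mul, one_mul] at this
    rintro g (⟨σ, τ, rfl⟩ | hg)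
    · obtain ⟨u, -, hu⟩ := alt_check σ (Equiv.Perm.mem_alternatingGroup.1 σ.2)
      obtain ⟨v, -, hv⟩ := alt_check τ (Equiv.Perm.mem_alternatingGroup.1 τ.2)
      have := mul_mem (key u).1 (key v).2
      rwa [Equiv.Perm.sumCongr_mul, one_mul, mul_one, Equiv.ext hu, Equiv.ext hv] at this
    · rw [Set.mem_singleton_iff] at hg
      subst hg
      exact target_mem (t := 4) (by norm_num)
  intro σ
  obtain ⟨y, ⟨g, rfl⟩, hy⟩ := hle σ.2
  exact ⟨g, Subtype.ext hy⟩

theorem card_alt : Nat.card ↥(alternatingGroup (Fin 5)) = 60 := by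
  rw [nat_card_alternatingGroup, Nat.card_fin]; rfl

theorem card_gamma_ge : 7200 ≤ Nat.card ↥alternatingFiveWreathTwo := by
  let f : ↥(alternatingGroup (Fin 5)) × ↥(alternatingGroup (Fin 5)) × Bool → ↥alternatingFiveWreathTwo := fun x =>
    ⟨(bif x.2.2 then Equiv.sumComm (Fin 5) (Fin 5) else 1) * Equiv.Perm.sumCongr x.1 x.2.1,
      mul_mem (by cases x.2.2; exacts [one_mem _, swap_mem]) (congr_mem x.1.2 x.2.1.2)⟩
  have hinj : Function.Injective f := by
    rintro ⟨σ, τ, e⟩ ⟨σ', τ', e'⟩ h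
    have h' := congrArg Subtype.val h
    have he : e = e' := by
      have h0 := DFunLike.congr_fun h' (Sum.inl 0)
      simp only [f, Equiv.Perm.mul_apply] at h0
      cases e <;> cases e' <;> simp_all
    subst he
    have h2 := mul_left_cancel h'
    have h3 := Equiv.Perm.sumCongrHom_injective (a₁ := ((σ : Equiv.Perm (Fin 5)), (τ : Equiv.Perm (Fin 5))))
      (a₂ := ((σ' : Equiv.Perm (Fin 5)), (τ' : Equiv.Perm (Fin 5)))) h2
    simp only [Prod.mk.injEq] at h3
    exact Prod.ext (Subtype.ext h3.1) (Prod.ext (Subtype.ext h3.2) rfl)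
  have h := Nat.card_le_card_of_injective f hinj
  rw [Nat.card_prod, Nat.card_prod, card_alt, Nat.card_eq_fintype_card (α := Bool), Fintype.card_bool] at h
  omega

theorem card_mono_part : Nat.card ↥(monoSub.subgroupOf K) ≤ 960 := by
  classical
  have hmem : ∀ g : ↥(monoSub.subgroupOf K), ∃ (n : Fin 60) (i : Fin FiveData.fixCode.length)
      (τ : Equiv.Perm GolayPt) (hτ : τ ∈ M24),
      (∀ j < 24, τ (Golay.pt j) = Golay.pt (Trans.img (FiveData.cz.getD n 0) j)) ∧
      ((g : K) : Co0) = monoEl τ hτ (Golay.toWord (Golay.comb FiveData.fixCode[i]))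
        (Golay.toWord_comb_mem _) := by
    intro g
    obtain ⟨τ, hτ, c, hc, hg, hcz, hR⟩ := mono_comm g.2 (K_comm (g : K))
    obtain ⟨x, hx, rfl⟩ := fixed_word hc hR
    obtain ⟨i, hi, rfl⟩ := List.getElem_of_mem hx
    obtain ⟨n, hn, hn'⟩ := cz_complete hτ hcz
    exact ⟨⟨n, hn⟩, ⟨i, hi⟩, τ, hτ, hn', hg⟩
  choose a c τ hτ hτp hac using hmem
  have hinj : Function.Injective fun g => (a g, c g) := by
    intro g g' e
    simp only [Prod.mk.injEq] at e
    refine Subtype.ext (Subtype.ext ?_)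
    rw [hac g, hac g']
    refine monoEl_congr (Equiv.ext fun p => ?_) (by rw [e.2])
    rw [← Golay.pt_bit p, hτp g _ (Golay.bit_lt p), hτp g' _ (Golay.bit_lt p), e.1]
  refine (Nat.card_le_card_of_injective _ hinj).trans (le_of_eq ?_)
  rw [Nat.card_prod, Nat.card_fin, Nat.card_fin]
  rfl

theorem card_K_le : Nat.card K ≤ 72000 := by
  classical
  choose f hf hflt hfc using fun g : K => K_frame g
  let F : K ⧸ monoSub.subgroupOf K → {k // k ∈ frames.toFinset} :=
    fun q => ⟨f q.out, List.mem_toFinset.2 (hf q.out)⟩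
  have hinj : Function.Injective F := by
    intro q q' e
    rw [← QuotientGroup.out_eq' q, ← QuotientGroup.out_eq' q', QuotientGroup.eq, Subgroup.mem_subgroupOf]
    refine classStab_one.le ?_
    rw [mem_classStab, Subgroup.coe_mul, InvMemClass.coe_inv, mul_smul]
    have h2 := hfc q'.out
    rw [← (show f q.out = f q'.out from congrArg Subtype.val e)] at h2
    have h3 := (h2.trans (hfc q.out).symm).smul (q.out : Co0)⁻¹
    rwa [inv_smul_smul] at h3
  have h1 := Nat.card_le_card_of_injective F hinj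
  rw [Nat.card_eq_fintype_card (α := {k // k ∈ frames.toFinset}), Fintype.card_coe] at h1
  have h2 : frames.toFinset.card ≤ 75 := by
    refine (List.toFinset_card_le _).trans (le_of_eq ?_)
    rw [frames, List.length_map, Nat.eq_of_beq_eq_true orbit_check.2.2]
  rw [← Subgroup.card_mul_index (monoSub.subgroupOf K), Subgroup.index_eq_card]
  calc _ ≤ 960 * 75 := Nat.mul_le_mul card_mono_part (h1.trans h2)
    _ = 72000 := by norm_num

theorem psi_ker (g : K) (hg : psi g = 1) : ∃ i : ℕ, (g : Co0) = tt ^ i ∨ (g : Co0) = tt ^ i * negEl := by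
  classical
  have hn : negEl ∈ K := Subgroup.mem_centralizer_singleton_iff.2 (negEl_comm tt).symm
  let f : Fin 5 × Bool → ↥psi.ker := fun a => ⟨⟨tt ^ (a.1 : ℕ) * (bif a.2 then negEl else 1),
    mul_mem (pow_mem (Subgroup.mem_centralizer_singleton_iff.2 rfl) _) (by cases a.2; exacts [one_mem _, hn])⟩, by
      rw [MonoidHom.mem_ker]
      refine psi_faith _ fun k hk => ?_
      show Cong ((tt ^ (a.1 : ℕ) * (bif a.2 then negEl else 1)) • rv k) _
      rw [mul_smul]
      cases a.2
      · rw [cond_false, one_smul]; exact fixed.pow_fix hk _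
      · rw [cond_true, negEl_smul, smul_neg']; exact (cong_neg _).trans (fixed.pow_fix hk _)⟩
  have hodd : ∀ {n : ℕ}, tt ^ n ≠ negEl := fun {n} e => by
    have h := congrArg (fun g : Co0 => g ^ 5) e
    simp only [← pow_mul, mul_comm n 5] at h
    rw [pow_mul, fixed.pow, one_pow, show 5 = 2 * 2 + 1 from rfl, pow_succ, pow_mul,
      show negEl ^ 2 = (1 : Co0) by rw [pow_two, sq_negEl], one_pow, one_mul] at h
    have h8 := congrArg (fun g : Co0 => ((g • eightVec none : leechLattice) : GolayPt → ℤ) none) h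
    simp [negEl_smul, coe_eightVec] at h8
  have hinj : Function.Injective f := by
    rintro ⟨i, x⟩ ⟨j, y⟩ h
    have h' : tt ^ (i : ℕ) * (bif x then negEl else 1) = tt ^ (j : ℕ) * (bif y then negEl else 1) :=
      congrArg (fun a : ↥psi.ker => ((a : K) : Co0)) h
    have hne : ∀ a c : ℕ, a < 5 → c < 5 → tt ^ a = tt ^ c → a = c := fun a c ha hc e =>
      pow_injOn_Iio_orderOf (by rw [Set.mem_Iio, tt_ord]; exact ha) (by rw [Set.mem_Iio, tt_ord]; exact hc) e
    have hbad : ∀ a c : ℕ, tt ^ a * negEl ≠ tt ^ c := fun a c e => by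
      refine hodd (n := c + 4 * a) ?_
      rw [pow_add, ← e, mul_assoc, ← negEl_comm, ← mul_assoc, ← pow_add, show a + 4 * a = 5 * a by ring,
        pow_mul, fixed.pow, one_pow, one_mul]
    cases x <;> cases y <;> simp only [cond_true, cond_false, mul_one] at h'
    · rw [Fin.ext (hne _ _ i.2 j.2 h')]
    · exact absurd h'.symm (hbad _ _)
    · exact absurd h' (hbad _ _)
    · rw [Fin.ext (hne _ _ i.2 j.2 (mul_right_cancel h'))]
  have hcard : Nat.card ↥psi.ker ≤ Nat.card (Fin 5 × Bool) := by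
    have h := Subgroup.card_mul_index psi.ker
    rw [Subgroup.index_ker, MonoidHom.range_eq_top.2 psi_surj, Subgroup.card_top] at h
    have hK := card_K_le
    have hG := card_gamma_ge
    rw [Nat.card_prod, Nat.card_fin, Nat.card_eq_fintype_card (α := Bool), Fintype.card_bool]
    nlinarith
  obtain ⟨⟨i, x⟩, hx⟩ := (hinj.bijective_of_nat_card_le hcard).2 ⟨g, hg⟩
  refine ⟨i, ?_⟩
  have h' : tt ^ (i : ℕ) * (bif x then negEl else 1) = (g : Co0) :=
    congrArg (fun a : ↥psi.ker => ((a : K) : Co0)) hx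
  cases x
  · exact Or.inl (by rw [← h', cond_false, mul_one])
  · exact Or.inr (by rw [← h', cond_true])

theorem centre_check : ∀ α : Equiv.Perm (Fin 5), (∀ i, α (altP 0 i) = altP 0 (α i)) →
    (∀ i, α (altP 1 i) = altP 1 (α i)) → ∀ i, α i = i := by
  decide +kernel

theorem eq_one_of_comm {α : ↥(alternatingGroup (Fin 5))} (h : ∀ σ : ↥(alternatingGroup (Fin 5)), α * σ = σ * α) :
    α = 1 := by
  have hm : ∀ j, altP j ∈ alternatingGroup (Fin 5) := fun j => by simpa [evalA] using evalA_mem [j]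
  refine Subtype.ext (Equiv.ext (centre_check _ ?_ ?_)) <;> intro i
  exacts [DFunLike.congr_fun (congrArg Subtype.val (h ⟨_, hm 0⟩)) i,
    DFunLike.congr_fun (congrArg Subtype.val (h ⟨_, hm 1⟩)) i]

theorem sumCongr_comm (σ τ : Equiv.Perm (Fin 5)) :
    Equiv.Perm.sumCongr σ τ * Equiv.sumComm (Fin 5) (Fin 5) =
      Equiv.sumComm (Fin 5) (Fin 5) * Equiv.Perm.sumCongr τ σ := by
  ext (i | i) <;> rfl

theorem comm_comm' : (Equiv.sumComm (Fin 5) (Fin 5) : Equiv.Perm (Fin 5 ⊕ Fin 5)) * Equiv.sumComm (Fin 5) (Fin 5) = 1 := by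
  ext (i | i) <;> rfl

theorem form {g : Equiv.Perm (Fin 5 ⊕ Fin 5)} (hg : g ∈ alternatingFiveWreathTwo) :
    ∃ σ τ : ↥(alternatingGroup (Fin 5)), g = Equiv.Perm.sumCongr σ τ ∨
      g = Equiv.sumComm (Fin 5) (Fin 5) * Equiv.Perm.sumCongr σ τ := by
  induction hg using Subgroup.closure_induction with
  | mem y hy =>
    rcases hy with ⟨σ, τ, rfl⟩ | hy
    · exact ⟨σ, τ, Or.inl rfl⟩
    · rw [Set.mem_singleton_iff] at hy
      exact ⟨1, 1, Or.inr (by simp [hy])⟩
  | one => exact ⟨1, 1, Or.inl (by simp)⟩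
  | mul a b _ _ iha ihb =>
    obtain ⟨σ, τ, rfl | rfl⟩ := iha <;> obtain ⟨σ', τ', rfl | rfl⟩ := ihb
    · exact ⟨σ * σ', τ * τ', Or.inl (by rw [Equiv.Perm.sumCongr_mul]; rfl)⟩
    · exact ⟨τ * σ', σ * τ', Or.inr (by rw [← mul_assoc, sumCongr_comm, mul_assoc, Equiv.Perm.sumCongr_mul]; rfl)⟩
    · exact ⟨σ * σ', τ * τ', Or.inr (by rw [mul_assoc, Equiv.Perm.sumCongr_mul]; rfl)⟩
    · exact ⟨τ * σ', σ * τ', Or.inl (by
        rw [mul_assoc, ← mul_assoc (Equiv.Perm.sumCongr _ _), sumCongr_comm, mul_assoc, ← mul_assoc, comm_comm',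
          one_mul, Equiv.Perm.sumCongr_mul]; rfl)⟩
  | inv a _ iha =>
    obtain ⟨σ, τ, rfl | rfl⟩ := iha
    · exact ⟨σ⁻¹, τ⁻¹, Or.inl (by rw [Equiv.Perm.sumCongr_inv]; rfl)⟩
    · refine ⟨τ⁻¹, σ⁻¹, Or.inr ?_⟩
      rw [mul_inv_rev, Equiv.Perm.sumCongr_inv, inv_eq_of_mul_eq_one_right comm_comm', sumCongr_comm]
      rfl

theorem psi_core (P : Subgroup ↥alternatingFiveWreathTwo) (hn : P.Normal) (hP : IsPGroup 2 P) : P = ⊥ := by
  haveI : Fact (Nat.Prime 2) := ⟨Nat.prime_two⟩
  haveI : IsSimpleGroup ↥(alternatingGroup (Fin 5)) := alternatingGroup.isSimpleGroup (by simp)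
  let ιl : ↥(alternatingGroup (Fin 5)) →* ↥alternatingFiveWreathTwo :=
    MonoidHom.mk' (fun σ => ⟨_, congr_mem σ.2 (one_mem _)⟩) fun a b => Subtype.ext (by
      show _ = Equiv.Perm.sumCongr (a : Equiv.Perm (Fin 5)) 1 * Equiv.Perm.sumCongr (b : Equiv.Perm (Fin 5)) 1
      rw [Equiv.Perm.sumCongr_mul, one_mul]; rfl)
  let ιr : ↥(alternatingGroup (Fin 5)) →* ↥alternatingFiveWreathTwo :=
    MonoidHom.mk' (fun σ => ⟨_, congr_mem (one_mem _) σ.2⟩) fun a b => Subtype.ext (by
      show _ = Equiv.Perm.sumCongr 1 (a : Equiv.Perm (Fin 5)) * Equiv.Perm.sumCongr 1 (b : Equiv.Perm (Fin 5))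
      rw [Equiv.Perm.sumCongr_mul, one_mul]; rfl)
  have triv : ∀ ι : ↥(alternatingGroup (Fin 5)) →* ↥alternatingFiveWreathTwo, Function.Injective ι →
      ∀ σ, ι σ ∈ P → σ = 1 := by
    intro ι hι σ hσ
    rcases IsSimpleGroup.eq_bot_or_eq_top_of_normal (P.comap ι) (hn.comap ι) with h | h
    · have : σ ∈ P.comap ι := hσ
      rwa [h, Subgroup.mem_bot] at this
    · exfalso
      have h2 := hP.comap_of_injective ι hι
      rw [h] at h2
      obtain ⟨n, hn⟩ := h2.exists_card_eq
      rw [Subgroup.card_top, card_alt] at hn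
      have : n < 6 := by
        by_contra hh
        have := Nat.pow_le_pow_right (show 0 < 2 by norm_num) (not_lt.1 hh)
        omega
      interval_cases n <;> simp at hn
  have hl : Function.Injective ιl := fun a b h =>
    Subtype.ext (congrArg Prod.fst (Equiv.Perm.sumCongrHom_injective (α := Fin 5) (β := Fin 5)
      (a₁ := ((a : Equiv.Perm (Fin 5)), 1)) (a₂ := ((b : Equiv.Perm (Fin 5)), 1)) (congrArg Subtype.val h)))
  have hr : Function.Injective ιr := fun a b h =>
    Subtype.ext (congrArg Prod.snd (Equiv.Perm.sumCongrHom_injective (α := Fin 5) (β := Fin 5)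
      (a₁ := (1, (a : Equiv.Perm (Fin 5)))) (a₂ := (1, (b : Equiv.Perm (Fin 5)))) (congrArg Subtype.val h)))
  have base : ∀ (p : ↥alternatingFiveWreathTwo) (α β : ↥(alternatingGroup (Fin 5))), p ∈ P →
      (p : Equiv.Perm (Fin 5 ⊕ Fin 5)) = Equiv.Perm.sumCongr α β → α = 1 ∧ β = 1 := by
    intro p α β hp he
    constructor
    · refine eq_one_of_comm fun σ => ?_
      have h1 : ιl (α * σ * α⁻¹ * σ⁻¹) ∈ P := by
        have h0 : p * (ιl σ * p⁻¹ * (ιl σ)⁻¹) ∈ P := mul_mem hp (hn.conj_mem _ (inv_mem hp) _)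
        convert h0 using 1
        refine Subtype.ext ?_
        show Equiv.Perm.sumCongr _ _ = (p : Equiv.Perm (Fin 5 ⊕ Fin 5)) * (Equiv.Perm.sumCongr _ _ *
          (p : Equiv.Perm (Fin 5 ⊕ Fin 5))⁻¹ * (Equiv.Perm.sumCongr _ _)⁻¹)
        simp only [he, Equiv.Perm.sumCongr_inv, Equiv.Perm.sumCongr_mul, Subgroup.coe_mul, InvMemClass.coe_inv]
        congr 1 <;> group
      have h2 := triv ιl hl _ h1
      rwa [mul_inv_eq_one, mul_inv_eq_iff_eq_mul] at h2
    · refine eq_one_of_comm fun σ => ?_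
      have h1 : ιr (β * σ * β⁻¹ * σ⁻¹) ∈ P := by
        have h0 : p * (ιr σ * p⁻¹ * (ιr σ)⁻¹) ∈ P := mul_mem hp (hn.conj_mem _ (inv_mem hp) _)
        convert h0 using 1
        refine Subtype.ext ?_
        show Equiv.Perm.sumCongr _ _ = (p : Equiv.Perm (Fin 5 ⊕ Fin 5)) * (Equiv.Perm.sumCongr _ _ *
          (p : Equiv.Perm (Fin 5 ⊕ Fin 5))⁻¹ * (Equiv.Perm.sumCongr _ _)⁻¹)
        simp only [he, Equiv.Perm.sumCongr_inv, Equiv.Perm.sumCongr_mul, Subgroup.coe_mul, InvMemClass.coe_inv]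
        congr 1 <;> group
      have h2 := triv ιr hr _ h1
      rwa [mul_inv_eq_one, mul_inv_eq_iff_eq_mul] at h2
  rw [Subgroup.eq_bot_iff_forall]
  intro p hp
  obtain ⟨α, β, he | he⟩ := form p.2
  · obtain ⟨rfl, rfl⟩ := base p α β hp he
    exact Subtype.ext (by rw [he]; simp)
  · exfalso
    let a : ↥(alternatingGroup (Fin 5)) := ⟨altP 0, by simpa [evalA] using evalA_mem [0]⟩
    have hq : p * (ιl a * p⁻¹ * (ιl a)⁻¹) ∈ P := mul_mem hp (hn.conj_mem _ (inv_mem hp) _)
    obtain ⟨h1, -⟩ := base _ a⁻¹ (α * a * α⁻¹) hq (by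
      show (p : Equiv.Perm (Fin 5 ⊕ Fin 5)) * (Equiv.Perm.sumCongr _ _ *
          (p : Equiv.Perm (Fin 5 ⊕ Fin 5))⁻¹ * (Equiv.Perm.sumCongr _ _)⁻¹) = _
      rw [he, mul_inv_rev, inv_eq_of_mul_eq_one_right comm_comm']
      ext (i | i) <;> simp [Equiv.Perm.mul_apply, Equiv.Perm.inv_def, Equiv.Perm.one_def])
    rw [inv_eq_one] at h1
    have := DFunLike.congr_fun (congrArg Subtype.val h1) 0
    revert this
    decide +kernel

theorem action : Action tt 8 rv psi where
  surj := psi_surj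
  ker := psi_ker
  faith := psi_faith
  core := psi_core

end CfsgLib.MonsterType.Five
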