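import Cfsg.Agent.Lib.M24Elt.Tables
import Cfsg.Agent.Lib.Leech.Trans.Engine

/-! Deductions from octads about a partly known element of the group of the code. -/

set_option autoImplicit false

namespace CfsgLib.MonsterType.Deduce

open Cfsg CfsgLib
open scoped Pointwise

/-- Two octads with five known points mapped from the first into the second. -/
def pairOk (part : List (ℕ × ℕ)) (O P : ℕ) : Bool :=
  Nat.blt O 16777216 && Nat.blt P 16777216 && M24Elt.isOct O && M24Elt.isOct P &&
    Nat.ble 5 (part.countP fun e => O.testBit e.1 && P.testBit e.2)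

/-- The value recorded at a point. -/
def valueAt (part : List (ℕ × ℕ)) (i : ℕ) : Option ℕ :=
  (part.find? fun e => Nat.beq e.1 i).map Prod.snd

/-- Follow the deductions; they must end in a contradiction or in the listed permutation `T`. -/
def run (T : ℕ) : List (ℕ × ℕ × ℕ × ℕ × ℕ) → List (ℕ × ℕ) → Bool
  | [], part => (List.range 24).all fun i => valueAt part i == some (Leech.Trans.img T i)
  | (i, O, P, O2, P2) :: rest, part =>
    Nat.blt i 24 && O.testBit i && O2.testBit i && pairOk part O P && pairOk part O2 P2 &&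
      match valueAt part i with
      | some j => !(P.testBit j && P2.testBit j)
      | none =>
        match (List.range 24).filter (fun j => P.testBit j && P2.testBit j && !(part.any fun e => Nat.beq e.2 j)) with
        | [] => true
        | [j] => run T rest ((i, j) :: part)
        | _ => false

/-- The recorded values are correct. -/
structure Inv (x : Equiv.Perm GolayPt) (part : List (ℕ × ℕ)) : Prop where
  val : ∀ e ∈ part, e.1 < 24 ∧ e.2 < 24 ∧ x (Golay.pt e.1) = Golay.pt e.2
  nodup : (part.map Prod.fst).Nodup

theorem pair_sound {x : Equiv.Perm GolayPt} (hx : x ∈ M24) {part : List (ℕ × ℕ)} (h : Inv x part) {O P : ℕ}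
    (hok : pairOk part O P = true) {i : ℕ} (hi : i < 24) (hO : O.testBit i = true) :
    ∃ j < 24, P.testBit j = true ∧ x (Golay.pt i) = Golay.pt j := by
  classical
  simp only [pairOk, Bool.and_eq_true, Nat.blt_eq, Nat.ble_eq] at hok
  obtain ⟨⟨⟨⟨hO24, hP24⟩, hOo⟩, hPo⟩, hcnt⟩ := hok
  set l := part.filter fun e => O.testBit e.1 && P.testBit e.2
  have hlen : 5 ≤ l.length := by rw [← List.countP_eq_length_filter]; exact hcnt
  have hsub : ∀ e ∈ l, x (Golay.pt e.1) ∈ (x • Golay.toSet O) ∩ Golay.toSet P := by
    intro e he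
    simp only [l, List.mem_filter, Bool.and_eq_true] at he
    obtain ⟨h1, h2, h3⟩ := h.val e he.1
    refine Finset.mem_inter.2 ⟨Finset.smul_mem_smul_finset (Golay.mem_toSet.2 ?_), ?_⟩
    · rw [Golay.bit_pt h1]; exact he.2.1
    · rw [h3, Golay.mem_toSet, Golay.bit_pt h2]; exact he.2.2
  have hnd : (l.map fun e => x (Golay.pt e.1)).Nodup := by
    refine List.Nodup.map_on (fun a ha c hc e => ?_) (List.Nodup.filter _ (List.Nodup.of_map _ h.nodup))
    have ha' := List.mem_of_mem_filter ha
    have hc' := List.mem_of_mem_filter hc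
    refine List.inj_on_of_nodup_map h.nodup ha' hc' ?_
    have e' := congrArg Golay.bit (x.injective e)
    rwa [Golay.bit_pt (h.val a ha').1, Golay.bit_pt (h.val c hc').1] at e'
  have hcard : 5 ≤ ((x • Golay.toSet O) ∩ Golay.toSet P).card := by
    refine le_trans ?_ (Finset.card_le_card (s := (l.map fun e => x (Golay.pt e.1)).toFinset) fun y hy => ?_)
    · rw [List.toFinset_card_of_nodup hnd, List.length_map]; exact hlen
    · obtain ⟨e, he, rfl⟩ := List.mem_map.1 (List.mem_toFinset.1 hy)
      exact hsub e he
  have heq := Golay.octad_eq_of_five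
    ((Golay.M24_smul_mem_octads hx).2 (M24Elt.toSet_mem_octads (by norm_num; exact hO24) hOo))
    (M24Elt.toSet_mem_octads (by norm_num; exact hP24) hPo) hcard
  refine ⟨Golay.bit (x (Golay.pt i)), Golay.bit_lt _, ?_, (Golay.pt_bit _).symm⟩
  rw [← Golay.mem_toSet, ← heq]
  exact Finset.smul_mem_smul_finset (Golay.mem_toSet.2 (by rw [Golay.bit_pt hi]; exact hO))

theorem valueAt_some {x : Equiv.Perm GolayPt} {part : List (ℕ × ℕ)} (h : Inv x part) {i j : ℕ}
    (hv : valueAt part i = some j) : j < 24 ∧ x (Golay.pt i) = Golay.pt j := by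
  simp only [valueAt, Option.map_eq_some_iff] at hv
  obtain ⟨e, he, rfl⟩ := hv
  have h1 := List.find?_some he
  obtain ⟨-, h2, h3⟩ := h.val e (List.mem_of_find?_eq_some he)
  rw [← Nat.eq_of_beq_eq_true h1]
  exact ⟨h2, h3⟩

theorem valueAt_none {part : List (ℕ × ℕ)} {i : ℕ} (hv : valueAt part i = none) : i ∉ part.map Prod.fst := by
  simp only [valueAt, Option.map_eq_none_iff, List.find?_eq_none] at hv
  intro hmem
  obtain ⟨e, he, rfl⟩ := List.mem_map.1 hmem
  exact hv e he (Nat.beq_refl _)

theorem run_sound {x : Equiv.Perm GolayPt} (hx : x ∈ M24) {T : ℕ} :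
    ∀ (steps : List (ℕ × ℕ × ℕ × ℕ × ℕ)) (part : List (ℕ × ℕ)), Inv x part → run T steps part = true →
      ∀ i < 24, x (Golay.pt i) = Golay.pt (Leech.Trans.img T i)
  | [], part, h, hr, i, hi => by
    simp only [run, List.all_eq_true, List.mem_range, beq_iff_eq] at hr
    exact (valueAt_some h (hr i hi)).2
  | (k, O, P, O2, P2) :: rest, part, h, hr, i, hi => by
    simp only [run, Bool.and_eq_true, Nat.blt_eq] at hr
    obtain ⟨⟨⟨⟨⟨hk, hO⟩, hO2⟩, hp1⟩, hp2⟩, hm⟩ := hr
    obtain ⟨j, hj, hjP, hxj⟩ := pair_sound hx h hp1 hk hO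
    obtain ⟨j', hj', hjP2, hxj'⟩ := pair_sound hx h hp2 hk hO2
    have hjj : j' = j := by
      have e := congrArg Golay.bit (hxj'.symm.trans hxj)
      rwa [Golay.bit_pt hj, Golay.bit_pt hj'] at e
    rw [hjj] at hjP2
    cases hv : valueAt part k with
    | some a =>
      simp only [hv, Bool.not_eq_true', Bool.and_eq_false_iff] at hm
      obtain ⟨ha, hxa⟩ := valueAt_some h hv
      have e : a = j := by
        have e := congrArg Golay.bit (hxa.symm.trans hxj)
        rwa [Golay.bit_pt ha, Golay.bit_pt hj] at e
      rw [e] at hm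
      rcases hm with e | e
      · rw [hjP] at e; exact absurd e (by decide)
      · rw [hjP2] at e; exact absurd e (by decide)
    | none =>
      simp only [hv] at hm
      have hnot : (part.any fun e => Nat.beq e.2 j) = false := by
        rw [List.any_eq_false]
        intro e he hej
        obtain ⟨h1, h2, h3⟩ := h.val e he
        have := congrArg Golay.bit (x.injective (h3.trans ((congrArg Golay.pt (Nat.eq_of_beq_eq_true hej)).trans hxj.symm)))
        rw [Golay.bit_pt h1, Golay.bit_pt hk] at this
        exact valueAt_none hv (List.mem_map.2 ⟨e, he, this⟩)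
      have hjmem : j ∈ (List.range 24).filter
          (fun j => P.testBit j && P2.testBit j && !(part.any fun e => Nat.beq e.2 j)) := by
        rw [List.mem_filter]
        exact ⟨List.mem_range.2 hj, by simp [hjP, hjP2, hnot]⟩
      revert hm hjmem
      generalize (List.range 24).filter
          (fun j => P.testBit j && P2.testBit j && !(part.any fun e => Nat.beq e.2 j)) = F
      intro hm hjmem
      match F with
      | [] => simp at hjmem
      | [a] =>
        rw [List.mem_singleton] at hjmem
        subst hjmem
        refine run_sound hx rest _ ⟨?_, ?_⟩ hm i hi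
        · intro e he
          rcases List.mem_cons.1 he with rfl | he
          · exact ⟨hk, hj, hxj⟩
          · exact h.val e he
        · rw [List.map_cons, List.nodup_cons]
          exact ⟨valueAt_none hv, h.nodup⟩
      | _ :: _ :: _ => simp at hm

end CfsgLib.MonsterType.Deduce
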