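import Cfsg.Agent.Lib.MonsterType.FiveData
import Cfsg.Agent.Lib.MonsterType.FiveCerts
import Cfsg.Agent.Lib.MonsterType.OctadDeduce

/-! The candidates for elements centralizing the permutation of order five. -/

set_option autoImplicit false

namespace CfsgLib.MonsterType.Five

open Cfsg CfsgLib

/-- The fixed points. -/
def fixPts : List ℕ := (List.range 24).filter fun i => Nat.beq (Leech.Trans.img FiveData.tcode i) i

/-- The moved points. -/
def movPts : List ℕ := (List.range 24).filter fun i => !Nat.beq (Leech.Trans.img FiveData.tcode i) i

/-- The possible images of the fixed points. -/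
def quads : List (List ℕ) :=
  (fixPts.flatMap fun a => fixPts.flatMap fun b => fixPts.flatMap fun c => fixPts.map fun e => [a, b, c, e]).filter
    fun q => decide q.Nodup

/-- The values forced by the images `q` of the fixed points and `b` of the base point. -/
def start (q : List ℕ) (b : ℕ) : List (ℕ × ℕ) :=
  (List.zip fixPts q) ++ (List.range 5).map fun j =>
    ((Leech.Trans.img FiveData.tcode)^[j] (movPts.getD 0 0), (Leech.Trans.img FiveData.tcode)^[j] b)

/-- The checks for one choice of the images of the fixed points. -/
def blockB (n : ℕ) : Bool :=
  (List.range 20).all fun m =>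
    Deduce.run (FiveData.cz.getD ((FiveData.certs.getD n []).getD m (60, [])).1 0)
      ((FiveData.certs.getD n []).getD m (60, [])).2 (start (quads.getD n []) (movPts.getD m 0))

end CfsgLib.MonsterType.Five
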