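import Cfsg.Agent.Lib.MonsterType.FiveBase
import Mathlib.Tactic.IntervalCases

/-! Kernel checks of the deductions. -/

set_option autoImplicit false

namespace CfsgLib.MonsterType.Five

open Cfsg CfsgLib

theorem block_0 : blockB 0 = true := by decide +kernel

theorem block_1 : blockB 1 = true := by decide +kernel

theorem block_2 : blockB 2 = true := by decide +kernel

theorem block_3 : blockB 3 = true := by decide +kernel

theorem block_4 : blockB 4 = true := by decide +kernel

theorem block_5 : blockB 5 = true := by decide +kernel

theorem block_6 : blockB 6 = true := by decide +kernel

theorem block_7 : blockB 7 = true := by decide +kernel

theorem block_8 : blockB 8 = true := by decide +kernel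

theorem block_9 : blockB 9 = true := by decide +kernel

theorem block_10 : blockB 10 = true := by decide +kernel

theorem block_11 : blockB 11 = true := by decide +kernel

theorem block_12 : blockB 12 = true := by decide +kernel

theorem block_13 : blockB 13 = true := by decide +kernel

theorem block_14 : blockB 14 = true := by decide +kernel

theorem block_15 : blockB 15 = true := by decide +kernel

theorem block_16 : blockB 16 = true := by decide +kernel

theorem block_17 : blockB 17 = true := by decide +kernel

theorem block_18 : blockB 18 = true := by decide +kernel

theorem block_19 : blockB 19 = true := by decide +kernel

theorem block_20 : blockB 20 = true := by decide +kernel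

theorem block_21 : blockB 21 = true := by decide +kernel

theorem block_22 : blockB 22 = true := by decide +kernel

theorem block_23 : blockB 23 = true := by decide +kernel

theorem shape_check : Nat.beq quads.length 24 = true ∧ Nat.beq movPts.length 20 = true ∧
    fixPts.length = 4 := by decide +kernel

theorem blocks_check : ∀ n < 24, blockB n = true := by
  intro n hn
  interval_cases n
  exacts [block_0, block_1, block_2, block_3, block_4, block_5, block_6, block_7, block_8, block_9, block_10, block_11, block_12, block_13, block_14, block_15, block_16, block_17, block_18, block_19, block_20, block_21, block_22, block_23]

end CfsgLib.MonsterType.Five
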