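/-! Tables for the fixed classes of an element of order five. -/

namespace CfsgLib.MonsterType.FiveData

/-- The permutation. -/
def tcode : Nat :=
  941529942367589022121024446233545325

/-- Shortest fixed vectors, part 0. -/
def reps0 : List (List Int) :=
  [[0, 0, 0, 0, 0, 0, 0, 0, 0, 0, 0, 0, 0, 0, 0, 0, 0, 0, 0, 0, 0, 0, 0, 0],
    [0, 0, -8, 0, 0, 0, 0, 0, 0, 0, 0, 0, 0, 0, 0, 0, 0, 0, 0, 0, 0, 0, 0, 0],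
    [0, 2, -6, 0, 0, 2, 0, 2, -2, 0, 0, 0, 2, 0, -2, 0, 0, 0, 0, 2, 0, 0, 0, 0],
    [0, -2, -2, 0, 0, -2, 0, -2, 2, 0, 0, 0, -2, 0, 2, 0, 0, 0, 0, -2, 0, 0, 0, 0],
    [0, 0, -6, 0, 2, 0, 2, 0, -2, 2, 0, 2, 0, 0, 0, 0, 0, -2, 2, 0, 0, 0, 0, 0],
    [0, 0, -2, 0, -2, 0, -2, 0, 2, -2, 0, -2, 0, 0, 0, 0, 0, 2, -2, 0, 0, 0, 0, 0],
    [0, 2, 0, 0, -2, 2, -2, 2, 0, -2, 0, -2, 2, 0, -2, 0, 0, 2, -2, 2, 0, 0, 0, 0],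
    [2, 0, -2, -2, 0, 0, 0, 0, 2, 0, -2, 0, 0, 2, 0, 2, 2, 0, 0, 0, 2, -2, -2, -2],
    [0, 0, -6, 0, -2, 0, -2, 0, -2, -2, 0, -2, 0, 0, 0, 0, 0, 2, -2, 0, 0, 0, 0, 0],
    [0, 0, -2, 0, 2, 0, 2, 0, 2, 2, 0, 2, 0, 0, 0, 0, 0, -2, 2, 0, 0, 0, 0, 0],
    [0, 2, 0, 0, 2, 2, 2, 2, 0, 2, 0, 2, 2, 0, -2, 0, 0, -2, 2, 2, 0, 0, 0, 0],
    [-2, 0, -2, 2, 0, 0, 0, 0, 2, 0, 2, 0, 0, -2, 0, -2, -2, 0, 0, 0, -2, 2, 2, 2],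
    [0, 0, -4, 0, 0, 0, 0, 0, 4, 0, 0, 0, 0, 0, 0, 0, 0, 0, 0, 0, 0, 0, 0, 0],
    [0, 0, -4, 0, 0, 0, 0, 0, -4, 0, 0, 0, 0, 0, 0, 0, 0, 0, 0, 0, 0, 0, 0, 0],
    [0, -2, -6, 0, 0, -2, 0, -2, -2, 0, 0, 0, -2, 0, 2, 0, 0, 0, 0, -2, 0, 0, 0, 0],
    [0, 2, -2, 0, 0, 2, 0, 2, 2, 0, 0, 0, 2, 0, -2, 0, 0, 0, 0, 2, 0, 0, 0, 0]]

/-- Shortest fixed vectors, part 1. -/
def reps1 : List (List Int) :=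
  [[2, 0, -6, 0, 0, 0, 0, 0, 0, 0, 0, 0, 0, 2, -2, 2, 2, -2, 0, 0, 2, 0, 0, 0],
    [-2, 0, -2, 0, 0, 0, 0, 0, 0, 0, 0, 0, 0, -2, 2, -2, -2, 2, 0, 0, -2, 0, 0, 0],
    [-2, 2, 0, 0, 0, 2, 0, 2, -2, 0, 0, 0, 2, -2, 0, -2, -2, 2, 0, 2, -2, 0, 0, 0],
    [0, 0, -2, -2, 2, 0, 2, 0, 0, 2, -2, 2, 0, 0, 2, 0, 0, 0, 2, 0, 0, -2, -2, -2],
    [-2, 0, 0, 0, 2, 0, 2, 0, -2, 2, 0, 2, 0, -2, 2, -2, -2, 0, 2, 0, -2, 0, 0, 0],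
    [0, 2, -2, -2, 0, 2, 0, 2, 0, 0, -2, 0, 2, 0, 0, 0, 0, 2, 0, 2, 0, -2, -2, -2],
    [0, 0, -4, -2, 0, 0, 0, 0, 2, 0, -2, 0, 0, 0, 2, 0, 0, 2, 0, 0, 0, -2, -2, -2],
    [0, 0, -4, 2, 0, 0, 0, 0, -2, 0, 2, 0, 0, 0, -2, 0, 0, -2, 0, 0, 0, 2, 2, 2],
    [-2, 0, -4, 0, 2, 0, 2, 0, 2, 2, 0, 2, 0, -2, 2, -2, -2, 0, 2, 0, -2, 0, 0, 0],
    [2, 0, -4, 0, -2, 0, -2, 0, -2, -2, 0, -2, 0, 2, -2, 2, 2, 0, -2, 0, 2, 0, 0, 0],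
    [0, 0, 0, -2, 0, 0, 0, 0, -2, 0, -2, 0, 0, 0, 2, 0, 0, 2, 0, 0, 0, -2, -2, -2],
    [-2, 2, -2, 0, 2, 2, 2, 2, 0, 2, 0, 2, 2, -2, 0, -2, -2, 0, 2, 2, -2, 0, 0, 0],
    [2, 0, -2, 0, 0, 0, 0, 0, -4, 0, 0, 0, 0, 2, -2, 2, 2, -2, 0, 0, 2, 0, 0, 0],
    [2, 0, -2, 0, 0, 0, 0, 0, 4, 0, 0, 0, 0, 2, -2, 2, 2, -2, 0, 0, 2, 0, 0, 0],
    [-2, 2, -4, 0, 0, 2, 0, 2, 2, 0, 0, 0, 2, -2, 0, -2, -2, 2, 0, 2, -2, 0, 0, 0],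
    [2, -2, -4, 0, 0, -2, 0, -2, -2, 0, 0, 0, -2, 2, 0, 2, 2, -2, 0, -2, 2, 0, 0, 0]]

/-- Shortest fixed vectors, part 2. -/
def reps2 : List (List Int) :=
  [[-2, 0, -6, 0, 0, 0, 0, 0, 0, 0, 0, 0, 0, -2, -2, -2, -2, 2, 0, 0, -2, 0, 0, 0],
    [2, 0, -2, 0, 0, 0, 0, 0, 0, 0, 0, 0, 0, 2, 2, 2, 2, -2, 0, 0, 2, 0, 0, 0],
    [2, 2, 0, 0, 0, 2, 0, 2, -2, 0, 0, 0, 2, 2, 0, 2, 2, -2, 0, 2, 2, 0, 0, 0],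
    [0, 0, -2, 2, -2, 0, -2, 0, 0, -2, 2, -2, 0, 0, 2, 0, 0, 0, -2, 0, 0, 2, 2, 2],
    [2, 0, -4, 0, -2, 0, -2, 0, 2, -2, 0, -2, 0, 2, 2, 2, 2, 0, -2, 0, 2, 0, 0, 0],
    [-2, 0, -4, 0, 2, 0, 2, 0, -2, 2, 0, 2, 0, -2, -2, -2, -2, 0, 2, 0, -2, 0, 0, 0],
    [0, 0, 0, 2, 0, 0, 0, 0, -2, 0, 2, 0, 0, 0, 2, 0, 0, -2, 0, 0, 0, 2, 2, 2],
    [2, 2, -2, 0, -2, 2, -2, 2, 0, -2, 0, -2, 2, 2, 0, 2, 2, 0, -2, 2, 2, 0, 0, 0],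
    [2, 0, 0, 0, -2, 0, -2, 0, -2, -2, 0, -2, 0, 2, 2, 2, 2, 0, -2, 0, 2, 0, 0, 0],
    [0, 2, -2, 2, 0, 2, 0, 2, 0, 0, 2, 0, 2, 0, 0, 0, 0, -2, 0, 2, 0, 2, 2, 2],
    [0, 0, -4, 2, 0, 0, 0, 0, 2, 0, 2, 0, 0, 0, 2, 0, 0, -2, 0, 0, 0, 2, 2, 2],
    [0, 0, -4, -2, 0, 0, 0, 0, -2, 0, -2, 0, 0, 0, -2, 0, 0, 2, 0, 0, 0, -2, -2, -2],
    [-2, 0, -2, 0, 0, 0, 0, 0, -4, 0, 0, 0, 0, -2, -2, -2, -2, 2, 0, 0, -2, 0, 0, 0],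
    [-2, 0, -2, 0, 0, 0, 0, 0, 4, 0, 0, 0, 0, -2, -2, -2, -2, 2, 0, 0, -2, 0, 0, 0],
    [2, 2, -4, 0, 0, 2, 0, 2, 2, 0, 0, 0, 2, 2, 0, 2, 2, -2, 0, 2, 2, 0, 0, 0],
    [-2, -2, -4, 0, 0, -2, 0, -2, -2, 0, 0, 0, -2, -2, 0, -2, -2, 2, 0, -2, -2, 0, 0, 0]]

/-- Shortest fixed vectors, part 3. -/
def reps3 : List (List Int) :=
  [[0, 0, -4, 0, 0, 0, 0, 0, 0, 0, 0, 0, 0, 0, 4, 0, 0, 0, 0, 0, 0, 0, 0, 0],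
    [0, 0, -4, 0, 0, 0, 0, 0, 0, 0, 0, 0, 0, 0, -4, 0, 0, 0, 0, 0, 0, 0, 0, 0],
    [0, -2, -6, 0, 0, -2, 0, -2, 2, 0, 0, 0, -2, 0, -2, 0, 0, 0, 0, -2, 0, 0, 0, 0],
    [0, 2, -2, 0, 0, 2, 0, 2, -2, 0, 0, 0, 2, 0, 2, 0, 0, 0, 0, 2, 0, 0, 0, 0],
    [0, 0, -2, 0, 2, 0, 2, 0, -2, 2, 0, 2, 0, 0, -4, 0, 0, -2, 2, 0, 0, 0, 0, 0],
    [0, 0, -2, 0, 2, 0, 2, 0, -2, 2, 0, 2, 0, 0, 4, 0, 0, -2, 2, 0, 0, 0, 0, 0],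
    [0, 2, -4, 0, -2, 2, -2, 2, 0, -2, 0, -2, 2, 0, 2, 0, 0, 2, -2, 2, 0, 0, 0, 0],
    [0, -2, -4, 0, 2, -2, 2, -2, 0, 2, 0, 2, -2, 0, -2, 0, 0, -2, 2, -2, 0, 0, 0, 0],
    [0, 0, -2, 0, -2, 0, -2, 0, -2, -2, 0, -2, 0, 0, -4, 0, 0, 2, -2, 0, 0, 0, 0, 0],
    [0, 0, -2, 0, -2, 0, -2, 0, -2, -2, 0, -2, 0, 0, 4, 0, 0, 2, -2, 0, 0, 0, 0, 0],
    [0, 2, -4, 0, 2, 2, 2, 2, 0, 2, 0, 2, 2, 0, 2, 0, 0, -2, 2, 2, 0, 0, 0, 0],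
    [0, -2, -4, 0, -2, -2, -2, -2, 0, -2, 0, -2, -2, 0, -2, 0, 0, 2, -2, -2, 0, 0, 0, 0],
    [0, 0, 0, 0, 0, 0, 0, 0, -4, 0, 0, 0, 0, 0, 4, 0, 0, 0, 0, 0, 0, 0, 0, 0],
    [0, 0, 0, 0, 0, 0, 0, 0, -4, 0, 0, 0, 0, 0, -4, 0, 0, 0, 0, 0, 0, 0, 0, 0],
    [0, -2, -2, 0, 0, -2, 0, -2, -2, 0, 0, 0, -2, 0, -2, 0, 0, 0, 0, -2, 0, 0, 0, 0],
    [0, 2, -6, 0, 0, 2, 0, 2, 2, 0, 0, 0, 2, 0, 2, 0, 0, 0, 0, 2, 0, 0, 0, 0]]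

/-- Shortest fixed vectors, part 4. -/
def reps4 : List (List Int) :=
  [[-2, 0, -6, 0, 0, 0, 0, 0, 0, 0, 0, 0, 0, -2, 2, -2, -2, -2, 0, 0, -2, 0, 0, 0],
    [2, 0, -2, 0, 0, 0, 0, 0, 0, 0, 0, 0, 0, 2, -2, 2, 2, 2, 0, 0, 2, 0, 0, 0],
    [2, -2, -4, 0, 0, -2, 0, -2, 2, 0, 0, 0, -2, 2, 0, 2, 2, 2, 0, -2, 2, 0, 0, 0],
    [-2, 2, -4, 0, 0, 2, 0, 2, -2, 0, 0, 0, 2, -2, 0, -2, -2, -2, 0, 2, -2, 0, 0, 0],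
    [2, 0, 0, 0, 2, 0, 2, 0, -2, 2, 0, 2, 0, 2, -2, 2, 2, 0, 2, 0, 2, 0, 0, 0],
    [0, -2, -2, 2, 0, -2, 0, -2, 0, 0, 2, 0, -2, 0, 0, 0, 0, 2, 0, -2, 0, 2, 2, 2],
    [0, 0, 0, 2, 0, 0, 0, 0, -2, 0, 2, 0, 0, 0, -2, 0, 0, 2, 0, 0, 0, 2, 2, 2],
    [2, -2, -2, 0, 2, -2, 2, -2, 0, 2, 0, 2, -2, 2, 0, 2, 2, 0, 2, -2, 2, 0, 0, 0],
    [2, 0, -4, 0, 2, 0, 2, 0, 2, 2, 0, 2, 0, 2, -2, 2, 2, 0, 2, 0, 2, 0, 0, 0],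
    [-2, 0, -4, 0, -2, 0, -2, 0, -2, -2, 0, -2, 0, -2, 2, -2, -2, 0, -2, 0, -2, 0, 0, 0],
    [0, 0, -4, 2, 0, 0, 0, 0, 2, 0, 2, 0, 0, 0, -2, 0, 0, 2, 0, 0, 0, 2, 2, 2],
    [0, 0, -4, -2, 0, 0, 0, 0, -2, 0, -2, 0, 0, 0, 2, 0, 0, -2, 0, 0, 0, -2, -2, -2],
    [-2, 0, -2, 0, 0, 0, 0, 0, -4, 0, 0, 0, 0, -2, 2, -2, -2, -2, 0, 0, -2, 0, 0, 0],
    [-2, 0, -2, 0, 0, 0, 0, 0, 4, 0, 0, 0, 0, -2, 2, -2, -2, -2, 0, 0, -2, 0, 0, 0],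
    [2, -2, 0, 0, 0, -2, 0, -2, -2, 0, 0, 0, -2, 2, 0, 2, 2, 2, 0, -2, 2, 0, 0, 0],
    [0, 0, -2, 2, 2, 0, 2, 0, 0, 2, 2, 2, 0, 0, -2, 0, 0, 0, 2, 0, 0, 2, 2, 2]]

/-- Shortest fixed vectors, part 5. -/
def reps5 : List (List Int) :=
  [[0, 0, -4, 0, 0, 0, 0, 0, 0, 0, 0, 0, 0, 0, 0, 0, 0, 4, 0, 0, 0, 0, 0, 0],
    [0, 0, -4, 0, 0, 0, 0, 0, 0, 0, 0, 0, 0, 0, 0, 0, 0, -4, 0, 0, 0, 0, 0, 0],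
    [0, 2, -2, 0, 0, 2, 0, 2, -2, 0, 0, 0, 2, 0, -2, 0, 0, -4, 0, 2, 0, 0, 0, 0],
    [0, 2, -2, 0, 0, 2, 0, 2, -2, 0, 0, 0, 2, 0, -2, 0, 0, 4, 0, 2, 0, 0, 0, 0],
    [0, 0, -6, 0, -2, 0, -2, 0, 2, -2, 0, -2, 0, 0, 0, 0, 0, -2, -2, 0, 0, 0, 0, 0],
    [0, 0, -2, 0, 2, 0, 2, 0, -2, 2, 0, 2, 0, 0, 0, 0, 0, 2, 2, 0, 0, 0, 0, 0],
    [0, -2, -4, 0, 2, -2, 2, -2, 0, 2, 0, 2, -2, 0, 2, 0, 0, 2, 2, -2, 0, 0, 0, 0],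
    [0, 2, -4, 0, -2, 2, -2, 2, 0, -2, 0, -2, 2, 0, -2, 0, 0, -2, -2, 2, 0, 0, 0, 0],
    [0, 0, -2, 0, -2, 0, -2, 0, -2, -2, 0, -2, 0, 0, 0, 0, 0, -2, -2, 0, 0, 0, 0, 0],
    [0, 0, -6, 0, 2, 0, 2, 0, 2, 2, 0, 2, 0, 0, 0, 0, 0, 2, 2, 0, 0, 0, 0, 0],
    [0, 2, -4, 0, 2, 2, 2, 2, 0, 2, 0, 2, 2, 0, -2, 0, 0, 2, 2, 2, 0, 0, 0, 0],
    [0, -2, -4, 0, -2, -2, -2, -2, 0, -2, 0, -2, -2, 0, 2, 0, 0, -2, -2, -2, 0, 0, 0, 0],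
    [0, 0, 0, 0, 0, 0, 0, 0, -4, 0, 0, 0, 0, 0, 0, 0, 0, 4, 0, 0, 0, 0, 0, 0],
    [0, 0, 0, 0, 0, 0, 0, 0, -4, 0, 0, 0, 0, 0, 0, 0, 0, -4, 0, 0, 0, 0, 0, 0],
    [0, -2, -2, 0, 0, -2, 0, -2, -2, 0, 0, 0, -2, 0, 2, 0, 0, -4, 0, -2, 0, 0, 0, 0],
    [0, -2, -2, 0, 0, -2, 0, -2, -2, 0, 0, 0, -2, 0, 2, 0, 0, 4, 0, -2, 0, 0, 0, 0]]

/-- Shortest fixed vectors, part 6. -/
def reps6 : List (List Int) :=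
  [[0, 0, 0, 0, 0, 0, 0, 0, 0, 0, 0, 0, 0, 0, -4, 0, 0, 4, 0, 0, 0, 0, 0, 0],
    [0, 0, 0, 0, 0, 0, 0, 0, 0, 0, 0, 0, 0, 0, -4, 0, 0, -4, 0, 0, 0, 0, 0, 0],
    [0, -2, -2, 0, 0, -2, 0, -2, 2, 0, 0, 0, -2, 0, -2, 0, 0, -4, 0, -2, 0, 0, 0, 0],
    [0, -2, -2, 0, 0, -2, 0, -2, 2, 0, 0, 0, -2, 0, -2, 0, 0, 4, 0, -2, 0, 0, 0, 0],
    [0, 0, -2, 0, -2, 0, -2, 0, 2, -2, 0, -2, 0, 0, -4, 0, 0, -2, -2, 0, 0, 0, 0, 0],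
    [0, 0, -2, 0, -2, 0, -2, 0, 2, -2, 0, -2, 0, 0, 4, 0, 0, -2, -2, 0, 0, 0, 0, 0],
    [0, -2, 0, 0, 2, -2, 2, -2, 0, 2, 0, 2, -2, 0, -2, 0, 0, 2, 2, -2, 0, 0, 0, 0],
    [2, 0, -2, 2, 0, 0, 0, 0, -2, 0, 2, 0, 0, 2, 0, 2, 2, 0, 0, 0, 2, 2, 2, 2],
    [0, 0, -2, 0, 2, 0, 2, 0, 2, 2, 0, 2, 0, 0, 4, 0, 0, 2, 2, 0, 0, 0, 0, 0],
    [0, 0, -2, 0, 2, 0, 2, 0, 2, 2, 0, 2, 0, 0, -4, 0, 0, 2, 2, 0, 0, 0, 0, 0],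
    [-2, 0, -2, -2, 0, 0, 0, 0, -2, 0, -2, 0, 0, -2, 0, -2, -2, 0, 0, 0, -2, -2, -2, -2],
    [0, -2, 0, 0, -2, -2, -2, -2, 0, -2, 0, -2, -2, 0, -2, 0, 0, -2, -2, -2, 0, 0, 0, 0],
    [0, 0, -4, 0, 0, 0, 0, 0, -4, 0, 0, 0, 0, 0, -4, 0, 0, -4, 0, 0, 0, 0, 0, 0],
    [0, 0, -4, 0, 0, 0, 0, 0, -4, 0, 0, 0, 0, 0, -4, 0, 0, 4, 0, 0, 0, 0, 0, 0],
    [0, 2, -2, 0, 0, 2, 0, 2, 2, 0, 0, 0, 2, 0, 2, 0, 0, 4, 0, 2, 0, 0, 0, 0],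
    [0, 2, -2, 0, 0, 2, 0, 2, 2, 0, 0, 0, 2, 0, 2, 0, 0, -4, 0, 2, 0, 0, 0, 0]]

/-- Shortest fixed vectors, part 7. -/
def reps7 : List (List Int) :=
  [[-2, 0, -2, 0, 0, 0, 0, 0, 0, 0, 0, 0, 0, -2, -2, -2, -2, -2, 0, 0, -2, 0, 0, 0],
    [2, 0, -6, 0, 0, 0, 0, 0, 0, 0, 0, 0, 0, 2, 2, 2, 2, 2, 0, 0, 2, 0, 0, 0],
    [2, 2, -4, 0, 0, 2, 0, 2, -2, 0, 0, 0, 2, 2, 0, 2, 2, 2, 0, 2, 2, 0, 0, 0],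
    [-2, -2, -4, 0, 0, -2, 0, -2, 2, 0, 0, 0, -2, -2, 0, -2, -2, -2, 0, -2, -2, 0, 0, 0],
    [2, 0, -4, 0, 2, 0, 2, 0, -2, 2, 0, 2, 0, 2, 2, 2, 2, 0, 2, 0, 2, 0, 0, 0],
    [-2, 0, -4, 0, -2, 0, -2, 0, 2, -2, 0, -2, 0, -2, -2, -2, -2, 0, -2, 0, -2, 0, 0, 0],
    [0, 0, -4, 2, 0, 0, 0, 0, -2, 0, 2, 0, 0, 0, 2, 0, 0, 2, 0, 0, 0, 2, 2, 2],
    [0, 0, -4, -2, 0, 0, 0, 0, 2, 0, -2, 0, 0, 0, -2, 0, 0, -2, 0, 0, 0, -2, -2, -2],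
    [0, -2, -2, -2, 0, -2, 0, -2, 0, 0, -2, 0, -2, 0, 0, 0, 0, -2, 0, -2, 0, -2, -2, -2],
    [-2, 0, 0, 0, -2, 0, -2, 0, -2, -2, 0, -2, 0, -2, -2, -2, -2, 0, -2, 0, -2, 0, 0, 0],
    [-2, -2, -2, 0, -2, -2, -2, -2, 0, -2, 0, -2, -2, -2, 0, -2, -2, 0, -2, -2, -2, 0, 0, 0],
    [0, 0, 0, -2, 0, 0, 0, 0, -2, 0, -2, 0, 0, 0, -2, 0, 0, -2, 0, 0, 0, -2, -2, -2],
    [2, 0, -2, 0, 0, 0, 0, 0, 4, 0, 0, 0, 0, 2, 2, 2, 2, 2, 0, 0, 2, 0, 0, 0],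
    [2, 0, -2, 0, 0, 0, 0, 0, -4, 0, 0, 0, 0, 2, 2, 2, 2, 2, 0, 0, 2, 0, 0, 0],
    [0, 0, -2, -2, -2, 0, -2, 0, 0, -2, -2, -2, 0, 0, -2, 0, 0, 0, -2, 0, 0, -2, -2, -2],
    [-2, -2, 0, 0, 0, -2, 0, -2, -2, 0, 0, 0, -2, -2, 0, -2, -2, -2, 0, -2, -2, 0, 0, 0]]

/-- Shortest fixed vectors, part 8. -/
def reps8 : List (List Int) :=
  [[1, -1, -5, -1, 1, -1, 1, -1, -3, 1, -1, 1, -1, 1, -3, 1, 1, -1, 1, -1, 1, -1, -1, -1],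
    [-1, 1, -3, 1, -1, 1, -1, 1, 3, -1, 1, -1, 1, -1, 3, -1, -1, 1, -1, 1, -1, 1, 1, 1],
    [-1, -1, -5, 1, -1, -1, -1, -1, -3, -1, 1, -1, -1, -1, -3, -1, -1, 1, -1, -1, -1, 1, 1, 1],
    [1, 1, -3, -1, 1, 1, 1, 1, 3, 1, -1, 1, 1, 1, 3, 1, 1, -1, 1, 1, 1, -1, -1, -1],
    [-1, 1, -1, 1, 1, 1, 1, 1, 1, 1, 1, 1, 1, -1, 3, -1, -1, -1, 1, 1, -1, 1, 1, 1],
    [-1, 1, -1, 1, 1, 1, 1, 1, 1, 1, 1, 1, 1, -1, -5, -1, -1, -1, 1, 1, -1, 1, 1, 1],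
    [-1, -1, -3, 1, 1, -1, 1, -1, 3, 1, 1, 1, -1, -1, -3, -1, -1, -1, 1, -1, -1, 1, 1, 1],
    [1, 1, -5, -1, -1, 1, -1, 1, -3, -1, -1, -1, 1, 1, 3, 1, 1, 1, -1, 1, 1, -1, -1, -1],
    [1, -1, -3, -1, -1, -1, -1, -1, 3, -1, -1, -1, -1, 1, -3, 1, 1, 1, -1, -1, 1, -1, -1, -1],
    [-1, 1, -5, 1, 1, 1, 1, 1, -3, 1, 1, 1, 1, -1, 3, -1, -1, -1, 1, 1, -1, 1, 1, 1],
    [1, 1, -1, -1, -1, 1, -1, 1, 1, -1, -1, -1, 1, 1, 3, 1, 1, 1, -1, 1, 1, -1, -1, -1],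
    [1, 1, -1, -1, -1, 1, -1, 1, 1, -1, -1, -1, 1, 1, -5, 1, 1, 1, -1, 1, 1, -1, -1, -1],
    [1, -1, -1, -1, 1, -1, 1, -1, 1, 1, -1, 1, -1, 1, 5, 1, 1, -1, 1, -1, 1, -1, -1, -1],
    [1, -1, -1, -1, 1, -1, 1, -1, 1, 1, -1, 1, -1, 1, -3, 1, 1, -1, 1, -1, 1, -1, -1, -1],
    [-1, -1, -1, 1, -1, -1, -1, -1, 1, -1, 1, -1, -1, -1, 5, -1, -1, 1, -1, -1, -1, 1, 1, 1],
    [-1, -1, -1, 1, -1, -1, -1, -1, 1, -1, 1, -1, -1, -1, -3, -1, -1, 1, -1, -1, -1, 1, 1, 1]]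

/-- Shortest fixed vectors, part 9. -/
def reps9 : List (List Int) :=
  [[1, 1, -1, 1, -1, 1, -1, 1, 3, -1, 1, -1, 1, 1, 1, 1, 1, -1, -1, 1, 1, 1, 1, 1],
    [1, 1, -1, 1, -1, 1, -1, 1, -5, -1, 1, -1, 1, 1, 1, 1, 1, -1, -1, 1, 1, 1, 1, 1],
    [1, -1, -3, 1, -1, -1, -1, -1, -3, -1, 1, -1, -1, 1, 3, 1, 1, -1, -1, -1, 1, 1, 1, 1],
    [-1, 1, -5, -1, 1, 1, 1, 1, 3, 1, -1, 1, 1, -1, -3, -1, -1, 1, 1, 1, -1, -1, -1, -1],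
    [-1, -1, -1, -1, -1, -1, -1, -1, -1, -1, -1, -1, -1, -1, -1, -1, -1, -5, -1, -1, -1, -1, -1, -1],
    [-1, -1, -1, -1, -1, -1, -1, -1, -1, -1, -1, -1, -1, -1, -1, -1, -1, 3, -1, -1, -1, -1, -1, -1],
    [1, -1, -1, 1, 1, -1, 1, -1, 3, 1, 1, 1, -1, 1, 3, 1, 1, -3, 1, -1, 1, 1, 1, 1],
    [1, -1, -1, 1, 1, -1, 1, -1, -5, 1, 1, 1, -1, 1, 3, 1, 1, -3, 1, -1, 1, 1, 1, 1],
    [1, 1, -3, 1, 1, 1, 1, 1, -3, 1, 1, 1, 1, 1, 1, 1, 1, -3, 1, 1, 1, 1, 1, 1],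
    [-1, -1, -5, -1, -1, -1, -1, -1, 3, -1, -1, -1, -1, -1, -1, -1, -1, 3, -1, -1, -1, -1, -1, -1],
    [-1, 1, -3, -1, -1, 1, -1, 1, 1, -1, -1, -1, 1, -1, -3, -1, -1, 3, -1, 1, -1, -1, -1, -1],
    [1, -1, -5, 1, 1, -1, 1, -1, -1, 1, 1, 1, -1, 1, 3, 1, 1, -3, 1, -1, 1, 1, 1, 1],
    [-1, -1, -3, -1, 1, -1, 1, -1, 1, 1, -1, 1, -1, -1, -1, -1, -1, 1, 1, -1, -1, -1, -1, -1],
    [1, 1, -5, 1, -1, 1, -1, 1, -1, -1, 1, -1, 1, 1, 1, 1, 1, -1, -1, 1, 1, 1, 1, 1],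
    [-1, 1, -1, -1, 1, 1, 1, 1, -1, 1, -1, 1, 1, -1, 5, -1, -1, 1, 1, 1, -1, -1, -1, -1],
    [-1, 1, -1, -1, 1, 1, 1, 1, -1, 1, -1, 1, 1, -1, -3, -1, -1, 1, 1, 1, -1, -1, -1, -1]]

/-- Shortest fixed vectors, part 10. -/
def reps10 : List (List Int) :=
  [[-1, -1, -3, -1, 1, -1, 1, -1, -3, 1, -1, 1, -1, -1, 3, -1, -1, 1, 1, -1, -1, -1, -1, -1],
    [1, 1, -5, 1, -1, 1, -1, 1, 3, -1, 1, -1, 1, 1, -3, 1, 1, -1, -1, 1, 1, 1, 1, 1],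
    [-1, 1, -1, -1, 1, 1, 1, 1, 3, 1, -1, 1, 1, -1, 1, -1, -1, 1, 1, 1, -1, -1, -1, -1],
    [-1, 1, -1, -1, 1, 1, 1, 1, -5, 1, -1, 1, 1, -1, 1, -1, -1, 1, 1, 1, -1, -1, -1, -1],
    [1, 1, -3, 1, 1, 1, 1, 1, 1, 1, 1, 1, 1, 1, -3, 1, 1, -3, 1, 1, 1, 1, 1, 1],
    [-1, -1, -5, -1, -1, -1, -1, -1, -1, -1, -1, -1, -1, -1, 3, -1, -1, 3, -1, -1, -1, -1, -1, -1],
    [-1, 1, -3, -1, -1, 1, -1, 1, -3, -1, -1, -1, 1, -1, 1, -1, -1, 3, -1, 1, -1, -1, -1, -1],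
    [1, -1, -5, 1, 1, -1, 1, -1, 3, 1, 1, 1, -1, 1, -1, 1, 1, -3, 1, -1, 1, 1, 1, 1],
    [-1, -1, -1, -1, -1, -1, -1, -1, 3, -1, -1, -1, -1, -1, 3, -1, -1, 3, -1, -1, -1, -1, -1, -1],
    [-1, -1, -1, -1, -1, -1, -1, -1, -5, -1, -1, -1, -1, -1, 3, -1, -1, 3, -1, -1, -1, -1, -1, -1],
    [1, -1, -1, 1, 1, -1, 1, -1, -1, 1, 1, 1, -1, 1, -1, 1, 1, 5, 1, -1, 1, 1, 1, 1],
    [1, -1, -1, 1, 1, -1, 1, -1, -1, 1, 1, 1, -1, 1, -1, 1, 1, -3, 1, -1, 1, 1, 1, 1],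
    [1, 1, -1, 1, -1, 1, -1, 1, -1, -1, 1, -1, 1, 1, 5, 1, 1, -1, -1, 1, 1, 1, 1, 1],
    [1, 1, -1, 1, -1, 1, -1, 1, -1, -1, 1, -1, 1, 1, -3, 1, 1, -1, -1, 1, 1, 1, 1, 1],
    [1, -1, -3, 1, -1, -1, -1, -1, 1, -1, 1, -1, -1, 1, -1, 1, 1, -1, -1, -1, 1, 1, 1, 1],
    [-1, 1, -5, -1, 1, 1, 1, 1, -1, 1, -1, 1, 1, -1, 1, -1, -1, 1, 1, 1, -1, -1, -1, -1]]

/-- Shortest fixed vectors, part 11. -/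
def reps11 : List (List Int) :=
  [[1, -1, -1, -1, 1, -1, 1, -1, 5, 1, -1, 1, -1, 1, 1, 1, 1, -1, 1, -1, 1, -1, -1, -1],
    [1, -1, -1, -1, 1, -1, 1, -1, -3, 1, -1, 1, -1, 1, 1, 1, 1, -1, 1, -1, 1, -1, -1, -1],
    [-1, -1, -1, 1, -1, -1, -1, -1, 5, -1, 1, -1, -1, -1, 1, -1, -1, 1, -1, -1, -1, 1, 1, 1],
    [-1, -1, -1, 1, -1, -1, -1, -1, -3, -1, 1, -1, -1, -1, 1, -1, -1, 1, -1, -1, -1, 1, 1, 1],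
    [1, -1, -3, -1, -1, -1, -1, -1, -1, -1, -1, -1, -1, 1, 1, 1, 1, 1, -1, -1, 1, -1, -1, -1],
    [-1, 1, -5, 1, 1, 1, 1, 1, 1, 1, 1, 1, 1, -1, -1, -1, -1, -1, 1, 1, -1, 1, 1, 1],
    [1, 1, -1, -1, -1, 1, -1, 1, 5, -1, -1, -1, 1, 1, -1, 1, 1, 1, -1, 1, 1, -1, -1, -1],
    [1, 1, -1, -1, -1, 1, -1, 1, -3, -1, -1, -1, 1, 1, -1, 1, 1, 1, -1, 1, 1, -1, -1, -1],
    [-1, 1, -1, 1, 1, 1, 1, 1, 5, 1, 1, 1, 1, -1, -1, -1, -1, -1, 1, 1, -1, 1, 1, 1],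
    [-1, 1, -1, 1, 1, 1, 1, 1, -3, 1, 1, 1, 1, -1, -1, -1, -1, -1, 1, 1, -1, 1, 1, 1],
    [-1, -1, -3, 1, 1, -1, 1, -1, -1, 1, 1, 1, -1, -1, 1, -1, -1, -1, 1, -1, -1, 1, 1, 1],
    [1, 1, -5, -1, -1, 1, -1, 1, 1, -1, -1, -1, 1, 1, -1, 1, 1, 1, -1, 1, 1, -1, -1, -1],
    [-1, 1, -3, 1, -1, 1, -1, 1, -1, -1, 1, -1, 1, -1, -1, -1, -1, 1, -1, 1, -1, 1, 1, 1],
    [1, -1, -5, -1, 1, -1, 1, -1, 1, 1, -1, 1, -1, 1, 1, 1, 1, -1, 1, -1, 1, -1, -1, -1],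
    [1, 1, -3, -1, 1, 1, 1, 1, -1, 1, -1, 1, 1, 1, -1, 1, 1, -1, 1, 1, 1, -1, -1, -1],
    [-1, -1, -5, 1, -1, -1, -1, -1, 1, -1, 1, -1, -1, -1, 1, -1, -1, 1, -1, -1, -1, 1, 1, 1]]

/-- Shortest fixed vectors, part 12. -/
def reps12 : List (List Int) :=
  [[1, 1, -5, 1, -1, 1, -1, 1, 3, -1, 1, -1, 1, 1, 1, 1, 1, 3, -1, 1, 1, 1, 1, 1],
    [-1, -1, -3, -1, 1, -1, 1, -1, -3, 1, -1, 1, -1, -1, -1, -1, -1, -3, 1, -1, -1, -1, -1, -1],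
    [-1, 1, -1, -1, 1, 1, 1, 1, -5, 1, -1, 1, 1, -1, -3, -1, -1, -3, 1, 1, -1, -1, -1, -1],
    [-1, 1, -1, -1, 1, 1, 1, 1, 3, 1, -1, 1, 1, -1, -3, -1, -1, -3, 1, 1, -1, -1, -1, -1],
    [-1, -1, -5, -1, -1, -1, -1, -1, -1, -1, -1, -1, -1, -1, -1, -1, -1, -1, -1, -1, -1, -1, -1, -1],
    [1, 1, -3, 1, 1, 1, 1, 1, 1, 1, 1, 1, 1, 1, 1, 1, 1, 1, 1, 1, 1, 1, 1, 1],
    [1, -1, -5, 1, 1, -1, 1, -1, 3, 1, 1, 1, -1, 1, 3, 1, 1, 1, 1, -1, 1, 1, 1, 1],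
    [-1, 1, -3, -1, -1, 1, -1, 1, -3, -1, -1, -1, 1, -1, -3, -1, -1, -1, -1, 1, -1, -1, -1, -1],
    [-1, -1, -1, -1, -1, -1, -1, -1, -5, -1, -1, -1, -1, -1, -1, -1, -1, -1, -1, -1, -1, -1, -1, -1],
    [-1, -1, -1, -1, -1, -1, -1, -1, 3, -1, -1, -1, -1, -1, -1, -1, -1, -1, -1, -1, -1, -1, -1, -1],
    [1, -1, -1, 1, 1, -1, 1, -1, -1, 1, 1, 1, -1, 1, 3, 1, 1, 1, 1, -1, 1, 1, 1, 1],
    [1, -1, -1, 1, 1, -1, 1, -1, -1, 1, 1, 1, -1, 1, -5, 1, 1, 1, 1, -1, 1, 1, 1, 1],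
    [1, 1, -1, 1, -1, 1, -1, 1, -1, -1, 1, -1, 1, 1, 1, 1, 1, 3, -1, 1, 1, 1, 1, 1],
    [1, 1, -1, 1, -1, 1, -1, 1, -1, -1, 1, -1, 1, 1, 1, 1, 1, -5, -1, 1, 1, 1, 1, 1],
    [-1, 1, -5, -1, 1, 1, 1, 1, -1, 1, -1, 1, 1, -1, -3, -1, -1, -3, 1, 1, -1, -1, -1, -1],
    [1, -1, -3, 1, -1, -1, -1, -1, 1, -1, 1, -1, -1, 1, 3, 1, 1, 3, -1, -1, 1, 1, 1, 1]]

/-- Shortest fixed vectors, part 13. -/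
def reps13 : List (List Int) :=
  [[1, -1, -1, -1, 1, -1, 1, -1, -3, 1, -1, 1, -1, 1, -3, 1, 1, -5, 1, -1, 1, -1, -1, -1],
    [1, -1, -1, -1, 1, -1, 1, -1, -3, 1, -1, 1, -1, 1, -3, 1, 1, 3, 1, -1, 1, -1, -1, -1],
    [-1, -1, -1, 1, -1, -1, -1, -1, -3, -1, 1, -1, -1, -1, -3, -1, -1, -3, -1, -1, -1, 1, 1, 1],
    [-1, -1, -1, 1, -1, -1, -1, -1, -3, -1, 1, -1, -1, -1, -3, -1, -1, 5, -1, -1, -1, 1, 1, 1],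
    [-1, 1, -5, 1, 1, 1, 1, 1, 1, 1, 1, 1, 1, -1, 3, -1, -1, 3, 1, 1, -1, 1, 1, 1],
    [1, -1, -3, -1, -1, -1, -1, -1, -1, -1, -1, -1, -1, 1, -3, 1, 1, -3, -1, -1, 1, -1, -1, -1],
    [1, 1, -1, -1, -1, 1, -1, 1, -3, -1, -1, -1, 1, 1, -5, 1, 1, -3, -1, 1, 1, -1, -1, -1],
    [1, 1, -1, -1, -1, 1, -1, 1, -3, -1, -1, -1, 1, 1, 3, 1, 1, -3, -1, 1, 1, -1, -1, -1],
    [-1, 1, -1, 1, 1, 1, 1, 1, -3, 1, 1, 1, 1, -1, 3, -1, -1, 3, 1, 1, -1, 1, 1, 1],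
    [-1, 1, -1, 1, 1, 1, 1, 1, -3, 1, 1, 1, 1, -1, -5, -1, -1, 3, 1, 1, -1, 1, 1, 1],
    [-1, -1, -3, 1, 1, -1, 1, -1, -1, 1, 1, 1, -1, -1, -3, -1, -1, 3, 1, -1, -1, 1, 1, 1],
    [1, 1, -5, -1, -1, 1, -1, 1, 1, -1, -1, -1, 1, 1, 3, 1, 1, -3, -1, 1, 1, -1, -1, -1],
    [-1, 1, -3, 1, -1, 1, -1, 1, -1, -1, 1, -1, 1, -1, 3, -1, -1, -3, -1, 1, -1, 1, 1, 1],
    [1, -1, -5, -1, 1, -1, 1, -1, 1, 1, -1, 1, -1, 1, -3, 1, 1, 3, 1, -1, 1, -1, -1, -1],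
    [-1, -1, -5, 1, -1, -1, -1, -1, 1, -1, 1, -1, -1, -1, -3, -1, -1, -3, -1, -1, -1, 1, 1, 1],
    [1, 1, -3, -1, 1, 1, 1, 1, -1, 1, -1, 1, 1, 1, 3, 1, 1, 3, 1, 1, 1, -1, -1, -1]]

/-- Shortest fixed vectors, part 14. -/
def reps14 : List (List Int) :=
  [[-1, 1, -3, 1, -1, 1, -1, 1, 3, -1, 1, -1, 1, -1, -1, -1, -1, -3, -1, 1, -1, 1, 1, 1],
    [1, -1, -5, -1, 1, -1, 1, -1, -3, 1, -1, 1, -1, 1, 1, 1, 1, 3, 1, -1, 1, -1, -1, -1],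
    [-1, -1, -5, 1, -1, -1, -1, -1, -3, -1, 1, -1, -1, -1, 1, -1, -1, -3, -1, -1, -1, 1, 1, 1],
    [1, 1, -3, -1, 1, 1, 1, 1, 3, 1, -1, 1, 1, 1, -1, 1, 1, 3, 1, 1, 1, -1, -1, -1],
    [-1, 1, -1, 1, 1, 1, 1, 1, 1, 1, 1, 1, 1, -1, -1, -1, -1, 3, 1, 1, -1, 1, 1, 1],
    [-1, 1, -1, 1, 1, 1, 1, 1, 1, 1, 1, 1, 1, -1, -1, -1, -1, -5, 1, 1, -1, 1, 1, 1],
    [1, 1, -5, -1, -1, 1, -1, 1, -3, -1, -1, -1, 1, 1, -1, 1, 1, -3, -1, 1, 1, -1, -1, -1],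
    [-1, -1, -3, 1, 1, -1, 1, -1, 3, 1, 1, 1, -1, -1, 1, -1, -1, 3, 1, -1, -1, 1, 1, 1],
    [1, -1, -3, -1, -1, -1, -1, -1, 3, -1, -1, -1, -1, 1, 1, 1, 1, -3, -1, -1, 1, -1, -1, -1],
    [-1, 1, -5, 1, 1, 1, 1, 1, -3, 1, 1, 1, 1, -1, -1, -1, -1, 3, 1, 1, -1, 1, 1, 1],
    [1, 1, -1, -1, -1, 1, -1, 1, 1, -1, -1, -1, 1, 1, -1, 1, 1, 5, -1, 1, 1, -1, -1, -1],
    [1, 1, -1, -1, -1, 1, -1, 1, 1, -1, -1, -1, 1, 1, -1, 1, 1, -3, -1, 1, 1, -1, -1, -1],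
    [1, -1, -1, -1, 1, -1, 1, -1, 1, 1, -1, 1, -1, 1, 1, 1, 1, 3, 1, -1, 1, -1, -1, -1],
    [1, -1, -1, -1, 1, -1, 1, -1, 1, 1, -1, 1, -1, 1, 1, 1, 1, -5, 1, -1, 1, -1, -1, -1],
    [-1, -1, -1, 1, -1, -1, -1, -1, 1, -1, 1, -1, -1, -1, 1, -1, -1, 5, -1, -1, -1, 1, 1, 1],
    [-1, -1, -1, 1, -1, -1, -1, -1, 1, -1, 1, -1, -1, -1, 1, -1, -1, -3, -1, -1, -1, 1, 1, 1]]

/-- Shortest fixed vectors, part 15. -/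
def reps15 : List (List Int) :=
  [[1, 1, -1, 1, -1, 1, -1, 1, 3, -1, 1, -1, 1, 1, -3, 1, 1, 3, -1, 1, 1, 1, 1, 1],
    [1, 1, -1, 1, -1, 1, -1, 1, -5, -1, 1, -1, 1, 1, -3, 1, 1, 3, -1, 1, 1, 1, 1, 1],
    [1, -1, -3, 1, -1, -1, -1, -1, -3, -1, 1, -1, -1, 1, -1, 1, 1, 3, -1, -1, 1, 1, 1, 1],
    [-1, 1, -5, -1, 1, 1, 1, 1, 3, 1, -1, 1, 1, -1, 1, -1, -1, -3, 1, 1, -1, -1, -1, -1],
    [-1, -1, -1, -1, -1, -1, -1, -1, -1, -1, -1, -1, -1, -1, -5, -1, -1, -1, -1, -1, -1, -1, -1, -1],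
    [-1, -1, -1, -1, -1, -1, -1, -1, -1, -1, -1, -1, -1, -1, 3, -1, -1, -1, -1, -1, -1, -1, -1, -1],
    [1, -1, -1, 1, 1, -1, 1, -1, 3, 1, 1, 1, -1, 1, -1, 1, 1, 1, 1, -1, 1, 1, 1, 1],
    [1, -1, -1, 1, 1, -1, 1, -1, -5, 1, 1, 1, -1, 1, -1, 1, 1, 1, 1, -1, 1, 1, 1, 1],
    [1, 1, -3, 1, 1, 1, 1, 1, -3, 1, 1, 1, 1, 1, -3, 1, 1, 1, 1, 1, 1, 1, 1, 1],
    [-1, -1, -5, -1, -1, -1, -1, -1, 3, -1, -1, -1, -1, -1, 3, -1, -1, -1, -1, -1, -1, -1, -1, -1],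
    [-1, 1, -3, -1, -1, 1, -1, 1, 1, -1, -1, -1, 1, -1, 1, -1, -1, -1, -1, 1, -1, -1, -1, -1],
    [1, -1, -5, 1, 1, -1, 1, -1, -1, 1, 1, 1, -1, 1, -1, 1, 1, 1, 1, -1, 1, 1, 1, 1],
    [-1, -1, -3, -1, 1, -1, 1, -1, 1, 1, -1, 1, -1, -1, 3, -1, -1, -3, 1, -1, -1, -1, -1, -1],
    [1, 1, -5, 1, -1, 1, -1, 1, -1, -1, 1, -1, 1, 1, -3, 1, 1, 3, -1, 1, 1, 1, 1, 1],
    [-1, 1, -1, -1, 1, 1, 1, 1, -1, 1, -1, 1, 1, -1, 1, -1, -1, 5, 1, 1, -1, -1, -1, -1],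
    [-1, 1, -1, -1, 1, 1, 1, 1, -1, 1, -1, 1, 1, -1, 1, -1, -1, -3, 1, 1, -1, -1, -1, -1]]

/-- Shortest fixed vectors of the fixed classes, in blocks of sixteen. -/
def repBlocks : List (List (List Int)) :=
  [reps0, reps1, reps2, reps3, reps4, reps5, reps6, reps7, reps8, reps9, reps10, reps11, reps12, reps13, reps14, reps15]

/-- Shortest fixed vectors of the fixed classes. -/
def reps : List (List Int) :=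
  repBlocks.flatten

/-- The classes of the averaged generators. -/
def avg : List Nat :=
  [102, 5, 118, 111, 99, 102, 105, 54, 113, 102, 85, 51, 169, 13, 81, 109, 1, 49, 81, 49, 81, 97, 49, 1, 49, 81, 13, 93, 13, 13, 61, 49, 81, 13, 1, 1, 12, 80, 108, 0, 48, 80, 48, 80, 96, 48, 0, 48, 80, 12, 92, 12, 12, 60, 48, 80, 12, 0, 0]

/-- Generators of the centralizer among the permutations. -/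
def permGens : List Nat :=
  [885431729742587796091609161985100196, 17510225417397937697396038355656899]

/-- Generators. -/
def gens : List (List (Option (Nat × Nat))) :=
  [[some (885431729742587796091609161985100196, 0)],
    [some (17510225417397937697396038355656899, 0)],
    [some (984818244535754528103549039458486304, 2900)],
    [some (984818244535754528103549039458486304, 422)],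
    [some (984818244535754528103549039458486304, 5)],
    [some (984818244535754528103549039458486304, 1288)],
    [some (644622201276325434435975360958248491, 3932), none, some (278077331401935692971487868714335540, 2349), none, some (349397764563809103574394630125487119, 0), some (984818244535754528103549039458486304, 964)]]

/-- Images of the basis classes. -/
def cols : List (List Nat) :=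
  [[1, 4, 16, 64, 2, 14, 50, 230], [1, 8, 14, 2, 27, 71, 39, 225], [1, 14, 4, 8, 64, 113, 16, 137], [1, 2, 8, 4, 32, 16, 113, 130], [1, 50, 84, 89, 16, 32, 64, 161], [1, 63, 89, 84, 113, 64, 32, 198], [50, 1, 217, 214, 222, 221, 115, 109]]

/-- The ten subspaces. -/
def systems : List (List Nat) :=
  [[0, 1, 24, 25, 46, 47, 54, 55, 66, 67, 90, 91, 108, 109, 116, 117],
    [0, 2, 37, 39, 84, 86, 113, 115, 128, 130, 165, 167, 212, 214, 241, 243],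
    [0, 4, 27, 31, 32, 36, 59, 63, 194, 198, 217, 221, 226, 230, 249, 253],
    [0, 8, 50, 58, 64, 72, 114, 122, 147, 155, 161, 169, 211, 219, 225, 233],
    [0, 14, 16, 30, 71, 73, 87, 89, 135, 137, 151, 153, 192, 206, 208, 222],
    [0, 2, 25, 27, 64, 66, 89, 91, 128, 130, 153, 155, 192, 194, 217, 219],
    [0, 1, 30, 31, 36, 37, 58, 59, 72, 73, 86, 87, 108, 109, 114, 115],
    [0, 4, 50, 54, 67, 71, 113, 117, 147, 151, 161, 165, 208, 212, 226, 230],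
    [0, 8, 16, 24, 39, 47, 55, 63, 198, 206, 214, 222, 225, 233, 241, 249],
    [0, 14, 32, 46, 84, 90, 116, 122, 135, 137, 167, 169, 211, 221, 243, 253]]

/-- Action on the subspaces. -/
def perms : List (List Nat) :=
  [[0, 2, 4, 3, 1, 7, 6, 8, 5, 9], [0, 3, 4, 1, 2, 8, 6, 9, 5, 7], [6, 9, 7, 8, 5, 4, 0, 2, 3, 1], [6, 5, 8, 7, 9, 1, 0, 3, 2, 4], [6, 7, 9, 5, 8, 3, 0, 1, 4, 2], [6, 8, 5, 9, 7, 2, 0, 4, 1, 3], [3, 0, 2, 1, 4, 6, 7, 5, 8, 9]]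

/-- Decomposition of the action. -/
def parts : List (Bool × List Nat × List Nat) :=
  [(false, [0, 2, 4, 3, 1], [2, 1, 3, 0, 4]), (false, [0, 3, 4, 1, 2], [3, 1, 4, 0, 2]), (true, [1, 4, 2, 3, 0], [4, 0, 2, 3, 1]), (true, [1, 0, 3, 2, 4], [1, 0, 3, 2, 4]), (true, [1, 2, 4, 0, 3], [3, 0, 1, 4, 2]), (true, [1, 3, 0, 4, 2], [2, 0, 4, 1, 3]), (false, [3, 0, 2, 1, 4], [1, 2, 0, 3, 4])]

/-- Words for generators of the wreath product. -/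
def targetWords : List (List Nat) :=
  [[0, 0, 6, 0, 0, 6], [0, 5, 6, 0, 6, 6, 1, 3], [0, 6, 0, 4, 6, 5], [0, 2, 6, 6, 1, 0, 6, 4], [0, 1, 5, 6, 6]]

/-- Words for the alternating group. -/
def altWords : List (List Nat) :=
  [[], [0], [1], [0, 0], [1, 0], [0, 1], [1, 1], [0, 0, 0], [1, 0, 0], [0, 1, 0], [1, 1, 0], [0, 0, 1], [1, 0, 1], [0, 1, 1], [0, 0, 0, 0], [1, 0, 0, 0], [0, 1, 0, 0], [1, 1, 0, 0], [0, 0, 1, 0], [1, 0, 1, 0], [0, 1, 1, 0], [0, 0, 0, 1], [0, 1, 0, 1], [1, 1, 0, 1], [0, 0, 1, 1], [1, 0, 1, 1], [1, 0, 0, 0, 0], [0, 1, 0, 0, 0], [1, 0, 1, 0, 0], [0, 1, 1, 0, 0], [0, 0, 0, 1, 0], [0, 1, 0, 1, 0], [1, 1, 0, 1, 0], [0, 0, 1, 1, 0], [1, 0, 1, 1, 0], [0, 0, 0, 0, 1], [1, 0, 0, 0, 1], [1, 0, 1, 0, 1], [0, 1, 0, 1, 1], [1, 1, 0, 1, 1], [0, 1, 0, 0, 0, 0],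 [1, 0, 1, 0, 0, 0], [0, 1, 0, 1, 0, 0], [1, 1, 0, 1, 0, 0], [1, 0, 1, 1, 0, 0], [0, 0, 0, 0, 1, 0], [1, 0, 0, 0, 1, 0], [0, 1, 0, 1, 1, 0], [0, 1, 0, 0, 0, 1], [1, 1, 0, 1, 0, 1], [1, 0, 1, 0, 1, 1], [1, 0, 1, 0, 0, 0, 0], [0, 1, 0, 1, 0, 0, 0], [1, 1, 0, 1, 0, 0, 0], [0, 1, 0, 1, 1, 0, 0], [1, 0, 1, 0, 1, 1, 0], [1, 0, 1, 0, 0, 0, 1], [0, 1, 0, 1, 0, 0, 0, 0], [1, 1, 0, 1, 0, 0, 0, 0], [1, 0, 1, 0, 1, 1, 0, 0]]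

/-- Words reaching the frame classes. -/
def orbit : List (Nat × List Nat) :=
  [(1, []), (2, [6, 4]), (4, [6, 0, 3]), (8, [6, 0]), (14, [6, 5]), (16, [6, 0, 0, 2]), (24, [6, 0, 6, 6]), (25, [6, 0, 4, 6, 2]), (27, [6, 0, 0, 1, 0]), (30, [6, 1, 6, 0, 3]), (31, [6, 0, 6, 0, 6]), (32, [6, 1, 0]), (36, [6, 1, 6, 4]), (37, [6, 1, 6, 2]), (39, [6, 0, 0, 1]), (46, [6, 1, 6, 0]), (47, [6, 0, 0, 6, 5]), (50, [6]), (54, [6, 1, 6, 2, 6]), (55, [6, 0, 0, 1, 6]), (58, [6, 0, 0, 1, 6, 2]), (59, [6, 0, 0, 6, 0]), (63, [6, 2]), (64, [6, 0, 0]), (66, [6, 0, 0, 3, 6]), (67, [6, 0, 0, 6, 4]), (71, [6, 1, 0, 1]), (72, [6, 1, 6, 5]), (73, [6, 0, 4, 6]), (84, [6, 1]), (86, [6, 0, 0, 1, 6, 5]), (87, [6, 0, 0, 1, 6, 4]), (89, [6, 0, 4]), (90, [6, 1, 6, 0, 0]), (91, [6, 0, 0, 1, 6, 1]), (108,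 [6, 0, 0, 2, 6, 0, 6]), (109, [6, 0, 6, 0, 1, 0, 6]), (113, [6, 0, 0, 3]), (114, [6, 0, 0, 6, 1]), (115, [6, 0, 0, 6]), (116, [6, 1, 6]), (117, [6, 1, 6, 1]), (122, [6, 0, 0, 1, 2]), (128, [6, 0, 6, 0, 1, 0]), (130, [6, 0, 0, 2, 6, 0]), (135, [6, 1, 0, 6, 0]), (137, [6, 0, 6, 1, 0, 5]), (147, [6, 0, 6, 1, 0]), (151, [6, 0, 6, 4]), (153, [6, 1, 0, 1, 6]), (155, [6, 0, 6, 1, 4]), (161, [6, 0, 6, 1, 0, 3]), (165, [6, 1, 6, 5, 6]), (167, [6, 0, 0, 1, 2, 6]), (169, [6, 1, 6, 6]), (192, [6, 0, 3, 6, 2, 6]), (194, [6, 0, 6, 0]), (198, [6, 0, 6, 1, 0, 2]), (206, [6, 0, 6, 0, 1]), (208, [6, 0, 3, 6, 2]), (211, [6, 0, 6, 2]), (212, [6, 0, 6, 1, 3]), (214, [6, 0, 6]), (217, [6, 0, 3, 6]), (219, [6, 0, 6, 1]), (221, [6, 1, 0, 6]), (222, [6, 0, 0, 2, 6]), (225, [6, 0, 0, 6, 5, 6]),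 (226, [6, 0, 6, 0, 6, 6]), (230, [6, 0, 0, 6, 0, 6]), (233, [6, 0, 0, 1, 6, 6]), (241, [6, 0, 6, 5]), (243, [6, 0, 6, 2, 6]), (249, [6, 1, 0, 1, 6, 1]), (253, [6, 0, 6, 1, 5])]

/-- The centralizer among the permutations. -/
def cz : List Nat :=
  [984818244535754528103549039458486304, 500555396822635056935318722283029856, 388880565447082861934139314623625920, 155372587236412772820924851983550753, 178291915354464853643801065186081409, 649695903197584483664760310610698977, 755668369394507171572596979060291747, 17510225417397937697396038355656899, 796030667452920045981431817160410531, 17506536466868250368234090144473252, 796026402512112103355799843714942276, 885431729742587796091609161985100196, 480532643675682925708239706501986309, 941510975794850243427855555019639365,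 665143011862016917923860516389397157, 941523919462475512475543584509757446, 665155495828320900615576196153483878, 66418965532472706797869391919072934, 885432571772331058773990770674960583, 17507646317226660742613794637226311, 755666135795660166639439591170750887, 217273713543484601845129564157232233, 560289393299645245142337032767414505, 420219375523983516312088252155333097, 66433020102015193978100656257778698, 665169473297420959103408870112502346, 480558951490468753188313124353391210, 649691282544099027351348954467312011, 155368963550225629444590460942486155, 306392041480479703255625213156706027, 560288543496172262312219366249209964, 420217682257777085627185157299144844, 254794788766987174669349763073784300, 66425142058204430142825189514561101, 941529942367589022121024446233545325,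 480551533147979275709010007336204973, 885408591762132410489523968409274543, 796003610032980989775339505968006351, 755641579795183263058502763670780239, 306405557787611025936353799058933040, 155382326236738733237872886269938064, 178302268024890271591643810781936368, 851548872990506038448702293452234802, 984803548594920630340368446214212114, 500541545040854621954776166120539858, 984808041299450358591342640823896435, 388869595036114346787050489749060115, 851552750864402947220814949031322323, 254805034973550448209195677358045300, 217282036691207491304535608870421652, 420227928812500371656797831851313396, 388884266236934138939654810499168309, 851566577906169276590781232699646325, 500558482781853514461972679127975445, 649690384938607559669523386843177270, 178286243474869710761117980843784598,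 306390530204888778042904934223103638, 560294331325327602816751349800116375, 254800806736936481059185281607481591, 217278651917326972009310641457841655]

/-- Words for them. -/
def czWords : List (List Nat) :=
  [[], [0, 0, 1, 0, 0], [1, 1, 0, 1, 0], [0, 0], [0, 1, 0, 0, 0, 0, 0], [1, 0], [1, 0, 0, 1, 0, 0], [1], [0, 0, 1, 0, 0, 0], [1, 0, 0, 0, 0, 0], [1, 1, 0, 0, 1, 0], [0], [1, 0, 0, 1, 0, 0, 0, 0], [0, 0, 0, 0, 0, 0, 0, 0], [1, 0, 0, 0, 0, 0, 0, 0], [1, 1, 0], [1, 0, 0], [1, 0, 1, 0, 0, 0, 0, 0], [1, 1, 1, 1, 0, 0], [0, 1, 0, 1, 0, 0], [1, 1, 0, 1, 0, 0], [0, 0, 1, 0], [0, 1, 0, 1], [0, 0, 0, 0], [0, 0, 1], [1, 1, 1], [0, 1, 0, 0, 0, 0, 0, 0], [0, 1, 0, 1, 0, 0, 0], [0, 0, 0, 0, 0, 0, 0], [0, 0, 1, 0, 0, 0, 0], [1, 1, 1, 0], [1, 1, 0, 0], [0, 1, 0, 0], [1, 0, 1],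 [0, 0, 0], [0, 1, 0], [0, 0, 0, 0, 0, 0], [1, 0, 1, 0, 0, 0], [0, 1, 0, 0, 0, 0], [1, 1, 0, 0, 1, 0, 0], [1, 1], [1, 0, 0, 1, 0, 0, 0], [1, 1, 1, 0, 0], [1, 1, 1, 1, 0], [1, 0, 1, 0, 0], [0, 0, 0, 0, 0], [1, 0, 0, 1, 0], [1, 0, 0, 0, 0], [1, 0, 0, 1], [1, 0, 1, 0, 0, 0, 0, 0, 0], [1, 1, 1, 1], [0, 1, 0, 0, 0], [0, 1, 0, 1, 0], [1, 1, 0, 0, 1], [1, 0, 0, 0, 0, 0, 0], [0, 1], [1, 0, 1, 0, 0, 0, 0], [1, 0, 0, 0], [1, 1, 0, 1], [1, 0, 1, 0]]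

/-- Invariant words of the code. -/
def fixCode : List Nat :=
  [0, 5, 419, 422, 1195, 1198, 1288, 1293, 2802, 2807, 2897, 2900, 3673, 3676, 4090, 4095]

/-- Generators of the invariant words. -/
def signGens : List Nat :=
  [2900, 422, 5, 1288]

/-- An element normalising the subgroup. -/
def normStep : List (Option (Nat × Nat)) :=
  [some (446108533421243558390544437685717280, 0)]

/-- Its exponent. -/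
def normExp : Nat :=
  3

end CfsgLib.MonsterType.FiveData
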