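import Cfsg.Agent.Lib.MonsterType.Cent

/-! Elements exchanging `z` with a conjugate in `Q` while fixing a Sylow subgroup of their joint centralizer. -/

set_option autoImplicit false
set_option linter.style.haveILetI false

namespace CfsgLib.MonsterType

open Cfsg CfsgLib CfsgLib.Leech CfsgLib.MonsterQ

variable {G : Type*} [Group G]

theorem exists_swap [Finite G] {z : G} {Q : Subgroup G} {π : ↥(Subgroup.centralizer ({z} : Set G)) →* Spor.Co1}
    {θ : leechLattice → G} (H : Hyp z Q π θ) {s : G} (hsQ : s ∈ Q) (hs : IsConj z s) (hs1 : s ≠ z)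
    (hcls : Cls z θ s (eightVec none)) (p : ℕ) [Fact p.Prime] {B : Subgroup G}
    (hB : B ≤ Subgroup.centralizer ({z, s} : Set G))
    (hBp : Nat.card B = p ^ (Nat.card ↥(Subgroup.centralizer ({z, s} : Set G))).factorization p) :
    ∃ n ∈ Subgroup.normalizer (B : Set G), n * z * n⁻¹ = s ∧ n * s * n⁻¹ = z := by
  obtain ⟨g, hg⟩ := isConj_iff.1 hs
  subst hg
  obtain ⟨hs'Q, hs'ne⟩ := H.inv_pair hsQ hs1
  obtain ⟨v, hv, hv64⟩ := H.class_of_conj hs'Q (isConj_iff.2 ⟨g⁻¹, rfl⟩) hs'ne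
  obtain ⟨h, hh, hhs⟩ := H.conj_of_norm (Or.inr (Or.inr rfl)) hv hcls hv64 (sqNorm_eightVec none)
  have hzc := Subgroup.mem_centralizer_singleton_iff.1 hh
  have u1 : h * g⁻¹ * (g * z * g⁻¹) * (h * g⁻¹)⁻¹ = z := by
    rw [show h * g⁻¹ * (g * z * g⁻¹) * (h * g⁻¹)⁻¹ = h * z * h⁻¹ by group, hzc, mul_inv_cancel_right]
  have u2 : h * g⁻¹ * z * (h * g⁻¹)⁻¹ = g * z * g⁻¹ := by
    rw [show h * g⁻¹ * z * (h * g⁻¹)⁻¹ = h * (g⁻¹ * z * g⁻¹⁻¹) * h⁻¹ by group, hhs]
  set u := h * g⁻¹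
  set s := g * z * g⁻¹
  set L := Subgroup.centralizer ({z, s} : Set G)
  have hmemL : ∀ {x : G}, x ∈ L ↔ x * z = z * x ∧ x * s = s * x := fun {x} => by
    simp only [L, pair_centralizer, Subgroup.mem_inf, Subgroup.mem_centralizer_singleton_iff]
  have hmap : B.map (MulAut.conj u).toMonoidHom ≤ L := by
    rintro _ ⟨x, hx, rfl⟩
    obtain ⟨hxz, hxs⟩ := hmemL.1 (hB hx)
    refine hmemL.2 ⟨?_, ?_⟩
    · show u * x * u⁻¹ * z = z * (u * x * u⁻¹)
      rw [← u1, show u * x * u⁻¹ * (u * s * u⁻¹) = u * (x * s) * u⁻¹ by group, hxs]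
      group
    · show u * x * u⁻¹ * s = s * (u * x * u⁻¹)
      rw [← u2, show u * x * u⁻¹ * (u * z * u⁻¹) = u * (x * z) * u⁻¹ by group, hxz]
      group
  obtain ⟨l, hl, hlB⟩ := conj_sylow p hmap hB
    (by rw [Subgroup.card_map_of_injective (f := (MulAut.conj u).toMonoidHom) (MulAut.conj u).injective, hBp]) hBp
  obtain ⟨hlz, hls⟩ := hmemL.1 hl
  refine ⟨l * u, ?_, ?_, ?_⟩
  · rw [Subgroup.map_map] at hlB
    have e : (MulAut.conj l).toMonoidHom.comp (MulAut.conj u).toMonoidHom = (MulAut.conj (l * u)).toMonoidHom := by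
      ext x
      simp [mul_assoc]
    rw [e] at hlB
    refine Subgroup.mem_normalizer_iff.2 fun x => ?_
    rw [show x ∈ B ↔ (MulAut.conj (l * u)).toMonoidHom x ∈ B.map (MulAut.conj (l * u)).toMonoidHom from
      (Subgroup.mem_map_iff_mem (MulAut.conj (l * u)).injective).symm, hlB]
    rfl
  · rw [show l * u * z * (l * u)⁻¹ = l * (u * z * u⁻¹) * l⁻¹ by group, u2, hls, mul_inv_cancel_right]
  · rw [show l * u * s * (l * u)⁻¹ = l * (u * s * u⁻¹) * l⁻¹ by group, u1, hlz, mul_inv_cancel_right]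

end CfsgLib.MonsterType
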