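import Cfsg.Agent.Lib.MonsterType.Five
import Cfsg.Agent.Lib.MonsterType.Swap

/-! The centralizer of a Sylow 5-subgroup of the joint centralizer. -/

set_option autoImplicit false
set_option linter.style.haveILetI false

namespace CfsgLib.MonsterType.Five

open Cfsg CfsgLib CfsgLib.Leech CfsgLib.MonsterQ CfsgLib.MonsterType

variable {G : Type*} [Group G]

/-- The element, the conjugate `s`, and their coordinates. -/
structure Setup (z s : G) (Q B : Subgroup G) (π : ↥(Subgroup.centralizer ({z} : Set G)) →* Spor.Co1)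
    (θ : leechLattice → G) (b : G) : Prop where
  data : CentData z Q π θ b 5 8 tt rv
  ne : s ≠ z
  cls : Cls z θ s (eightVec none)
  eqB : B = Subgroup.zpowers b
  swap : ∃ n ∈ Subgroup.normalizer (B : Set G), n * z * n⁻¹ = s ∧ n * s * n⁻¹ = z

theorem exists_setup [Finite G] {z : G} {Q : Subgroup ↥(Subgroup.centralizer ({z} : Set G))} [Q.Normal]
    (hM : Cfsg.IsOfMonsterType z Q) {s : G}
    (hsQ : ∃ hsc : s ∈ Subgroup.centralizer ({z} : Set G), (⟨s, hsc⟩ : Subgroup.centralizer ({z} : Set G)) ∈ Q)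
    (hs : IsConj z s) (hs1 : s ≠ z) {B : Subgroup G} (hB : B ≤ Subgroup.centralizer ({z, s} : Set G))
    (hBp : Nat.card B = 5 ^ (Nat.card ↥(Subgroup.centralizer ({z, s} : Set G))).factorization 5) :
    ∃ (Q' : Subgroup G) (π : ↥(Subgroup.centralizer ({z} : Set G)) →* Spor.Co1) (θ : leechLattice → G) (b : G),
      Setup z s Q' B π θ b := by
  haveI : Fact (Nat.Prime 5) := ⟨Nat.prime_five⟩
  obtain ⟨e, θ, H⟩ := of_monsterType hM
  obtain ⟨π₁, θ₁, H₁, hc₁⟩ := normal_frame H (mem_map_of_exists hsQ) hs hs1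
  have h5 : (Nat.card M24).factorization 5 = 1 := by
    rw [Golay.card_M24, show (244823040 : ℕ) = 5 * 48964608 by norm_num,
      Nat.factorization_mul (by norm_num) (by norm_num), Finsupp.add_apply, Nat.prime_five.factorization,
      Finsupp.single_eq_same, Nat.factorization_eq_zero_of_not_dvd (by norm_num)]
  obtain ⟨-, π', θ', b, hb, H', hc', hord, hBb, hπ⟩ :=
    normal_sylow H₁ (mem_map_of_exists hsQ) hs hs1 hc₁ (by norm_num) h5 tt_mem tt_ord hB hBp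
  exact ⟨_, π', θ', b, ⟨H', fixed, Nat.prime_five, by norm_num, hord, hb, hπ⟩, hs1, hc', hBb,
    exists_swap H' (mem_map_of_exists hsQ) hs hs1 hc' 5 hB hBp⟩

theorem pow_eq_mod {M : Type*} [Monoid M] {x : M} (h : x ^ 5 = 1) (n : ℕ) : x ^ n = x ^ (n % 5) := by
  conv_lhs => rw [← Nat.div_add_mod n 5, pow_add, pow_mul, h, one_pow, one_mul]

/-- Every power map of `⟨tt⟩` is induced. -/
theorem exists_auto {k : ℕ} (hk : k % 5 ≠ 0) : ∃ g : Co0, g * tt * g⁻¹ = tt ^ k := by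
  have hmul : ∀ {a c : ℕ}, (∃ g : Co0, g * tt * g⁻¹ = tt ^ a) → (∃ g : Co0, g * tt * g⁻¹ = tt ^ c) →
      ∃ g : Co0, g * tt * g⁻¹ = tt ^ (a * c % 5) := by
    rintro a c ⟨g, hg⟩ ⟨g', hg'⟩
    refine ⟨g * g', ?_⟩
    rw [show g * g' * tt * (g * g')⁻¹ = g * (g' * tt * g'⁻¹) * g⁻¹ by group, hg', ← conj_pow, hg, ← pow_mul,
      pow_eq_mod fixed.pow]
  have h3 : ∃ g : Co0, g * tt * g⁻¹ = tt ^ 3 := by
    have e := eq_of_eqW auto_check
    rw [wordEl, wordEl_append, wordEl_replicate] at e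
    exact ⟨_, mul_inv_eq_iff_eq_mul.2 e⟩
  have h1 : ∃ g : Co0, g * tt * g⁻¹ = tt ^ 1 := ⟨1, by group⟩
  have h4 : ∃ g : Co0, g * tt * g⁻¹ = tt ^ 4 := hmul h3 h3
  have h2 : ∃ g : Co0, g * tt * g⁻¹ = tt ^ 2 := hmul h3 h4
  obtain ⟨g, hg⟩ : ∃ g : Co0, g * tt * g⁻¹ = tt ^ (k % 5) := by
    have := Nat.mod_lt k (by norm_num : 5 > 0)
    interval_cases h : k % 5
    exacts [absurd rfl hk, h1, h2, h3, h4]
  exact ⟨g, by rw [hg, ← pow_eq_mod fixed.pow]⟩

namespace Setup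

variable {z s : G} {Q B : Subgroup G} {π : ↥(Subgroup.centralizer ({z} : Set G)) →* Spor.Co1}
  {θ : leechLattice → G} {b : G} (S : Setup z s Q B π θ b)
include S

theorem s_mem : s ∈ S.data.CQ :=
  S.data.cls_rv_mem (k := 1) (by norm_num) (S.data.hyp.cls_of_cong S.cls rv_one_cong.symm)

/-- `s` is conjugate to `z` by an element centralizing `b`. -/
theorem conj_in_cent [Finite G] : ∃ n : G, n * b = b * n ∧ n * z * n⁻¹ = s := by
  obtain ⟨n₀, hn₀, hn₀z, -⟩ := S.swap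
  have h := (Subgroup.mem_normalizer_iff.1 hn₀ b).1 (S.eqB ▸ Subgroup.mem_zpowers b)
  rw [S.eqB, ← mem_powers_iff_mem_zpowers] at h
  obtain ⟨a, ha⟩ := h
  have ha' : b ^ a = n₀ * b * n₀⁻¹ := ha
  have ha0 : a % 5 ≠ 0 := fun e => by
    rw [pow_eq_mod S.data.bp, e, pow_zero, eq_comm, conj_eq_one_iff] at ha'
    have := S.data.ord
    rw [ha', orderOf_one] at this
    norm_num at this
  obtain ⟨j, hj⟩ : ∃ j, a * j % 5 = 1 := by
    refine ⟨a ^ 3, ?_⟩
    have hm := Nat.mod_lt a (by norm_num : 5 > 0)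
    rw [← pow_succ', Nat.pow_mod]
    interval_cases a % 5 <;> simp at ha0 ⊢
  obtain ⟨g, hg⟩ := exists_auto (k := j) (fun e => by simp [Nat.mul_mod, e] at hj)
  obtain ⟨m, hm, -, hmb⟩ := S.data.lift hg
  refine ⟨n₀ * m, ?_, ?_⟩
  · rw [← mul_inv_eq_iff_eq_mul,
      show n₀ * m * b * (n₀ * m)⁻¹ = n₀ * (m * b * m⁻¹) * n₀⁻¹ by group, hmb,
      ← conj_pow, ← ha', ← pow_mul, pow_eq_mod S.data.bp, hj, pow_one]
  · have hmz := Subgroup.mem_centralizer_singleton_iff.1 hm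
    rw [show n₀ * m * z * (n₀ * m)⁻¹ = n₀ * (m * z * m⁻¹) * n₀⁻¹ by group,
      hmz, mul_inv_cancel_right, hn₀z]

end Setup

end CfsgLib.MonsterType.Five
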