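import Cfsg.Agent.Lib.MonsterType.Quot
import Mathlib.GroupTheory.FixedPointFree

/-! The layer of the centralizer of `b` contains `z`. -/

set_option autoImplicit false
set_option linter.style.haveILetI false
set_option linter.unusedSectionVars false

namespace CfsgLib.MonsterType

open Cfsg CfsgLib CfsgLib.Leech CfsgLib.MonsterQ

variable {G : Type*} [Group G]

namespace CentData

variable {z : G} {Q : Subgroup G} {π : ↥(Subgroup.centralizer ({z} : Set G)) →* Spor.Co1}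
  {θ : leechLattice → G} {b : G} {p d : ℕ} {t : Co0} {rv : ℕ → leechLattice} (D : CentData z Q π θ b p d t rv)
  {N : Subgroup G} (hN : ∀ n, n ∈ N ↔ n * b = b * n) {Bs : Subgroup N}
  (hBs : ∀ n : N, n ∈ Bs ↔ (n : G) ∈ Subgroup.zpowers b) [Finite G] [Bs.Normal]
  {Γ : Type*} [Group Γ] {ψ : ↥(Subgroup.centralizer ({t} : Set Co0)) →* Γ} (hψ : Action t d rv ψ)
  {s : G} (hs : s ∈ D.CQ) (hsz : s ≠ z) (hs1 : s ≠ 1) (hss : s * s = 1)
  (hconj : ∃ n ∈ N, n * z * n⁻¹ = s) (hbasis : ∀ j < d, ∀ x : G, Cls z θ x (rv (2 ^ j)) → ∃ n ∈ N, n * z * n⁻¹ = x)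

include D hN hBs

theorem central_b {n : N} {i : ℕ} : (n : G) * b ^ i = b ^ i * n :=
  (Commute.pow_right (show Commute (n : G) b from (hN n).1 n.2) i).eq

/-- A centralizing element for `z` in the quotient has all its preimages centralizing `z`. -/
theorem cent_of_bar {m : N}
    (h : (QuotientGroup.mk m : ↥N ⧸ Bs) ∈ Subgroup.centralizer ({D.zbar hN hBs} : Set (↥N ⧸ Bs))) :
    (m : G) * z = z * m := by
  obtain ⟨n, hn, hnz⟩ := D.lift_cent hN hBs h
  have h1 := (hBs _).1 (QuotientGroup.eq.1 hn)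
  rw [← mem_powers_iff_mem_zpowers] at h1
  obtain ⟨i, hi⟩ := h1
  have hi' : b ^ i = (n : G)⁻¹ * m := hi
  have hm : (m : G) = n * b ^ i := by rw [hi', mul_inv_cancel_left]
  rw [hm, mul_assoc, ← D.central_b hN hBs (n := ⟨z, D.z_mem_N hN hBs⟩), ← mul_assoc, hnz, mul_assoc]

include hψ hs hsz hss hconj

/-- A normal subgroup either lies in `⟨b⟩` or meets the centralizer of `z` outside it. -/
theorem normal_small {M : Subgroup N} (hM : M.Normal)
    (hfix : ∀ m ∈ M, (m : G) * z = z * m → m ∈ Bs) : M ≤ Bs := by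
  classical
  set Mb := M.map (QuotientGroup.mk' Bs) with hMb
  haveI hMbn : Mb.Normal := hM.map _ (QuotientGroup.mk'_surjective Bs)
  obtain ⟨n, hn, hnz⟩ := hconj
  obtain ⟨q, hq, hqs⟩ := D.flip_CQ hs (fun e => by
    rw [e, conj_eq_one_iff] at hnz; exact D.hyp.S.ne_one hnz) hsz
  set zb := D.zbar hN hBs
  have hfpf : ∀ w : ↥N ⧸ Bs, (∀ x ∈ Mb, w * x = x * w → x = 1) → w * w = 1 →
      ∀ x ∈ Mb, w * x * w⁻¹ = x⁻¹ := by
    intro w hw hw2
    let f : ↥Mb →* ↥Mb := MonoidHom.mk' (fun x => ⟨w * x * w⁻¹, hMbn.conj_mem _ x.2 w⟩) fun a c =>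
      Subtype.ext (by simp only [Subgroup.coe_mul]; group)
    have h1 : MonoidHom.FixedPointFree f := fun x hx => Subtype.ext (hw x x.2 (by
      have := congrArg Subtype.val hx
      exact mul_inv_eq_iff_eq_mul.1 this))
    have h2 : Function.Involutive f := fun x => Subtype.ext (by
      show w * (w * x * w⁻¹) * w⁻¹ = x
      rw [show w * (w * (x : ↥N ⧸ Bs) * w⁻¹) * w⁻¹ = w * w * x * (w * w)⁻¹ by group, hw2]
      group)
    intro x hx
    exact congrArg Subtype.val (congrFun (h1.coe_eq_inv_of_involutive h2) ⟨x, hx⟩)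
  have hz0 : ∀ x ∈ Mb, zb * x = x * zb → x = 1 := by
    rintro x ⟨m, hm, rfl⟩ h
    rw [QuotientGroup.mk'_apply, QuotientGroup.eq_one_iff]
    exact hfix m hm (D.cent_of_bar hN hBs (Subgroup.mem_centralizer_singleton_iff.2 h.symm))
  have hz2 : zb * zb = 1 := by
    show (QuotientGroup.mk (⟨z, _⟩ * ⟨z, _⟩ : N) : ↥N ⧸ Bs) = 1
    rw [QuotientGroup.eq_one_iff, hBs]
    show z * z ∈ _
    rw [D.hyp.zz]; exact one_mem _
  have hconjInv : ∀ (c : ↥N ⧸ Bs), ∀ x ∈ Mb, c * zb * c⁻¹ * x * (c * zb * c⁻¹)⁻¹ = x⁻¹ := by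
    intro c x hx
    refine hfpf _ (fun y hy hcy => ?_) (by
      rw [show c * zb * c⁻¹ * (c * zb * c⁻¹) = c * (zb * zb) * c⁻¹ by group, hz2, mul_one, mul_inv_cancel]) x hx
    have h1 := hz0 (c⁻¹ * y * c⁻¹⁻¹) (hMbn.conj_mem _ hy c⁻¹) (by
      calc zb * (c⁻¹ * y * c⁻¹⁻¹) = c⁻¹ * (c * zb * c⁻¹ * y) * c := by group
        _ = c⁻¹ * (y * (c * zb * c⁻¹)) * c := by rw [hcy]
        _ = c⁻¹ * y * c⁻¹⁻¹ * zb := by group)
    rwa [conj_eq_one_iff] at h1
  intro m hm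
  have hmb : (QuotientGroup.mk m : ↥N ⧸ Bs) ∈ Mb := ⟨m, hm, rfl⟩
  refine (QuotientGroup.eq_one_iff m).1 (hz0 _ hmb ?_)
  set x : ↥N ⧸ Bs := QuotientGroup.mk m
  set cn : ↥N ⧸ Bs := QuotientGroup.mk (⟨n, hn⟩ : N)
  set cq : ↥N ⧸ Bs := QuotientGroup.mk (⟨q, D.CQ_le hN hBs hq⟩ : N)
  have e1 : cn * zb * cn⁻¹ * zb = cq * cn * zb * (cq * cn)⁻¹ := by
    show ((QuotientGroup.mk (⟨n, hn⟩ * ⟨z, _⟩ * ⟨n, hn⟩⁻¹ * ⟨z, _⟩ : N)) : ↥N ⧸ Bs) =
      QuotientGroup.mk (⟨q, _⟩ * ⟨n, hn⟩ * ⟨z, _⟩ * (⟨q, _⟩ * ⟨n, hn⟩)⁻¹ : N)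
    congr 1
    refine Subtype.ext ?_
    show n * z * n⁻¹ * z = q * n * z * (q * n)⁻¹
    rw [show q * n * z * (q * n)⁻¹ = q * (n * z * n⁻¹) * q⁻¹ by group, hnz, hqs]
  have i1 := hconjInv 1 x hmb
  rw [one_mul, inv_one, mul_one] at i1
  have i2 := hconjInv cn x hmb
  have i3 := hconjInv (cq * cn) x hmb
  rw [← e1] at i3
  have hx2 : x⁻¹ = x := by
    calc x⁻¹ = cn * zb * cn⁻¹ * zb * x * (cn * zb * cn⁻¹ * zb)⁻¹ := i3.symm
      _ = cn * zb * cn⁻¹ * (zb * x * zb⁻¹) * (cn * zb * cn⁻¹)⁻¹ := by group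
      _ = (cn * zb * cn⁻¹ * x * (cn * zb * cn⁻¹)⁻¹)⁻¹ := by rw [i1]; group
      _ = x := by rw [i2, inv_inv]
  rw [hx2, mul_inv_eq_iff_eq_mul] at i1
  exact i1

/-- A normal subgroup outside `⟨b⟩` contains `z`. -/
theorem z_mem_normal {M : Subgroup N} (hM : M.Normal) (hMB : ¬ M ≤ Bs) :
    (⟨z, D.z_mem_N hN hBs⟩ : N) ∈ M := by
  classical
  by_contra hzM
  refine hMB (D.normal_small hN hBs hψ hs hsz hss hconj hM fun m hm hmz => ?_)
  by_contra hmB
  have hmzc : (m : G) ∈ Subgroup.centralizer ({z} : Set G) := Subgroup.mem_centralizer_singleton_iff.2 hmz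
  by_cases hcom : ∀ y ∈ D.CQ, (m : G) * y = y * m
  · obtain ⟨g, hg⟩ := QuotientGroup.mk'_surjective (Subgroup.center Co0) (π ⟨m, hmzc⟩)
    have hgt : g ∈ Subgroup.centralizer ({t} : Set Co0) :=
      Subgroup.mem_centralizer_singleton_iff.2 (D.comm_t hmzc hg.symm ((hN m).1 m.2))
    have hone : ψ ⟨g, hgt⟩ = 1 := hψ.faith _ fun k hk => by
      have hq : θ (rv k) ∈ D.CQ := D.cls_rv_mem hk (Or.inl rfl)
      have h5 := D.hyp.cls_conj (Or.inl rfl : Cls z θ (θ (rv k)) (rv k)) ⟨m, hmzc⟩ hg.symm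
      rw [show (m : G) * θ (rv k) * (m : G)⁻¹ = θ (rv k) by rw [hcom _ hq, mul_inv_cancel_right]] at h5
      exact D.hyp.cong_of_cls h5 (Or.inl rfl)
    obtain ⟨i, hi⟩ := hψ.ker _ hone
    have hπ : π ⟨m, hmzc⟩ = π ⟨b ^ i, pow_mem D.mem i⟩ := by
      rw [← hg, D.proj_pow, QuotientGroup.mk'_apply, QuotientGroup.eq]
      rcases hi with e | e <;> rw [show g = _ from e]
      · rw [inv_mul_cancel]; exact one_mem _
      · rw [mul_inv_rev, mul_assoc, inv_mul_cancel, mul_one]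
        exact inv_mem (show negEl ∈ Subgroup.center Co0 from Set.ext_iff.1 center_eq negEl |>.2 (Or.inr rfl))
    have hq : (m : G) * (b ^ i)⁻¹ ∈ Q := by
      refine (D.hyp.ker ⟨_, mul_mem hmzc (inv_mem (pow_mem D.mem i))⟩).1 ?_
      rw [show (⟨(m : G) * (b ^ i)⁻¹, _⟩ : ↥(Subgroup.centralizer ({z} : Set G))) =
        ⟨m, hmzc⟩ * ⟨b ^ i, pow_mem D.mem i⟩⁻¹ from rfl, map_mul, map_inv, hπ, mul_inv_cancel]
    have hbb : Commute (b ^ i)⁻¹ b := (Commute.pow_self b i).inv_left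
    have hmb : (m : G) * (b ^ i)⁻¹ * b = b * ((m : G) * (b ^ i)⁻¹) := by
      rw [mul_assoc, hbb.eq, ← mul_assoc, (hN m).1 m.2, mul_assoc]
    rcases D.center_CQ (D.mem_CQ.2 ⟨hq, hmb⟩) (fun y hy => by
      have hyb : Commute (b ^ i)⁻¹ y :=
        ((show Commute y b from (D.mem_CQ.1 hy).2).pow_right i).symm.inv_left
      rw [mul_assoc, hyb.eq, ← mul_assoc, hcom y hy, mul_assoc]) with e | e
    · exact hmB ((hBs m).2 (by rw [mul_inv_eq_one] at e; rw [e]; exact pow_mem (Subgroup.mem_zpowers b) i))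
    · refine hzM ?_
      have hpm : (m : G) ^ p = z := by
        have hc : Commute z (b ^ i) := (show Commute z b from (Subgroup.mem_centralizer_singleton_iff.1 D.mem).symm).pow_right i
        rw [mul_inv_eq_iff_eq_mul] at e
        rw [e, hc.mul_pow, ← pow_mul, mul_comm i p, pow_mul, D.bp, one_pow, mul_one]
        obtain ⟨r, hr⟩ : ∃ r, p = 2 * r + 1 := ⟨p / 2, by have := D.podd; omega⟩
        rw [hr, pow_succ, pow_mul, pow_two, D.hyp.zz, one_pow, one_mul]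
      exact (Subtype.ext hpm : m ^ p = (⟨z, D.z_mem_N hN hBs⟩ : N)) ▸ pow_mem hm p
  · push Not at hcom
    obtain ⟨y, hy, hne⟩ := hcom
    have hm1 : (m : G) * y * (m : G)⁻¹ * y⁻¹ ∈ D.CQ := by
      refine mul_mem (D.mem_CQ.2 ⟨D.hyp.S.normal _ hmz _ (D.mem_CQ.1 hy).1, ?_⟩) (inv_mem hy)
      exact (hN _).1 (mul_mem (mul_mem m.2 (D.CQ_le hN hBs hy)) (inv_mem m.2))
    have hm2 : (⟨(m : G) * y * (m : G)⁻¹ * y⁻¹, D.CQ_le hN hBs hm1⟩ : N) ∈ M := by
      rw [show (⟨(m : G) * y * (m : G)⁻¹ * y⁻¹, D.CQ_le hN hBs hm1⟩ : N) =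
        m * (⟨y, D.CQ_le hN hBs hy⟩ * m⁻¹ * ⟨y, D.CQ_le hN hBs hy⟩⁻¹) from Subtype.ext (by
          simp only [Subgroup.coe_mul, InvMemClass.coe_inv]; group)]
      exact mul_mem hm (hM.conj_mem _ (inv_mem hm) _)
    set x := (m : G) * y * (m : G)⁻¹ * y⁻¹ with hx
    have hx1 : x ≠ 1 := fun e => hne (by rw [hx, mul_inv_eq_one, mul_inv_eq_iff_eq_mul] at e; exact e)
    by_cases hxz : x = z
    · exact hzM ((Subtype.ext hxz : (⟨x, _⟩ : N) = ⟨z, D.z_mem_N hN hBs⟩) ▸ hm2)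
    · obtain ⟨q, hq, hqx⟩ := D.flip_CQ hm1 hx1 hxz
      have hqN : q ∈ N := D.CQ_le hN hBs hq
      have h3 := mul_mem (inv_mem hm2) (hM.conj_mem _ hm2 ⟨q, hqN⟩)
      refine hzM ?_
      rwa [show (⟨x, D.CQ_le hN hBs hm1⟩ : N)⁻¹ * (⟨q, hqN⟩ * ⟨x, D.CQ_le hN hBs hm1⟩ * ⟨q, hqN⟩⁻¹) =
        ⟨z, D.z_mem_N hN hBs⟩ from Subtype.ext (by
          show x⁻¹ * (q * x * q⁻¹) = z
          rw [hqx, inv_mul_cancel_left])] at h3

include hbasis

/-- A normal subgroup containing `z` contains the whole fixed subgroup. -/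
theorem CQ_le_normal {M : Subgroup N} (hM : M.Normal) (hz : (⟨z, D.z_mem_N hN hBs⟩ : N) ∈ M) :
    D.CQ ≤ M.map N.subtype := by
  set M' := M.map N.subtype with hM'
  have hzM : z ∈ M' := ⟨_, hz, rfl⟩
  have hcl : ∀ {x : G} {v : leechLattice}, Cls z θ x v → x ∈ M' → ∀ y, Cls z θ y v → y ∈ M' := by
    intro x v hx hxM y hy
    rcases D.hyp.eq_of_cls hx hy with e | e <;> rw [e]
    exacts [hxM, mul_mem hxM hzM]
  have key : ∀ k < 2 ^ d, θ (rv k) ∈ M' := by
    intro k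
    induction k using Nat.strong_induction_on with
    | _ k ih =>
      intro hk
      by_cases hk0 : k = 0
      · subst hk0
        rw [D.fixed.zero]
        rcases D.hyp.theta_zero with e | e <;> rw [e]
        exacts [one_mem _, hzM]
      obtain ⟨j, hj, hjmax⟩ := Nat.exists_most_significant_bit hk0
      have hjd : j < d := by
        by_contra hc
        rw [Nat.testBit_lt_two_pow (hk.trans_le (Nat.pow_le_pow_right (by norm_num) (not_lt.1 hc)))] at hj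
        exact Bool.false_ne_true hj
      have h2j : 2 ^ j < 2 ^ d := Nat.pow_lt_pow_right (by norm_num) hjd
      have hlt : k ^^^ 2 ^ j < k := by
        refine Nat.lt_of_testBit j (by simp [hj]) hj fun i hi => ?_
        simp [(Nat.ne_of_lt hi)]
      obtain ⟨n, hn, hnx⟩ := hbasis j hjd (θ (rv (2 ^ j))) (Or.inl rfl)
      have hj' : θ (rv (2 ^ j)) ∈ M' :=
        ⟨⟨n, hn⟩ * ⟨z, D.z_mem_N hN hBs⟩ * ⟨n, hn⟩⁻¹, hM.conj_mem _ hz _, hnx⟩
      have hc := D.fixed.add _ (hlt.trans hk) _ h2j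
      rw [Nat.xor_assoc, Nat.xor_self, Nat.xor_zero] at hc
      have hmul := D.hyp.cls_of_cong (D.hyp.cls_mul (Or.inl rfl : Cls z θ (θ (rv (k ^^^ 2 ^ j))) _)
        (Or.inl rfl : Cls z θ (θ (rv (2 ^ j))) _)) hc
      exact hcl hmul (mul_mem (ih _ hlt (hlt.trans hk)) hj') _ (Or.inl rfl)
  intro x hx
  obtain ⟨k, hk, hc⟩ := D.exists_rv hx
  exact hcl (Or.inl rfl) (key k hk) x hc

include hs1

/-- The layer contains the fixed subgroup. -/
theorem CQ_le_layer : D.CQ ≤ (Cfsg.layer ↥N).map N.subtype := by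
  classical
  refine D.CQ_le_normal hN hBs hψ hs hsz hss hconj hbasis inferInstance
    (D.z_mem_normal hN hBs hψ hs hsz hss hconj inferInstance fun hle => ?_)
  have hBc : Bs ≤ Subgroup.center N := fun x hx => Subgroup.mem_center_iff.2 fun n => Subtype.ext (by
    have hx' := (hBs x).1 hx
    rw [← mem_powers_iff_mem_zpowers] at hx'
    obtain ⟨i, hi⟩ := hx'
    show (n : G) * (x : G) = (x : G) * n
    rw [← show b ^ i = (x : G) from hi]
    exact D.central_b hN hBs)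
  have hlay : Cfsg.layer ↥N = ⊥ := by
    rw [← Components.layer_commutator_self, eq_bot_iff]
    refine (Subgroup.commutator_mono (hle.trans hBc) le_rfl).trans (le_of_eq ?_)
    rw [Subgroup.commutator_eq_bot_iff_le_centralizer]
    exact fun x hx => Subgroup.mem_centralizer_iff.2 fun y _ => Subgroup.mem_center_iff.1 hx y
  have hfit : Cfsg.fittingSubgroup ↥N ≤ Bs := by
    refine Components.fitting_le_of_pCore_le fun q hq => ?_
    haveI := Fact.mk hq
    by_contra hnot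
    set P := Cfsg.pCore q ↥N with hP
    have hzP := D.z_mem_normal hN hBs hψ hs hsz hss hconj (inferInstance : P.Normal) hnot
    -- its centre also contains z, hence the whole fixed subgroup, which is not abelian
    have hPp : IsPGroup q ↥P := Components.isPGroup_pCore q
    set Z := (Subgroup.center ↥P).map P.subtype with hZ
    haveI hZn : Z.Normal := ⟨fun x hx g => by
      obtain ⟨y, hy, rfl⟩ := hx
      refine ⟨⟨g * (y : N) * g⁻¹, (inferInstance : P.Normal).conj_mem _ y.2 g⟩, Subgroup.mem_center_iff.2 fun w => ?_, rfl⟩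
      have hw : g⁻¹ * (w : N) * g ∈ P := by
        have := (inferInstance : P.Normal).conj_mem _ w.2 g⁻¹
        rwa [inv_inv] at this
      have h1 := congrArg Subtype.val (Subgroup.mem_center_iff.1 hy ⟨_, hw⟩)
      simp only [Subgroup.coe_mul] at h1
      refine Subtype.ext ?_
      show (w : N) * (g * y * g⁻¹) = g * y * g⁻¹ * w
      calc (w : N) * (g * y * g⁻¹) = g * (g⁻¹ * w * g * y) * g⁻¹ := by group
        _ = g * y * g⁻¹ * w := by rw [h1]; group⟩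
    have hZne : Z ≠ ⊥ := by
      intro e
      rw [hZ, Subgroup.map_eq_bot_iff_of_injective _ P.subtype_injective] at e
      haveI : Nontrivial ↥P := ⟨⟨⟨_, hzP⟩, 1, fun e => D.hyp.S.ne_one
        (congrArg (fun x : ↥P => ((x : N) : G)) e)⟩⟩
      have := hPp.bot_lt_center
      rw [e] at this
      exact lt_irrefl _ this
    have hZB : ¬ Z ≤ Bs := by
      intro hZB
      obtain ⟨c, hc, hc1⟩ : ∃ c ∈ Z, c ≠ 1 := by
        by_contra h
        push Not at h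
        exact hZne ((Subgroup.eq_bot_iff_forall Z).2 h)
      obtain ⟨a, ha⟩ := hPp ⟨c, Subgroup.map_subtype_le _ hc⟩
      have ha' : (c : G) ^ q ^ a = 1 := congrArg (fun x : ↥P => ((x : N) : G)) ha
      have hq2 : q = 2 := by
        obtain ⟨r, hr⟩ := hPp ⟨_, hzP⟩
        have hr' : z ^ q ^ r = 1 := congrArg (fun x : ↥P => ((x : N) : G)) hr
        have := orderOf_dvd_of_pow_eq_one hr'
        rw [D.hyp.hz] at this
        exact ((Nat.prime_dvd_prime_iff_eq Nat.prime_two hq).1 (Nat.prime_two.dvd_of_dvd_pow this)).symm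
      have hcb := (hBs c).1 (hZB hc)
      have hcp : orderOf (c : G) ∣ p := D.ord ▸ orderOf_dvd_of_mem_zpowers hcb
      have hc2 := orderOf_dvd_of_pow_eq_one ha'
      rw [hq2] at hc2
      refine hc1 (Subtype.ext (orderOf_eq_one_iff.1 (Nat.eq_one_of_dvd_coprimes ?_ hc2 hcp)))
      exact Nat.Coprime.pow_left a ((Nat.coprime_primes Nat.prime_two D.prime).2 (Ne.symm D.odd))
    have hzZ := D.z_mem_normal hN hBs hψ hs hsz hss hconj hZn hZB
    have hCQ := D.CQ_le_normal hN hBs hψ hs hsz hss hconj hbasis hZn hzZ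
    rcases D.center_CQ hs (fun y hy => by
      obtain ⟨s', hs', es⟩ := hCQ hs
      obtain ⟨y', hy', ey⟩ := hCQ hy
      obtain ⟨u, hu, rfl⟩ := hs'
      obtain ⟨w, hw, rfl⟩ := hy'
      rw [← es, ← ey]
      exact (congrArg (fun x : ↥P => ((x : N) : G)) (Subgroup.mem_center_iff.1 hu w)).symm) with e | e
    exacts [hs1 e, hsz e]
  have hgf : Cfsg.generalizedFittingSubgroup ↥N ≤ Bs := by
    rw [Components.genFitting_eq_fitting_of_layer_eq_bot hlay]; exact hfit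
  have htop : (⟨z, D.z_mem_N hN hBs⟩ : N) ∈ Bs :=
    hgf (Components.centralizer_genFitting_le (Subgroup.mem_centralizer_iff.2 fun y hy =>
      (Subgroup.mem_center_iff.1 (hBc (hgf hy)) _).symm))
  have h1 := (hBs _).1 htop
  rw [← mem_powers_iff_mem_zpowers] at h1
  obtain ⟨i, hi⟩ := h1
  have hi' : b ^ i = z := hi
  exact D.hyp.S.ne_one (hi' ▸ D.pow_eq_one_of_mem (hi' ▸ D.hyp.S.mem))

end CentData

end CfsgLib.MonsterType
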