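import Cfsg.Agent.Lib.MonsterQ.Main
import Mathlib.GroupTheory.Sylow

/-! Coordinates adapted to a conjugate of the central involution and to an element of prime order
centralizing both. -/

set_option autoImplicit false
set_option linter.style.haveILetI false

namespace CfsgLib.MonsterType

open Cfsg CfsgLib CfsgLib.Leech CfsgLib.MonsterQ

variable {G : Type*} [Group G]

/-- Two subgroups of Sylow order inside a subgroup are conjugate there. -/
theorem conj_sylow [Finite G] (p : ℕ) [Fact p.Prime] {K A B : Subgroup G} (hA : A ≤ K) (hB : B ≤ K)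
    (cA : Nat.card A = p ^ (Nat.card K).factorization p) (cB : Nat.card B = p ^ (Nat.card K).factorization p) :
    ∃ g ∈ K, A.map (MulAut.conj g).toMonoidHom = B := by
  classical
  let SA : Sylow p K := Sylow.ofCard (A.subgroupOf K)
    (by rw [Nat.card_congr (Subgroup.subgroupOfEquivOfLe hA).toEquiv, cA])
  let SB : Sylow p K := Sylow.ofCard (B.subgroupOf K)
    (by rw [Nat.card_congr (Subgroup.subgroupOfEquivOfLe hB).toEquiv, cB])
  obtain ⟨g, hg⟩ := MulAction.exists_smul_eq K SA SB
  refine ⟨g, g.2, ?_⟩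
  have h1 : ((g • SA : Sylow p K) : Subgroup K) = B.subgroupOf K := by
    rw [hg]; rfl
  have h2 : ((g • SA : Sylow p K) : Subgroup K) =
      (A.subgroupOf K).map (MulAut.conj g).toMonoidHom := rfl
  have h3 := congrArg (Subgroup.map K.subtype) (h2.symm.trans h1)
  rw [Subgroup.map_map, Subgroup.map_subgroupOf_eq_of_le hB] at h3
  have e : K.subtype.comp (MulAut.conj g).toMonoidHom = (MulAut.conj (g : G)).toMonoidHom.comp K.subtype :=
    MonoidHom.ext fun x => by simp
  rw [e, ← Subgroup.map_map, Subgroup.map_subgroupOf_eq_of_le hA] at h3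
  exact h3

/-- Two elements generating subgroups of Sylow order are conjugate up to a power. -/
theorem conj_sylow_elem [Finite G] (p : ℕ) [Fact p.Prime] {K : Subgroup G} {x y : G} (hx : x ∈ K) (hy : y ∈ K)
    (cx : orderOf x = p) (cy : orderOf y = p) (hK : (Nat.card K).factorization p = 1) :
    ∃ g ∈ K, ∃ k : ℕ, g * x * g⁻¹ = y ^ k := by
  obtain ⟨g, hg, h⟩ := conj_sylow p (K := K) ((Subgroup.zpowers_le).2 hx) ((Subgroup.zpowers_le).2 hy)
    (by rw [Nat.card_zpowers, cx, hK, pow_one]) (by rw [Nat.card_zpowers, cy, hK, pow_one])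
  refine ⟨g, hg, ?_⟩
  have hm : g * x * g⁻¹ ∈ Subgroup.zpowers y := h ▸ Subgroup.mem_map_of_mem _ (Subgroup.mem_zpowers x)
  rw [← mem_powers_iff_mem_zpowers] at hm
  obtain ⟨k, hk⟩ := hm
  exact ⟨k, hk.symm⟩

/-- The projection twisted by an automorphism of the lattice. -/
noncomputable def twistHom {z : G} (π : ↥(Subgroup.centralizer ({z} : Set G)) →* Spor.Co1) (g' : Co0) :
    ↥(Subgroup.centralizer ({z} : Set G)) →* Spor.Co1 :=
  (MulAut.conj (QuotientGroup.mk g' : Spor.Co1)⁻¹).toMonoidHom.comp π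

theorem twistHom_apply {z : G} (π : ↥(Subgroup.centralizer ({z} : Set G)) →* Spor.Co1) (g' : Co0)
    (h : ↥(Subgroup.centralizer ({z} : Set G))) (g : Co0) :
    twistHom π g' h = QuotientGroup.mk g ↔ π h = (QuotientGroup.mk (g' * g * g'⁻¹) : Spor.Co1) := by
  show (QuotientGroup.mk g' : Spor.Co1)⁻¹ * π h * (QuotientGroup.mk g' : Spor.Co1)⁻¹⁻¹ = _ ↔ _
  rw [QuotientGroup.mk_mul, QuotientGroup.mk_mul, QuotientGroup.mk_inv, inv_inv]
  constructor
  · intro e; rw [← e]; group
  · intro e; rw [e]; group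

/-- Coordinates transported by an automorphism of the lattice. -/
theorem twist {z : G} {Q : Subgroup G} {π : ↥(Subgroup.centralizer ({z} : Set G)) →* Spor.Co1}
    {θ : leechLattice → G} (H : Hyp z Q π θ) (g' : Co0) :
    Hyp z Q (twistHom π g') (fun v => θ (g' • v)) where
  hz := H.hz
  S := H.S
  le := H.le
  card := H.card
  surj := fun x => by
    obtain ⟨h, hh⟩ := H.surj ((QuotientGroup.mk g' : Spor.Co1) * x * (QuotientGroup.mk g' : Spor.Co1)⁻¹)
    refine ⟨h, ?_⟩
    show (QuotientGroup.mk g' : Spor.Co1)⁻¹ * π h * (QuotientGroup.mk g' : Spor.Co1)⁻¹⁻¹ = x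
    rw [hh]; group
  ker := fun h => by
    rw [← H.ker h]
    show (MulAut.conj (QuotientGroup.mk g' : Spor.Co1)⁻¹) (π h) = 1 ↔ _
    exact MulEquiv.map_eq_one_iff _
  mem := fun v => H.mem _
  cover := fun q hq => by
    obtain ⟨v, hv⟩ := H.cover q hq
    exact ⟨g'⁻¹ • v, by simpa only [smul_inv_smul] using hv⟩
  add := fun v w => by rw [smul_add']; exact H.add _ _
  zero := fun v => by
    rw [H.zero]
    constructor
    · intro h
      have := h.smul g'⁻¹
      rwa [inv_smul_smul, smul_zero'] at this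
    · intro h
      have := h.smul g'
      rwa [smul_zero'] at this
  equiv := fun h g hg v => by
    have h1 := H.equiv h _ ((twistHom_apply π g' h g).1 hg) (g' • v)
    rwa [← mul_smul, inv_mul_cancel_right, mul_smul] at h1
  nwc := H.nwc

/-- Coordinates in which a given conjugate of `z` in `Q` is in the class of the standard frame. -/
theorem normal_frame [Finite G] {z : G} {Q : Subgroup G} {π : ↥(Subgroup.centralizer ({z} : Set G)) →* Spor.Co1}
    {θ : leechLattice → G} (H : Hyp z Q π θ) {s : G} (hsQ : s ∈ Q) (hs : IsConj z s) (hs1 : s ≠ z) :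
    ∃ (π' : ↥(Subgroup.centralizer ({z} : Set G)) →* Spor.Co1) (θ' : leechLattice → G),
      Hyp z Q π' θ' ∧ Cls z θ' s (eightVec none) := by
  obtain ⟨v, hv, h64⟩ := H.class_of_conj hsQ hs hs1
  obtain ⟨g', hg'⟩ := Orbits.transitive64 (eightVec none) v (sqNorm_eightVec none) h64
  refine ⟨_, _, twist H g', ?_⟩
  show s = θ (g' • eightVec none) ∨ s = θ (g' • eightVec none) * z
  rw [hg']; exact hv

theorem not_cong_eight : ¬ Cong (eightVec none) 0 :=
  not_cong_zero (fun e => by
    have := sqNorm_eightVec none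
    rw [e] at this
    simp [sqNorm] at this) (sqNorm_eightVec none).le

theorem card_monoSub : Nat.card monoSub = 4096 * Nat.card M24 := by
  show Nat.card {g : Co0 // StdStab g} = _
  have h : Nat.card (Set.range monoMap) = Nat.card {g : Co0 // StdStab g} := by
    rw [range_monoMap]; rfl
  rw [← h, Nat.card_range_of_injective monoMap_injective, Nat.card_prod, Golay.card_golay]
  ring

/-- The joint centralizer of `z` and `s`. -/
theorem pair_centralizer (z s : G) : Subgroup.centralizer ({z, s} : Set G) =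
    Subgroup.centralizer ({z} : Set G) ⊓ Subgroup.centralizer ({s} : Set G) := by
  ext x
  simp [Subgroup.mem_centralizer_iff]

/-- The element with which `B` is generated, with its normal form. -/
theorem normal_sylow [Finite G] {z : G} {Q : Subgroup G} {π : ↥(Subgroup.centralizer ({z} : Set G)) →* Spor.Co1}
    {θ : leechLattice → G} (H : Hyp z Q π θ) {s : G} (hsQ : s ∈ Q) (hs : IsConj z s) (hs1 : s ≠ z)
    (hcls : Cls z θ s (eightVec none)) {p : ℕ} [Fact p.Prime] (hp : p ≠ 2)
    (hM : (Nat.card M24).factorization p = 1) {t : Co0} (htm : t ∈ monoSub) (hto : orderOf t = p)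
    {B : Subgroup G} (hB : B ≤ Subgroup.centralizer ({z, s} : Set G))
    (hBp : Nat.card B = p ^ (Nat.card ↥(Subgroup.centralizer ({z, s} : Set G))).factorization p) :
    (Nat.card ↥(Subgroup.centralizer ({z, s} : Set G))).factorization p = 1 ∧
    ∃ (π' : ↥(Subgroup.centralizer ({z} : Set G)) →* Spor.Co1) (θ' : leechLattice → G) (b : G)
      (hb : b ∈ Subgroup.centralizer ({z} : Set G)),
      Hyp z Q π' θ' ∧ Cls z θ' s (eightVec none) ∧ orderOf b = p ∧ B = Subgroup.zpowers b ∧
        π' ⟨b, hb⟩ = (QuotientGroup.mk t : Spor.Co1) := by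
  classical
  have hp' := (Fact.out : p.Prime)
  set L := Subgroup.centralizer ({z, s} : Set G) with hL
  have hLz : L ≤ Subgroup.centralizer ({z} : Set G) := by rw [hL, pair_centralizer]; exact inf_le_left
  let f : ↥L →* Spor.Co1 := π.comp (Subgroup.inclusion hLz)
  have hrange : f.range = Hyp.xImage π s := by
    rw [MonoidHom.range_comp, Subgroup.inclusion_range, hL, pair_centralizer]
    rfl
  have hker : Nat.card f.ker = 2 ^ 24 := by
    obtain ⟨g, hg⟩ := isConj_iff.1 hs
    rw [← H.card_cent (g := g) (hg ▸ hsQ) (hg ▸ hs1), hg]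
    refine Nat.card_congr
      { toFun := fun a => ⟨((a : ↥L) : G), (H.ker _).1 a.2, ?_⟩
        invFun := fun a => ⟨⟨(a : G), ?_⟩, (H.ker _).2 a.2.1⟩
        left_inv := fun a => rfl
        right_inv := fun a => rfl }
    · exact ((pair_centralizer z s).le (a : ↥L).2).2
    · exact (pair_centralizer z s).ge ⟨H.le a.2.1, a.2.2⟩
  have hX : 2 * Nat.card f.range = 4096 * Nat.card M24 := by
    rw [hrange, ← card_monoSub, ← classStab_eightVec, ← H.xImage_comap hcls not_cong_eight]
    have h1 := Subgroup.card_mul_index ((Hyp.xImage π s).comap (QuotientGroup.mk' (Subgroup.center Co0)))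
    rw [Subgroup.index_comap_of_surjective _ (QuotientGroup.mk'_surjective _)] at h1
    have h2 := Subgroup.card_mul_index (Hyp.xImage π s)
    have h3 : Nat.card Co0 = 2 * Nat.card Spor.Co1 := by
      have h := Subgroup.card_eq_card_quotient_mul_card_subgroup (Subgroup.center Co0)
      rw [card_center] at h
      rw [h, mul_comm]
    rw [h3, ← h2, ← mul_assoc] at h1
    exact (Nat.eq_of_mul_eq_mul_right (Nat.pos_of_ne_zero Subgroup.index_ne_zero_of_finite) h1).symm
  have hLcard : Nat.card L = 2 ^ 35 * Nat.card M24 := by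
    rw [← Subgroup.card_mul_index f.ker, Subgroup.index_ker, hker]
    have : Nat.card f.range = 2048 * Nat.card M24 := by omega
    rw [this]; ring
  have h2p : ∀ k, (2 ^ k).factorization p = 0 := fun k => by
    rw [Nat.Prime.factorization_pow Nat.prime_two, Finsupp.single_eq_of_ne hp]
  have hLf : (Nat.card L).factorization p = 1 := by
    rw [hLcard, Nat.factorization_mul (by norm_num) Nat.card_pos.ne', Finsupp.add_apply, h2p, hM]
  have hMf : (Nat.card monoSub).factorization p = 1 := by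
    rw [card_monoSub, show 4096 = 2 ^ 12 by norm_num, Nat.factorization_mul (by norm_num) Nat.card_pos.ne',
      Finsupp.add_apply, h2p, hM]
  refine ⟨hLf, ?_⟩
  rw [hLf, pow_one] at hBp
  obtain ⟨b₀, hb₀B, hb₀⟩ : ∃ b ∈ B, b ≠ 1 := by
    by_contra h
    push Not at h
    have : Nat.card B = 1 := Subgroup.card_eq_one.2 ((Subgroup.eq_bot_iff_forall B).2 h)
    rw [hBp] at this
    exact hp'.one_lt.ne' this
  have hord : orderOf b₀ = p := by
    have h1 : orderOf b₀ ∣ p := hBp ▸ Subgroup.orderOf_dvd_natCard B hb₀B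
    exact ((Nat.dvd_prime hp').1 h1).resolve_left fun e => hb₀ (orderOf_eq_one_iff.1 e)
  have hb₀z : b₀ ∈ Subgroup.centralizer ({z} : Set G) := hLz (hB hb₀B)
  have hne : π ⟨b₀, hb₀z⟩ ≠ 1 := fun e => by
    obtain ⟨k, hk⟩ := H.S.two ⟨b₀, (H.ker _).1 e⟩
    have hk' : b₀ ^ 2 ^ k = 1 := congrArg Subtype.val hk
    have := orderOf_dvd_of_pow_eq_one hk'
    rw [hord] at this
    exact hp ((Nat.prime_dvd_prime_iff_eq hp' Nat.prime_two).1 (hp'.dvd_of_dvd_pow this))
  obtain ⟨β₀, hβ₀⟩ := QuotientGroup.mk'_surjective (Subgroup.center Co0) (π ⟨b₀, hb₀z⟩)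
  have hβm : β₀ ∈ monoSub := by
    rw [← classStab_eightVec, ← H.mem_xImage hcls not_cong_eight]
    refine ⟨⟨b₀, hb₀z⟩, ?_, hβ₀.symm⟩
    exact (pair_centralizer z s).le (hB hb₀B)
  have hpp : (π ⟨b₀, hb₀z⟩) ^ p = 1 := by
    rw [← map_pow, show (⟨b₀, hb₀z⟩ : ↥(Subgroup.centralizer ({z} : Set G))) ^ p = 1 from
      Subtype.ext (by rw [SubgroupClass.coe_pow, ← hord, pow_orderOf_eq_one, OneMemClass.coe_one]), map_one]
  have hc : β₀ ^ p ∈ Subgroup.center Co0 := by
    rw [← QuotientGroup.eq_one_iff, QuotientGroup.mk_pow]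
    rw [QuotientGroup.mk'_apply] at hβ₀
    rw [hβ₀, hpp]
  set β := β₀ ^ (p + 1) with hβ
  have hβp : β ^ p = 1 := by
    rw [hβ, ← pow_mul, mul_comm, pow_mul]
    obtain ⟨m, hm⟩ : 2 ∣ p + 1 := by
      have := hp'.eq_two_or_odd.resolve_left hp
      omega
    rw [hm, pow_mul]
    have : β₀ ^ p ∈ ({1, negEl} : Set Co0) := by rw [← center_eq]; exact hc
    rcases this with h | h
    · rw [h, one_pow, one_pow]
    · rw [Set.mem_singleton_iff] at h
      rw [h, pow_two, sq_negEl, one_pow]
  have hβπ : (QuotientGroup.mk β : Spor.Co1) = π ⟨b₀, hb₀z⟩ := by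
    rw [QuotientGroup.mk'_apply] at hβ₀
    rw [hβ, QuotientGroup.mk_pow, hβ₀, pow_succ, hpp, one_mul]
  have hβord : orderOf β = p := orderOf_eq_prime hβp fun e => hne (by rw [← hβπ, e, QuotientGroup.mk_one])
  obtain ⟨g'', hg'', k, hk⟩ := conj_sylow_elem p htm (pow_mem hβm _ : β ∈ monoSub) hto hβord hMf
  refine ⟨twistHom π g'', fun v => θ (g'' • v), b₀ ^ k, pow_mem hb₀z k, twist H g'', ?_, ?_, ?_, ?_⟩
  · exact H.cls_of_cong hcls (by
      rw [← classStab_eightVec, mem_classStab] at hg''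
      exact hg''.symm)
  · rw [Nat.Coprime.orderOf_pow, hord]
    rw [hord]
    refine (hp'.coprime_iff_not_dvd).2 ?_
    rintro ⟨c, rfl⟩
    rw [pow_mul, hβp, one_pow, mul_inv_eq_one, mul_eq_left] at hk
    rw [hk, orderOf_one] at hto
    exact hp'.one_lt.ne hto
  · refine (Subgroup.eq_of_le_of_card_ge ((Subgroup.zpowers_le).2 (pow_mem hb₀B k)) ?_).symm
    rw [Nat.card_zpowers, hBp, Nat.Coprime.orderOf_pow, hord]
    rw [hord]
    refine (hp'.coprime_iff_not_dvd).2 ?_
    rintro ⟨c, rfl⟩
    rw [pow_mul, hβp, one_pow, mul_inv_eq_one, mul_eq_left] at hk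
    rw [hk, orderOf_one] at hto
    exact hp'.one_lt.ne hto
  · rw [twistHom_apply, hk, QuotientGroup.mk_pow, hβπ, ← map_pow]
    rfl

end CfsgLib.MonsterType
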