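import Cfsg.Agent.Lib.MonsterType.Normal
import Cfsg.Agent.Lib.MonsterType.Words
import Cfsg.Agent.Lib.M24Elt.Smul
import Cfsg.Agent.Lib.M24Elt.Centralisers
import Cfsg.Agent.Lib.M24Elt.Classes

/-! Elements of order three of the joint centralizer that are central in no Sylow 3-subgroup. -/

set_option autoImplicit false
set_option linter.style.haveILetI false

namespace CfsgLib.MonsterType

open Cfsg CfsgLib CfsgLib.Leech CfsgLib.MonsterQ
open CfsgLib.Comp

/-- Signed permutations without signs, as a homomorphism. -/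
noncomputable def permHom : ↥M24 →* Co0 :=
  MonoidHom.mk' (fun a => monoEl (a : Equiv.Perm GolayPt)⁻¹ (inv_mem a.2) 0 (zero_mem _)) fun a b => by
    rw [monoEl_mul]
    exact monoEl_congr (by simp) (by funext p; simp)

theorem permHom_mem (a : ↥M24) : permHom a ∈ monoSub := monoEl_mem_monoSub (inv_mem a.2) (zero_mem _)

theorem permHom_injective : Function.Injective permHom := fun a b h => by
  have e := monoMap_injective (a₁ := (⟨_, inv_mem a.2⟩, 0)) (a₂ := (⟨_, inv_mem b.2⟩, 0)) h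
  exact Subtype.ext (inv_injective (congrArg (fun p => ((p.1 : M24) : Equiv.Perm GolayPt)) e))

theorem central_check : (M24Elt.ClassData.syl3Gens.all fun s =>
    M24Elt.good s && M24Elt.eqc (PermCode.mul 24 s M24Elt.ClassData.rep3_6) (PermCode.mul 24 M24Elt.ClassData.rep3_6 s)) =
    true := by
  decide +kernel

/-- The normal form of a signed permutation of order three. -/
theorem mono_three {β : Co0} (hβ : β ∈ monoSub) (hord : orderOf β = 3) {R : Equiv.Perm GolayPt} (hR : R ∈ M24)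
    (hR0 : R = M24Elt.pm M24Elt.ClassData.rep3_0) :
    (∃ g ∈ monoSub, g * β * g⁻¹ = monoEl R hR 0 (zero_mem _)) ∨
      ∃ T : Subgroup Co0, T ≤ monoSub ∧ Nat.card T = 27 ∧ ∀ a ∈ T, a * β = β * a := by
  obtain ⟨τ, hτ, c, hc, rfl⟩ := exists_mono_of_stdStab hβ
  have h3 := pow_orderOf_eq_one (monoEl τ hτ c hc)
  rw [hord, pow_succ, pow_two, monoEl_mul, monoEl_mul, ← monoEl_one] at h3
  have e := monoMap_injective (a₁ := (⟨_, mul_mem hτ (mul_mem hτ hτ)⟩, ⟨_, golayCode.add_mem
    (golayCode.add_mem hc (mem_supports_comp hτ hc)) (mem_supports_comp (mul_mem hτ hτ) hc)⟩))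
    (a₂ := (⟨1, one_mem _⟩, 0)) h3
  have e1 : τ * (τ * τ) = 1 := congrArg (fun p => ((p.1 : M24) : Equiv.Perm GolayPt)) e
  have e2 : c + c ∘ τ + c ∘ ⇑(τ * τ) = 0 := congrArg (fun p => ((p.2 : golayCode) : GolayPt → ZMod 2)) e
  set d : GolayPt → ZMod 2 := c ∘ τ with hd
  have hdc : d ∈ golayCode := mem_supports_comp hτ hc
  set σ := monoEl 1 (one_mem _) d hdc with hσ
  have hσσ : σ * σ = 1 := by
    rw [hσ, monoEl_mul, ← monoEl_one]
    refine monoEl_congr (mul_one _) (funext fun p => ?_)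
    simp only [Pi.add_apply, Function.comp_apply, Equiv.Perm.one_apply, Pi.zero_apply]
    exact CharTwo.add_self_eq_zero _
  have hσi : σ⁻¹ = σ := inv_eq_of_mul_eq_one_right hσσ
  have hconj : σ * monoEl τ hτ c hc * σ⁻¹ = monoEl τ hτ 0 (zero_mem _) := by
    rw [hσi, hσ, monoEl_mul, monoEl_mul]
    refine monoEl_congr (by rw [one_mul, mul_one]) (funext fun p => ?_)
    have := congrFun e2 p
    simp only [hd, Pi.add_apply, Function.comp_apply, Equiv.Perm.mul_apply, Pi.zero_apply, Equiv.Perm.one_apply,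
      mul_one] at this ⊢
    rw [← this]; ring
  have hτord : orderOf τ = 3 := by
    haveI : Fact (Nat.Prime 3) := ⟨Nat.prime_three⟩
    refine orderOf_eq_prime (by rw [pow_succ, pow_two, mul_assoc]; exact e1) fun hτ1 => ?_
    subst hτ1
    have h1 : σ * monoEl 1 hτ c hc * σ⁻¹ = 1 := hconj.trans monoEl_one
    rw [conj_eq_one_iff] at h1
    rw [h1, orderOf_one] at hord
    norm_num at hord
  have hσm : σ ∈ monoSub := monoEl_mem_monoSub _ _
  have hφ : monoEl τ hτ 0 (zero_mem _) = permHom ⟨τ, hτ⟩⁻¹ := by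
    show _ = monoEl (τ⁻¹)⁻¹ (inv_mem (inv_mem hτ)) 0 (zero_mem _)
    exact monoEl_congr (inv_inv τ).symm rfl
  rcases M24Elt.three_class hτ hτord with ⟨-, u, hu, hue⟩ | ⟨-, u, hu, hue⟩
  · right
    let S : Subgroup ↥M24 :=
      ((M24Elt.spanPts M24Elt.ClassData.syl3Gens).map (MulAut.conj u).toMonoidHom).subgroupOf M24
    have hle : (M24Elt.spanPts M24Elt.ClassData.syl3Gens).map (MulAut.conj u).toMonoidHom ≤ M24 := by
      rintro _ ⟨a, ha, rfl⟩
      exact mul_mem (mul_mem hu (M24Elt.spanPts_le_M24 M24Elt.gens_goods.2 ha)) (inv_mem hu)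
    refine ⟨(S.map permHom).map (MulAut.conj σ).toMonoidHom, ?_, ?_, ?_⟩
    · rintro _ ⟨_, ⟨a, -, rfl⟩, rfl⟩
      exact mul_mem (mul_mem hσm (permHom_mem a)) (inv_mem hσm)
    · rw [Subgroup.card_map_of_injective (f := (MulAut.conj σ).toMonoidHom) (MulAut.conj σ).injective,
        Subgroup.card_map_of_injective (f := permHom) permHom_injective,
        Nat.card_congr (Subgroup.subgroupOfEquivOfLe hle).toEquiv,
        Subgroup.card_map_of_injective (f := (MulAut.conj u).toMonoidHom) (MulAut.conj u).injective,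
        M24Elt.card_spanPts, M24Elt.ClassData.syl3_card]
    · rintro _ ⟨_, ⟨a, ha, rfl⟩, rfl⟩
      obtain ⟨a₀, ha₀, hae⟩ := Subgroup.mem_subgroupOf.1 ha
      have hcm := (M24Elt.mem_cz.1 (M24Elt.spanPts_le_cz (M24Elt.good_ok M24Elt.rep_goods.2.2.1) central_check ha₀)).2
      have hat : a * ⟨τ, hτ⟩ = ⟨τ, hτ⟩ * a := Subtype.ext (by
        show (a : Equiv.Perm GolayPt) * τ = τ * a
        rw [← hae, ← hue]
        show u * a₀ * u⁻¹ * (u * _ * u⁻¹) = u * _ * u⁻¹ * (u * a₀ * u⁻¹)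
        rw [show ∀ x y : Equiv.Perm GolayPt, u * x * u⁻¹ * (u * y * u⁻¹) = u * (x * y) * u⁻¹ from
          fun x y => by group, hcm]
        group)
      have hpa : permHom a * monoEl τ hτ 0 (zero_mem _) = monoEl τ hτ 0 (zero_mem _) * permHom a := by
        rw [hφ, ← map_mul, ← map_mul, ((show Commute a ⟨τ, hτ⟩ from hat).inv_right).eq]
      have hb : monoEl τ hτ c hc = σ⁻¹ * monoEl τ hτ 0 (zero_mem _) * σ := by rw [← hconj]; group
      show σ * permHom a * σ⁻¹ * monoEl τ hτ c hc = monoEl τ hτ c hc * (σ * permHom a * σ⁻¹)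
      rw [hb, hσi]
      calc σ * permHom a * σ * (σ * monoEl τ hτ 0 (zero_mem _) * σ)
          = σ * permHom a * (σ * σ) * monoEl τ hτ 0 (zero_mem _) * σ := by group
        _ = σ * (permHom a * monoEl τ hτ 0 (zero_mem _)) * σ := by rw [hσσ]; group
        _ = σ * monoEl τ hτ 0 (zero_mem _) * (σ * σ) * permHom a * σ := by rw [hpa, hσσ]; group
        _ = σ * monoEl τ hτ 0 (zero_mem _) * σ * (σ * permHom a * σ) := by group
  · left
    refine ⟨(permHom ⟨u, hu⟩)⁻¹ * σ, mul_mem (inv_mem (permHom_mem _)) hσm, ?_⟩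
    rw [mul_inv_rev, show (permHom ⟨u, hu⟩)⁻¹ * σ * monoEl τ hτ c hc * (σ⁻¹ * (permHom ⟨u, hu⟩)⁻¹⁻¹) =
      (permHom ⟨u, hu⟩)⁻¹ * (σ * monoEl τ hτ c hc * σ⁻¹) * permHom ⟨u, hu⟩ by group, hconj, hφ,
      ← map_inv, ← map_mul, ← map_mul]
    show monoEl (u⁻¹ * τ⁻¹ * u)⁻¹ (inv_mem (mul_mem (mul_mem (inv_mem hu) (inv_mem hτ)) hu)) 0 (zero_mem _) = _
    refine monoEl_congr ?_ rfl
    rw [hR0, ← hue]
    group

variable {G : Type*} [Group G]

/-- Nothing of order 27 in `L` centralizes the element. -/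
def NotCentral (L : Subgroup G) (y : G) : Prop :=
  ∀ P : Subgroup G, P ≤ L → Nat.card P = 27 → y ∈ P → ¬ ∀ q ∈ P, q * y = y * q

variable {z : G} {Q : Subgroup G} {π : ↥(Subgroup.centralizer ({z} : Set G)) →* Spor.Co1}
  {θ : leechLattice → G}

/-- The facts about the joint centralizer. -/
theorem pair_facts [Finite G] (H : Hyp z Q π θ) {s : G} (hsQ : s ∈ Q) (hs : IsConj z s) (hs1 : s ≠ z)
    (hcls : Cls z θ s (eightVec none)) (hLz : Subgroup.centralizer ({z, s} : Set G) ≤ Subgroup.centralizer ({z} : Set G)) :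
    Nat.card ↥(π.comp (Subgroup.inclusion hLz)).ker = 2 ^ 24 ∧
    Nat.card ↥(Subgroup.centralizer ({z, s} : Set G)) = 2 ^ 35 * Nat.card M24 ∧
    ∀ g : Co0, g ∈ monoSub ↔ ∃ l : ↥(Subgroup.centralizer ({z, s} : Set G)),
      π (Subgroup.inclusion hLz l) = (QuotientGroup.mk g : Spor.Co1) := by
  classical
  let f : ↥(Subgroup.centralizer ({z, s} : Set G)) →* Spor.Co1 := π.comp (Subgroup.inclusion hLz)
  have hrange : f.range = Hyp.xImage π s := by
    rw [MonoidHom.range_comp, Subgroup.inclusion_range, pair_centralizer]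
    rfl
  have hker : Nat.card f.ker = 2 ^ 24 := by
    obtain ⟨g, hg⟩ := isConj_iff.1 hs
    rw [← H.card_cent (g := g) (hg ▸ hsQ) (hg ▸ hs1), hg]
    refine Nat.card_congr
      { toFun := fun a => ⟨((a : ↥(Subgroup.centralizer ({z, s} : Set G))) : G), (H.ker _).1 a.2, ?_⟩
        invFun := fun a => ⟨⟨(a : G), ?_⟩, (H.ker _).2 a.2.1⟩
        left_inv := fun a => rfl
        right_inv := fun a => rfl }
    · exact ((pair_centralizer z s).le (a : ↥(Subgroup.centralizer ({z, s} : Set G))).2).2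
    · exact (pair_centralizer z s).ge ⟨H.le a.2.1, a.2.2⟩
  have hX : 2 * Nat.card f.range = 4096 * Nat.card M24 := by
    rw [hrange, ← card_monoSub, ← classStab_eightVec, ← H.xImage_comap hcls not_cong_eight]
    have h1 := Subgroup.card_mul_index ((Hyp.xImage π s).comap (QuotientGroup.mk' (Subgroup.center Co0)))
    rw [Subgroup.index_comap_of_surjective _ (QuotientGroup.mk'_surjective _)] at h1
    have h2 := Subgroup.card_mul_index (Hyp.xImage π s)
    have h3 : Nat.card Co0 = 2 * Nat.card Spor.Co1 := by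
      have h := Subgroup.card_eq_card_quotient_mul_card_subgroup (Subgroup.center Co0)
      rw [card_center] at h
      rw [h, mul_comm]
    rw [h3, ← h2, ← mul_assoc] at h1
    exact (Nat.eq_of_mul_eq_mul_right (Nat.pos_of_ne_zero Subgroup.index_ne_zero_of_finite) h1).symm
  refine ⟨hker, ?_, fun g => ?_⟩
  · rw [← Subgroup.card_mul_index f.ker, Subgroup.index_ker, hker]
    have : Nat.card f.range = 2048 * Nat.card M24 := by omega
    rw [this]; ring
  · rw [← classStab_eightVec, ← H.mem_xImage hcls not_cong_eight, ← hrange]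
    exact MonoidHom.mem_range

theorem three_fact : (Nat.card M24).factorization 3 = 3 := by
  rw [Golay.card_M24, show (244823040 : ℕ) = 3 ^ 3 * 9067520 by norm_num,
    Nat.factorization_mul (by norm_num) (by norm_num), Finsupp.add_apply, Nat.Prime.factorization_pow Nat.prime_three,
    Finsupp.single_eq_same, Nat.factorization_eq_zero_of_not_dvd (by norm_num)]

theorem card_L_three [Finite G] (H : Hyp z Q π θ) {s : G} (hsQ : s ∈ Q) (hs : IsConj z s) (hs1 : s ≠ z)
    (hcls : Cls z θ s (eightVec none)) :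
    (Nat.card ↥(Subgroup.centralizer ({z, s} : Set G))).factorization 3 = 3 := by
  have hLz : Subgroup.centralizer ({z, s} : Set G) ≤ Subgroup.centralizer ({z} : Set G) := by
    rw [pair_centralizer]; exact inf_le_left
  rw [(pair_facts H hsQ hs hs1 hcls hLz).2.1, Nat.factorization_mul (by norm_num) Nat.card_pos.ne',
    Finsupp.add_apply, Nat.Prime.factorization_pow Nat.prime_two, Finsupp.single_eq_of_ne (by norm_num), three_fact]

/-- An element of order three central in no Sylow subgroup is conjugate into the standard form. -/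
theorem exists_normal_three [Finite G] (H : Hyp z Q π θ) {s : G} (hsQ : s ∈ Q) (hs : IsConj z s) (hs1 : s ≠ z)
    (hcls : Cls z θ s (eightVec none)) {R : Equiv.Perm GolayPt} (hR : R ∈ M24)
    (hR0 : R = M24Elt.pm M24Elt.ClassData.rep3_0) {y : G} (hy : y ∈ Subgroup.centralizer ({z, s} : Set G))
    (hord : orderOf y = 3) (hnc : NotCentral (Subgroup.centralizer ({z, s} : Set G)) y) :
    ∃ l ∈ Subgroup.centralizer ({z, s} : Set G), ∃ hl : l * y * l⁻¹ ∈ Subgroup.centralizer ({z} : Set G),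
      π ⟨l * y * l⁻¹, hl⟩ = (QuotientGroup.mk (monoEl R hR 0 (zero_mem _)) : Spor.Co1) := by
  classical
  haveI : Fact (Nat.Prime 3) := ⟨Nat.prime_three⟩
  set L := Subgroup.centralizer ({z, s} : Set G) with hL
  have hLz : L ≤ Subgroup.centralizer ({z} : Set G) := by rw [hL, pair_centralizer]; exact inf_le_left
  obtain ⟨hker, -, hmem⟩ := pair_facts H hsQ hs hs1 hcls hLz
  let f : ↥L →* Spor.Co1 := π.comp (Subgroup.inclusion hLz)
  set yL : ↥L := ⟨y, hy⟩ with hyL
  have hordL : orderOf yL = 3 := by rw [← hord, ← Subgroup.orderOf_coe]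
  have hkil : ∀ x : ↥L, f x = 1 → ∀ k, x ^ 3 ^ k = 1 → x = 1 := by
    intro x hx k hk
    obtain ⟨m, hm⟩ := H.S.two ⟨(x : G), (H.ker _).1 hx⟩
    have hm' : (x : G) ^ 2 ^ m = 1 := congrArg Subtype.val hm
    have hk' : (x : G) ^ 3 ^ k = 1 := congrArg Subtype.val hk
    refine Subtype.ext (orderOf_eq_one_iff.1 (Nat.eq_one_of_dvd_coprimes (a := 2 ^ m) (b := 3 ^ k)
      (Nat.Coprime.pow _ _ (by norm_num)) (orderOf_dvd_of_pow_eq_one hm') (orderOf_dvd_of_pow_eq_one hk')))
  obtain ⟨β₀, hβ₀⟩ := QuotientGroup.mk'_surjective (Subgroup.center Co0) (f yL)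
  rw [QuotientGroup.mk'_apply] at hβ₀
  have hβm : β₀ ∈ monoSub := (hmem β₀).2 ⟨yL, hβ₀.symm⟩
  have hpp : f yL ^ 3 = 1 := by rw [← map_pow, ← hordL, pow_orderOf_eq_one, map_one]
  set β := β₀ ^ 4 with hβ
  have hβπ : (QuotientGroup.mk β : Spor.Co1) = f yL := by
    rw [hβ, QuotientGroup.mk_pow, hβ₀, pow_succ, hpp, one_mul]
  have hβp : β ^ 3 = 1 := by
    rw [hβ, ← pow_mul, show 4 * 3 = 3 * 4 by norm_num, pow_mul]
    have hc : β₀ ^ 3 ∈ ({1, negEl} : Set Co0) := by
      rw [← center_eq]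
      exact (QuotientGroup.eq_one_iff _).1 (by rw [QuotientGroup.mk_pow, hβ₀, hpp])
    rcases hc with h | h
    · rw [h, one_pow]
    · rw [Set.mem_singleton_iff] at h
      rw [h, show 4 = 2 * 2 by norm_num, pow_mul, show negEl ^ 2 = (1 : Co0) by rw [pow_two, sq_negEl], one_pow]
  have hβord : orderOf β = 3 := orderOf_eq_prime hβp fun e => by
    have h1 : yL = 1 := hkil yL (by rw [← hβπ, e, QuotientGroup.mk_one]) 1
      (by rw [pow_one, ← hordL, pow_orderOf_eq_one])
    rw [h1, orderOf_one] at hordL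
    norm_num at hordL
  rcases mono_three (pow_mem hβm _ : β ∈ monoSub) hβord hR hR0 with ⟨g, hg, hge⟩ | ⟨T, hTm, hT27, hTc⟩
  · obtain ⟨l, hl⟩ := (hmem g).1 hg
    refine ⟨l, l.2, hLz (mul_mem (mul_mem l.2 hy) (inv_mem l.2)), ?_⟩
    show f (l * yL * l⁻¹) = _
    rw [map_mul, map_mul, map_inv, show f l = (QuotientGroup.mk g : Spor.Co1) from hl, ← hβπ,
      ← QuotientGroup.mk_inv, ← QuotientGroup.mk_mul, ← QuotientGroup.mk_mul, hge]
  · exfalso
    set S := T.map (QuotientGroup.mk' (Subgroup.center Co0)) with hS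
    have hinj : ∀ a ∈ T, (QuotientGroup.mk a : Spor.Co1) = 1 → a = 1 := by
      intro a ha h1
      have hc : a ∈ ({1, negEl} : Set Co0) := by rw [← center_eq]; exact (QuotientGroup.eq_one_iff _).1 h1
      rcases hc with h | h
      · exact h
      · rw [Set.mem_singleton_iff] at h
        have hd := Subgroup.orderOf_dvd_natCard T ha
        rw [hT27, h] at hd
        have h2 : orderOf negEl ∣ 2 := orderOf_dvd_of_pow_eq_one (by rw [pow_two, sq_negEl])
        have := Nat.eq_one_of_dvd_coprimes (by norm_num : Nat.Coprime 27 2) hd h2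
        rw [h]; exact orderOf_eq_one_iff.1 this
    have hS27 : Nat.card S = 27 := by
      rw [← hT27]
      refine (Nat.card_congr (Equiv.ofBijective
        (fun a : T => (⟨_, Subgroup.mem_map_of_mem _ a.2⟩ : S)) ⟨fun a b e => ?_, ?_⟩)).symm
      · have e' : (QuotientGroup.mk (a : Co0) : Spor.Co1) = QuotientGroup.mk (b : Co0) := congrArg Subtype.val e
        refine Subtype.ext (mul_inv_eq_one.1 (hinj _ (mul_mem a.2 (inv_mem b.2)) ?_))
        rw [QuotientGroup.mk_mul, QuotientGroup.mk_inv, e', mul_inv_cancel]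
      · rintro ⟨_, a, ha, rfl⟩
        exact ⟨⟨a, ha⟩, rfl⟩
    have hScomm : ∀ x ∈ S, x * f yL = f yL * x := by
      rintro _ ⟨a, ha, rfl⟩
      rw [← hβπ, QuotientGroup.mk'_apply, ← QuotientGroup.mk_mul, ← QuotientGroup.mk_mul, hTc a ha]
    -- enlarge by the element itself
    set S' : Subgroup Spor.Co1 := S ⊔ Subgroup.zpowers (f yL)
    have hS'c : ∀ x ∈ S', x * f yL = f yL * x := by
      have hle : S' ≤ Subgroup.centralizer ({f yL} : Set Spor.Co1) := sup_le
        (fun x hx => Subgroup.mem_centralizer_singleton_iff.2 (hScomm x hx))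
        ((Subgroup.zpowers_le).2 (Subgroup.mem_centralizer_singleton_iff.2 rfl))
      exact fun x hx => Subgroup.mem_centralizer_singleton_iff.1 (hle hx)
    set W : Subgroup ↥L := S'.comap f with hW
    have hyW : Subgroup.zpowers yL ≤ W :=
      (Subgroup.zpowers_le).2 (Subgroup.mem_comap.2 ((le_sup_right : _ ≤ S') (Subgroup.mem_zpowers _)))
    have hSf : S ≤ f.range := by
      rintro _ ⟨a, ha, rfl⟩
      obtain ⟨l, hl⟩ := (hmem a).1 (hTm ha)
      exact ⟨l, hl⟩
    have h27 : 27 ∣ Nat.card W := by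
      have h1 : 27 ∣ Nat.card ↥(S.comap f) := by
        have e : (S.comap f).map f = S := Subgroup.map_comap_eq_self hSf
        have hh := Subgroup.card_map_dvd (S.comap f) f
        rwa [e, hS27] at hh
      exact h1.trans (Subgroup.card_dvd_of_le (Subgroup.comap_mono le_sup_left))
    have hpg : IsPGroup 3 ↥((Subgroup.zpowers yL).subgroupOf W) :=
      IsPGroup.of_card (n := 1) (by
        rw [Nat.card_congr (Subgroup.subgroupOfEquivOfLe hyW).toEquiv, Nat.card_zpowers, hordL, pow_one])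
    obtain ⟨P, hP⟩ := hpg.exists_le_sylow
    obtain ⟨n, hn⟩ := P.2.exists_card_eq
    set PG : Subgroup G := ((P : Subgroup W).map W.subtype).map L.subtype with hPG
    have hPle : PG ≤ L := by rintro _ ⟨a, -, rfl⟩; exact a.2
    have hcardPG : Nat.card PG = 3 ^ n := by
      rw [hPG, Subgroup.card_map_of_injective L.subtype_injective,
        Subgroup.card_map_of_injective W.subtype_injective, hn]
    have hn3 : n = 3 := by
      refine le_antisymm ?_ ?_
      · have hd : 3 ^ n ∣ Nat.card L := hcardPG ▸ Subgroup.card_dvd_of_le hPle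
        have := (Nat.prime_three.pow_dvd_iff_le_factorization Nat.card_pos.ne').1 hd
        rwa [card_L_three H hsQ hs hs1 hcls] at this
      · have hd : 3 ^ 3 ∣ Nat.card (P : Subgroup W) := by
          rw [P.card_eq_multiplicity]
          exact pow_dvd_pow 3 ((Nat.prime_three.pow_dvd_iff_le_factorization Nat.card_pos.ne').1 h27)
        rw [hn] at hd
        exact (Nat.pow_dvd_pow_iff_le_right (by norm_num : 1 < 3)).1 hd
    have hyP : y ∈ PG := ⟨yL, ⟨⟨yL, hyW (Subgroup.mem_zpowers _)⟩,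
      hP (Subgroup.mem_zpowers yL : ((⟨yL, hyW (Subgroup.mem_zpowers _)⟩ : W) : ↥L) ∈ Subgroup.zpowers yL), rfl⟩, rfl⟩
    refine hnc PG hPle (by rw [hcardPG, hn3]; norm_num) hyP ?_
    rintro q ⟨qL, ⟨qW, hqP, rfl⟩, rfl⟩
    set c : ↥L := (qW : ↥L) * yL * (qW : ↥L)⁻¹ * yL⁻¹ with hc
    have hcP : ∃ k, c ^ 3 ^ k = 1 := by
      have hyPW : (⟨yL, hyW (Subgroup.mem_zpowers _)⟩ : W) ∈ (P : Subgroup W) :=
        hP (Subgroup.mem_zpowers yL : ((⟨yL, hyW (Subgroup.mem_zpowers _)⟩ : W) : ↥L) ∈ Subgroup.zpowers yL)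
      obtain ⟨k, hk⟩ := P.2 ⟨_, mul_mem (mul_mem (mul_mem hqP hyPW) (inv_mem hqP)) (inv_mem hyPW)⟩
      exact ⟨k, congrArg Subtype.val (congrArg Subtype.val hk)⟩
    obtain ⟨k, hk⟩ := hcP
    have hc1 : c = 1 := hkil c (by
      rw [hc, map_mul, map_mul, map_mul, map_inv, map_inv, hS'c _ qW.2, mul_inv_cancel_right, mul_inv_cancel]) k hk
    rw [hc, mul_inv_eq_one, mul_inv_eq_iff_eq_mul] at hc1
    exact congrArg Subtype.val hc1

/-- An element of the joint centralizer exchanging `z` and `s`, up to the standard normalisation. -/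
theorem exists_exchange [Finite G] (H : Hyp z Q π θ) {s : G} (hsQ : s ∈ Q) (hs : IsConj z s) (hs1 : s ≠ z)
    (hcls : Cls z θ s (eightVec none)) :
    ∃ u : G, u * z * u⁻¹ = s ∧ u * s * u⁻¹ = z := by
  obtain ⟨g, hg⟩ := isConj_iff.1 hs
  subst hg
  obtain ⟨hs'Q, hs'ne⟩ := H.inv_pair hsQ hs1
  obtain ⟨v, hv, hv64⟩ := H.class_of_conj hs'Q (isConj_iff.2 ⟨g⁻¹, rfl⟩) hs'ne
  obtain ⟨h, hh, hhs⟩ := H.conj_of_norm (Or.inr (Or.inr rfl)) hv hcls hv64 (sqNorm_eightVec none)
  have hzc := Subgroup.mem_centralizer_singleton_iff.1 hh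
  refine ⟨h * g⁻¹, ?_, ?_⟩
  · rw [show h * g⁻¹ * z * (h * g⁻¹)⁻¹ = h * (g⁻¹ * z * g⁻¹⁻¹) * h⁻¹ by group, hhs]
  · rw [show h * g⁻¹ * (g * z * g⁻¹) * (h * g⁻¹)⁻¹ = h * z * h⁻¹ by group, hzc, mul_inv_cancel_right]

end CfsgLib.MonsterType
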