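import Cfsg.Agent.Lib.MonsterType.SevenChecks
import Cfsg.Agent.Lib.MonsterType.Quot
import Cfsg.Agent.Lib.Linear.PSL2Seven
import Mathlib.LinearAlgebra.Matrix.ToLin

/-! The centralizer in the automorphism group of the lattice of the element of order seven, and its
action on the fixed classes. -/

set_option autoImplicit false
set_option linter.style.haveILetI false

namespace CfsgLib.MonsterType.Seven

open Cfsg CfsgLib CfsgLib.Leech CfsgLib.MonsterQ CfsgLib.MonsterType
open CfsgLib.Leech.Orbits (vecOf)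
open CfsgLib.Comp
open Matrix

/-- The element of order seven. -/
noncomputable def tt : Co0 := stepEl tS

/-- The representatives of the fixed classes. -/
def rv (k : ℕ) : leechLattice := repAt SevenData.reps k

theorem fixed : FixedClasses tt 7 6 rv := fixed_of_fixB (by norm_num) fix_check

theorem coe_rv {k : ℕ} (hk : k < 64) : (rv k : GolayPt → ℤ) = vecOf (row k) := by
  have h := fix_check
  simp only [fixB, Bool.and_eq_true, List.all_eq_true, List.mem_range] at h
  exact coe_latOf (leechB_of_leechL (h.1.2 k hk).1.1.1.1)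

theorem norm64 {k : ℕ} (hk : k < 64) :
    sqNorm (rv k : GolayPt → ℤ) = 64 ↔ k ≠ 0 ∧ (k < 8 ∨ k % 8 = 0) := by
  have h := frame_check
  simp only [Bool.and_eq_true, List.all_eq_true, List.mem_range] at h
  have h1 := h.2 k hk
  rw [beq_iff_eq] at h1
  rw [sqNorm, coe_rv hk, sum_vecOf _ (fun a => a ^ 2)]
  simp only [pow_two]
  rw [← decide_eq_true_iff (p := (((List.range 24).map fun i => (row k).getD i 0 * (row k).getD i 0).sum = 64)), h1]
  simp only [Bool.and_eq_true, Bool.not_eq_true', Bool.or_eq_true, Nat.blt_eq]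
  constructor
  · rintro ⟨h0, h2⟩
    refine ⟨fun e => by subst e; simp at h0, h2.imp id Nat.eq_of_beq_eq_true⟩
  · rintro ⟨h0, h2⟩
    exact ⟨Bool.eq_false_iff.2 fun e => h0 (Nat.eq_of_beq_eq_true e), h2.imp id fun e => by simp [e]⟩

theorem rv_one_cong : Cong (rv 1) (eightVec none) := by
  have h := frame_check
  simp only [Bool.and_eq_true] at h
  exact cong_of_congB (coe_rv (by norm_num)) (vecOf_unitL none).symm h.1.2

theorem classStab_one : classStab (rv 1) = monoSub := by
  rw [← classStab_eightVec]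
  ext g
  exact ⟨fun h => ((rv_one_cong.smul g).symm.trans h).trans rv_one_cong,
    fun h => ((rv_one_cong.smul g).trans h).trans rv_one_cong.symm⟩

theorem perm_eq : Trans.tblPerm SevenData.tcode = Cfsg.Agent.S5604.R := by
  have h := fix_check
  simp only [fixB, Bool.and_eq_true] at h
  have hT := h.1.1.1
  have hp := perm_check
  simp only [Bool.and_eq_true, List.all_eq_true, List.mem_range] at hp
  have hlt : ∀ i < 24, Trans.img SevenData.tcode i < 24 := by
    intro i hi
    simp only [Trans.okT, Bool.and_eq_true, List.all_eq_true, List.mem_range, Nat.blt_eq] at hT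
    exact hT.1.1 i hi
  refine Equiv.ext fun p => Golay.bit_injective ?_
  rw [Trans.tblPerm_apply hT, Trans.tblFun, Golay.bit_pt (hlt _ (Golay.bit_lt p)), Cfsg.Agent.S5604.R,
    M24Elt.bit_pm (M24Elt.good_ok hp.1), Nat.eq_of_beq_eq_true (hp.2 _ (Golay.bit_lt p))]

theorem R_mem : Cfsg.Agent.S5604.R ∈ M24 := Cfsg.Agent.S5604.R_order.2.2

theorem tt_eq : tt = monoEl Cfsg.Agent.S5604.R R_mem 0 (zero_mem _) := by
  have h := fix_check
  simp only [fixB, Bool.and_eq_true] at h
  rw [tt, tS, stepEl, dif_pos h.1.1.1]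
  refine monoEl_congr perm_eq (funext fun p => ?_)
  simp [Golay.toWord, Golay.comb, Golay.term]

theorem tt_mem : tt ∈ monoSub := tt_eq ▸ monoEl_mem_monoSub _ _

theorem tt_ne_one : tt ≠ 1 := by
  intro e
  rw [tt_eq, ← monoEl_one] at e
  have h := monoMap_injective (a₁ := (⟨_, R_mem⟩, 0)) (a₂ := (⟨1, one_mem _⟩, 0)) e
  have h1 : Cfsg.Agent.S5604.R = 1 := congrArg (fun p => ((p.1 : M24) : Equiv.Perm GolayPt)) h
  have := Cfsg.Agent.S5604.R_order.2.1
  rw [h1, orderOf_one] at this
  norm_num at this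

theorem tt_ord : orderOf tt = 7 := by
  haveI : Fact (Nat.Prime 7) := ⟨Nat.prime_seven⟩
  exact orderOf_eq_prime fixed.pow tt_ne_one

theorem mono_inj {a a' : Equiv.Perm GolayPt} {c c' : GolayPt → ZMod 2} {ha : a ∈ M24} {ha' : a' ∈ M24}
    {hc : c ∈ golayCode} {hc' : c' ∈ golayCode} (h : monoEl a ha c hc = monoEl a' ha' c' hc') : a = a' ∧ c = c' := by
  have e := monoMap_injective (a₁ := (⟨a, ha⟩, ⟨c, hc⟩)) (a₂ := (⟨a', ha'⟩, ⟨c', hc'⟩)) h
  exact ⟨congrArg (fun p => ((p.1 : M24) : Equiv.Perm GolayPt)) e,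
    congrArg (fun p => ((p.2 : golayCode) : GolayPt → ZMod 2)) e⟩

/-- A signed permutation commuting with `tt`: its two parts. -/
theorem mono_comm {g : Co0} (hg : g ∈ monoSub) (hc : g * tt = tt * g) :
    ∃ (τ : Equiv.Perm GolayPt) (hτ : τ ∈ M24) (c : GolayPt → ZMod 2) (hc' : c ∈ golayCode),
      g = monoEl τ hτ c hc' ∧ τ ∈ M24Elt.cz Cfsg.Agent.S5604.R ∧ c ∘ Cfsg.Agent.S5604.R = c := by
  obtain ⟨τ, hτ, c, hc', rfl⟩ := exists_mono_of_stdStab hg
  refine ⟨τ, hτ, c, hc', rfl, ?_⟩
  rw [tt_eq, monoEl_mul, monoEl_mul] at hc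
  obtain ⟨h1, h2⟩ := mono_inj hc
  refine ⟨M24Elt.mem_cz.2 ⟨hτ, h1.symm⟩, ?_⟩
  simp only [Pi.zero_comp, add_zero, zero_add] at h2
  exact h2.symm

/-- No signed permutation inverts `tt`. -/
theorem mono_no_invert {g : Co0} (hg : g ∈ monoSub) (hc : g * tt = tt ^ 6 * g) : False := by
  obtain ⟨τ, hτ, c, hc', rfl⟩ := exists_mono_of_stdStab hg
  set R := Cfsg.Agent.S5604.R with hR
  have hpow : ∀ n : ℕ, tt ^ n = monoEl (R ^ n) (pow_mem R_mem n) 0 (zero_mem _) := by
    intro n
    induction n with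
    | zero => rw [pow_zero, ← monoEl_one]; exact monoEl_congr (pow_zero _).symm rfl
    | succ n ih =>
      rw [pow_succ, ih, tt_eq, monoEl_mul]
      exact monoEl_congr (pow_succ' _ _).symm (funext fun i => by simp)
  rw [hpow, tt_eq, monoEl_mul, monoEl_mul] at hc
  have h1 : R * τ = τ * R ^ 6 := (mono_inj hc).1
  -- the inverse of τ sends R to R⁶
  have hconj : τ⁻¹ * R * τ = R ^ 6 := by rw [mul_assoc, h1, inv_mul_cancel_left]
  have hn : τ⁻¹ ∈ Cfsg.Agent.S5604.nz :=
    Subgroup.mem_inf.2 ⟨inv_mem hτ, Cfsg.Agent.S5604.mem_normalizer_zpowers (by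
      rw [inv_inv, ← hR, hconj]; exact pow_mem (Subgroup.mem_zpowers _) 6)⟩
  let f : ↥Cfsg.Agent.S5604.nz →* MulAut ↥(Subgroup.zpowers R) :=
    (Subgroup.normalizerMonoidHom (Subgroup.zpowers R)).comp (Subgroup.inclusion inf_le_right)
  have hfapp : ∀ (x : ↥Cfsg.Agent.S5604.nz) (y : ↥(Subgroup.zpowers R)),
      ((f x y : ↥(Subgroup.zpowers R)) : Equiv.Perm GolayPt) =
        (x : Equiv.Perm GolayPt) * y * (x : Equiv.Perm GolayPt)⁻¹ := fun x y => rfl
  have hker : Nat.card f.ker = 42 := by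
    rw [← Cfsg.Agent.S5604.card_cz_R.1]
    refine Nat.card_congr
      { toFun := fun a => ⟨((a : ↥Cfsg.Agent.S5604.nz) : Equiv.Perm GolayPt), M24Elt.mem_cz.2 ⟨(a : ↥Cfsg.Agent.S5604.nz).2.1, ?_⟩⟩
        invFun := fun a => ⟨⟨(a : Equiv.Perm GolayPt), ?_⟩, ?_⟩
        left_inv := fun a => rfl
        right_inv := fun a => rfl }
    · have h0 := DFunLike.congr_fun (MonoidHom.mem_ker.1 a.2) ⟨R, Subgroup.mem_zpowers R⟩
      have h0' := congrArg Subtype.val h0
      rw [hfapp] at h0'
      exact mul_inv_eq_iff_eq_mul.1 h0'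
    · refine ⟨(M24Elt.mem_cz.1 a.2).1, Cfsg.Agent.S5604.mem_normalizer_zpowers ?_⟩
      rw [(M24Elt.mem_cz.1 a.2).2, mul_inv_cancel_right]
      exact Subgroup.mem_zpowers _
    · rw [MonoidHom.mem_ker]
      refine MulEquiv.ext fun y => Subtype.ext ?_
      rw [hfapp]
      obtain ⟨k, hk⟩ := Subgroup.mem_zpowers_iff.1 y.2
      show (a : Equiv.Perm GolayPt) * (y : Equiv.Perm GolayPt) * (a : Equiv.Perm GolayPt)⁻¹ = (y : Equiv.Perm GolayPt)
      rw [← hk, mul_inv_eq_iff_eq_mul]
      exact (Commute.zpow_right (show Commute (a : Equiv.Perm GolayPt) R from (M24Elt.mem_cz.1 a.2).2) k).eq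
  have hrange : Nat.card f.range = 3 := by
    have := Subgroup.card_mul_index f.ker
    rw [Subgroup.index_ker, hker, Cfsg.Agent.S5604.card_nz] at this
    omega
  set x := f ⟨τ⁻¹, hn⟩ with hx
  have hx2 : x * x = 1 := by
    refine MulEquiv.ext fun y => Subtype.ext ?_
    rw [MulAut.mul_apply, MulAut.one_apply, hx, hfapp, hfapp]
    obtain ⟨k, hk⟩ := Subgroup.mem_zpowers_iff.1 y.2
    show τ⁻¹ * (τ⁻¹ * (y : Equiv.Perm GolayPt) * τ⁻¹⁻¹) * τ⁻¹⁻¹ = (y : Equiv.Perm GolayPt)
    rw [← hk, ← conj_zpow, ← conj_zpow, inv_inv, hconj]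
    congr 1
    have e6 := conj_pow (a := τ⁻¹) (b := R) (i := 6)
    rw [inv_inv, hconj, ← pow_mul, Cfsg.Agent.S5604.pow_eq_mod Cfsg.Agent.S5604.R_order.1] at e6
    rw [← e6, pow_one]
  have hd2 : orderOf x ∣ 2 := orderOf_dvd_of_pow_eq_one (by rw [pow_two, hx2])
  have hd3 : orderOf x ∣ 3 := hrange ▸ Subgroup.orderOf_dvd_natCard _ ⟨_, rfl⟩
  have hone : x = 1 := orderOf_eq_one_iff.1 (Nat.dvd_one.1 (Nat.dvd_gcd hd2 hd3))
  have h6 := congrArg (fun e : MulAut ↥(Subgroup.zpowers R) =>
    ((e ⟨R, Subgroup.mem_zpowers R⟩ : ↥(Subgroup.zpowers R)) : Equiv.Perm GolayPt)) hone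
  simp only [hx, hfapp, MulAut.one_apply, inv_inv, hconj] at h6
  have h5 : R ^ 5 = 1 := mul_right_cancel (b := R) (by rw [one_mul, ← pow_succ, h6])
  have := orderOf_dvd_of_pow_eq_one h5
  rw [Cfsg.Agent.S5604.R_order.2.1] at this
  norm_num at this

/-- The centralizer of `tt`. -/
abbrev K : Subgroup Co0 := Subgroup.centralizer ({tt} : Set Co0)

theorem K_comm (g : K) : (g : Co0) * tt = tt * (g : Co0) := Subgroup.mem_centralizer_singleton_iff.1 g.2

/-- The centralizing word to the first class. -/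
noncomputable def wW (k : ℕ) : Co0 := wordEl (SevenData.wordsW.getD k [])

/-- The inverting word to the first class. -/
noncomputable def wU (k : ℕ) : Co0 := wordEl (SevenData.wordsU.getD k [])

theorem eqW_conj {w : List Step} {n : ℕ} (h : eqW (tS :: w) (w ++ List.replicate n tS) = true) :
    wordEl w * tt = tt ^ n * wordEl w := by
  have e := eq_of_eqW h
  rwa [wordEl, wordEl_append, wordEl_replicate] at e

theorem wW_spec {k : ℕ} (h1 : 1 ≤ k) (h8 : k < 8) : wW k * tt = tt * wW k ∧ Cong (wW k • rv k) (rv 1) := by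
  have h := words_check
  simp only [wordsB, Bool.and_eq_true, List.all_eq_true, List.mem_range] at h
  obtain ⟨⟨⟨ha, hb⟩, -⟩, -⟩ := h (k - 1) (by omega)
  rw [show k - 1 + 1 = k by omega] at ha hb
  refine ⟨?_, cong_of_mapsB ha⟩
  have := eqW_conj (n := 1) hb
  rwa [pow_one] at this

theorem wU_spec {k : ℕ} (h1 : 1 ≤ k) (h8 : k < 8) :
    wU k * tt = tt ^ 6 * wU k ∧ Cong (wU k • rv (8 * k)) (rv 1) := by
  have h := words_check
  simp only [wordsB, Bool.and_eq_true, List.all_eq_true, List.mem_range] at h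
  obtain ⟨⟨-, ha⟩, hb⟩ := h (k - 1) (by omega)
  rw [show k - 1 + 1 = k by omega] at ha hb
  exact ⟨eqW_conj hb, cong_of_mapsB ha⟩

/-- The centralizer permutes the first half of the frame classes. -/
theorem preserves (g : K) {k : ℕ} (hk : k < 8) : ∃ j < 8, Cong ((g : Co0) • rv k) (rv j) := by
  by_cases hk0 : k = 0
  · subst hk0
    exact ⟨0, by norm_num, by rw [fixed.zero, smul_zero']; exact Cong.refl 0⟩
  obtain ⟨j, hj, hc⟩ := fixed.cover ((g : Co0) • rv k) (by
    rw [← mul_smul, ← K_comm g, mul_smul]; exact (fixed.fix k (by omega)).smul (g : Co0))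
  have h64 := fixed.norm_eq hj hc (by rw [sqNorm_smul]; exact (norm64 (by omega)).2 ⟨hk0, Or.inl hk⟩)
  obtain ⟨hj0, hj8 | hjU⟩ := (norm64 hj).1 h64
  · exact ⟨j, hj8, hc⟩
  exfalso
  obtain ⟨m, rfl⟩ : ∃ m, j = 8 * m := ⟨j / 8, by omega⟩
  obtain ⟨hu1, hu2⟩ := wU_spec (k := m) (by omega) (by omega)
  obtain ⟨hw1, hw2⟩ := wW_spec (k := k) (by omega) hk
  set h := wU m * (g : Co0) * (wW k)⁻¹ with hh
  have hm : h ∈ monoSub := by
    rw [← classStab_one, mem_classStab, hh, mul_smul, mul_smul]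
    have h0 := hw2.smul (wW k)⁻¹
    rw [inv_smul_smul] at h0
    exact (((h0.symm.smul (g : Co0)).trans hc).smul (wU m)).trans hu2
  refine mono_no_invert hm ?_
  have hwi : (wW k)⁻¹ * tt = tt * (wW k)⁻¹ := by
    rw [inv_mul_eq_iff_eq_mul, ← mul_assoc, hw1, mul_inv_cancel_right]
  calc h * tt = wU m * ((g : Co0) * ((wW k)⁻¹ * tt)) := by rw [hh]; group
    _ = wU m * (((g : Co0) * tt) * (wW k)⁻¹) := by rw [hwi]; group
    _ = (wU m * tt) * ((g : Co0) * (wW k)⁻¹) := by rw [K_comm g]; group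
    _ = tt ^ 6 * h := by rw [hu1, hh]; group

/-- Index of a vector over the field with two elements. -/
def idx (x : Fin 3 → ZMod 2) : ℕ := (x 0).val + 2 * (x 1).val + 4 * (x 2).val

/-- The vector with an index. -/
def vec (k : ℕ) : Fin 3 → ZMod 2 := fun i => ((k / 2 ^ (i : ℕ) : ℕ) : ZMod 2)

theorem idx_facts : (∀ x, idx x < 8 ∧ vec (idx x) = x) ∧ (∀ x y, idx (x + y) = idx x ^^^ idx y) ∧
    ∀ k < 8, idx (vec k) = k := by
  decide +kernel

/-- The image of a vector. -/
noncomputable def act (g : K) (x : Fin 3 → ZMod 2) : Fin 3 → ZMod 2 :=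
  vec (preserves g (idx_facts.1 x).1).choose

theorem act_spec (g : K) (x : Fin 3 → ZMod 2) : Cong ((g : Co0) • rv (idx x)) (rv (idx (act g x))) := by
  obtain ⟨h1, h2⟩ := (preserves g (idx_facts.1 x).1).choose_spec
  rw [act, idx_facts.2.2 _ h1]
  exact h2

theorem act_unique (g : K) {x y : Fin 3 → ZMod 2} (h : Cong ((g : Co0) • rv (idx x)) (rv (idx y))) :
    act g x = y := by
  have hl : ∀ a, idx a < 2 ^ 6 := fun a => lt_trans (idx_facts.1 a).1 (by norm_num)
  have e := fixed.cong_inj (hl _) (hl _) ((act_spec g x).symm.trans h)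
  rw [← (idx_facts.1 (act g x)).2, e, (idx_facts.1 y).2]

theorem act_add (g : K) (x y : Fin 3 → ZMod 2) : act g (x + y) = act g x + act g y := by
  have hl : ∀ a, idx a < 2 ^ 6 := fun a => lt_trans (idx_facts.1 a).1 (by norm_num)
  refine act_unique g ?_
  rw [idx_facts.2.1, idx_facts.2.1]
  have h1 := ((fixed.add _ (hl x) _ (hl y)).smul (g : Co0)).symm
  rw [smul_add'] at h1
  exact (h1.trans (cong_add (act_spec g x) (act_spec g y))).trans (fixed.add _ (hl _) _ (hl _))

theorem act_mul (g h : K) (x : Fin 3 → ZMod 2) : act (g * h) x = act g (act h x) := by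
  refine act_unique _ ?_
  rw [Subgroup.coe_mul, mul_smul]
  exact ((act_spec h x).smul _).trans (act_spec g _)

theorem act_one (x : Fin 3 → ZMod 2) : act 1 x = x := by
  refine act_unique _ ?_
  rw [OneMemClass.coe_one, one_smul]
  exact Cong.refl _

/-- The linear map of an element. -/
noncomputable def lin (g : K) : (Fin 3 → ZMod 2) →ₗ[ZMod 2] (Fin 3 → ZMod 2) :=
  AddMonoidHom.toZModLinearMap 2 (AddMonoidHom.mk' (act g) (act_add g))

theorem lin_apply (g : K) (x : Fin 3 → ZMod 2) : lin g x = act g x := rfl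

theorem lin_mul (g h : K) : lin (g * h) = (lin g).comp (lin h) := LinearMap.ext (act_mul g h)

theorem lin_one : lin 1 = LinearMap.id := LinearMap.ext act_one

theorem det_lin (g : K) : (LinearMap.toMatrix' (lin g)).det = 1 := by
  have h : (LinearMap.toMatrix' (lin g)).det * (LinearMap.toMatrix' (lin g⁻¹)).det = 1 := by
    rw [← Matrix.det_mul, ← LinearMap.toMatrix'_comp, ← lin_mul, mul_inv_cancel, lin_one,
      LinearMap.toMatrix'_id, Matrix.det_one]
  revert h
  generalize (LinearMap.toMatrix' (lin g)).det = a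
  generalize (LinearMap.toMatrix' (lin g⁻¹)).det = c
  revert a c
  decide

/-- The action on the first three-dimensional half. -/
noncomputable def psi : K →* Matrix.SpecialLinearGroup (Fin 3) (ZMod 2) :=
  MonoidHom.mk' (fun g => ⟨LinearMap.toMatrix' (lin g), det_lin g⟩) fun g h => Subtype.ext (by
    show LinearMap.toMatrix' (lin (g * h)) = LinearMap.toMatrix' (lin g) * LinearMap.toMatrix' (lin h)
    rw [lin_mul, LinearMap.toMatrix'_comp])

theorem psi_apply (g : K) (x : Fin 3 → ZMod 2) : (psi g : Matrix (Fin 3) (Fin 3) (ZMod 2)) *ᵥ x = act g x :=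
  (LinearMap.toMatrix'_mulVec (lin g) x).trans (lin_apply g x)

/-- The first generator. -/
noncomputable def genK (b : Bool) : K :=
  ⟨wordEl (bif b then SevenData.wordB else SevenData.wordA), Subgroup.mem_centralizer_singleton_iff.2 (by
    have h := gens_check
    simp only [Bool.and_eq_true] at h
    have e : wordEl (bif b then SevenData.wordB else SevenData.wordA) * tt =
        tt ^ 1 * wordEl (bif b then SevenData.wordB else SevenData.wordA) := by
      cases b
      · exact eqW_conj h.1.1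
      · exact eqW_conj h.1.2
    rwa [pow_one] at e)⟩

/-- A product of generators. -/
noncomputable def prodK : List Bool → K
  | [] => 1
  | b :: s => prodK s * genK b

theorem prodK_spec : ∀ (s : List Bool) {k : ℕ}, k < 8 →
    imgS s k < 8 ∧ Cong ((prodK s : Co0) • rv k) (rv (imgS s k))
  | [], k, hk => ⟨hk, by rw [prodK, OneMemClass.coe_one, one_smul]; exact Cong.refl _⟩
  | b :: s, k, hk => by
    have h := gens_check
    simp only [Bool.and_eq_true, List.all_eq_true, List.mem_range, Nat.blt_eq] at h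
    obtain ⟨⟨⟨hA, hB⟩, hcA⟩, hcB⟩ := h.2 k hk
    have hlt : (bif b then imgB else imgA).getD k 0 < 8 ∧
        Cong ((genK b : Co0) • rv k) (rv ((bif b then imgB else imgA).getD k 0)) := by
      have e : ∀ l : List ℕ, l.getD k 8 < 8 → l.getD k 0 = l.getD k 8 := fun l hl => by
        rcases Nat.lt_or_ge k l.length with h' | h'
        · rw [List.getD_eq_getElem _ _ h', List.getD_eq_getElem _ _ h']
        · rw [List.getD_eq_default _ _ h'] at hl; omega
      cases b
      · exact ⟨(e imgA hA).symm ▸ hA, (e imgA hA).symm ▸ cong_of_mapsB hcA⟩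
      · exact ⟨(e imgB hB).symm ▸ hB, (e imgB hB).symm ▸ cong_of_mapsB hcB⟩
    obtain ⟨h1, h2⟩ := prodK_spec s hlt.1
    refine ⟨h1, ?_⟩
    rw [prodK, Subgroup.coe_mul, mul_smul]
    exact (hlt.2.smul _).trans h2

theorem card_ge_of_nodup {α : Type*} [Group α] [Finite α] {H : Subgroup α} {l : List α} {n : ℕ}
    (hnd : l.Nodup) (hlen : l.length = n) (hmem : ∀ x ∈ l, x ∈ H) : n ≤ Nat.card H := by
  classical
  have h := Set.ncard_le_ncard (s := (l.toFinset : Set α)) (t := (H : Set α))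
    (fun x hx => hmem x (List.mem_toFinset.1 hx))
  rw [Set.ncard_coe_finset, List.toFinset_card_of_nodup hnd, hlen, ← Nat.card_coe_set_eq] at h
  exact h

theorem card_psi_range : Nat.card psi.range = 168 := by
  classical
  refine le_antisymm (CfsgLib.Linear.PSL2Seven.card_SL3Two ▸ Subgroup.card_le_card_group _) ?_
  let L := SevenData.seqs.map fun s => psi (prodK s)
  have hnd : L.Nodup := by
    refine List.Nodup.map_on (fun s hs s' hs' e => ?_) (List.Nodup.of_map _ seqs_check.2)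
    refine List.inj_on_of_nodup_map seqs_check.2 hs hs' (List.map_congr_left fun k hk => ?_)
    rw [List.mem_range] at hk
    have hs1 := prodK_spec s hk
    have hs2 := prodK_spec s' hk
    have a1 : act (prodK s) (vec k) = vec (imgS s k) := act_unique _ (by
      rw [idx_facts.2.2 _ hk, idx_facts.2.2 _ hs1.1]; exact hs1.2)
    have a2 : act (prodK s') (vec k) = vec (imgS s' k) := act_unique _ (by
      rw [idx_facts.2.2 _ hk, idx_facts.2.2 _ hs2.1]; exact hs2.2)
    have a3 : vec (imgS s k) = vec (imgS s' k) := by rw [← a1, ← a2, ← psi_apply, ← psi_apply, e]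
    rw [← idx_facts.2.2 _ hs1.1, a3, idx_facts.2.2 _ hs2.1]
  have hlen : L.length = 168 := by
    rw [List.length_map]
    decide +kernel
  refine card_ge_of_nodup hnd hlen fun x hx => ?_
  obtain ⟨s, -, rfl⟩ := List.mem_map.1 hx
  exact ⟨_, rfl⟩

theorem psi_surj : Function.Surjective psi :=
  MonoidHom.range_eq_top.1 (Subgroup.eq_top_of_card_eq _ (card_psi_range.trans CfsgLib.Linear.PSL2Seven.card_SL3Two.symm))

/-- Invariant words of the code. -/
theorem fixed_word {c : GolayPt → ZMod 2} (hc : c ∈ golayCode) (h : c ∘ Cfsg.Agent.S5604.R = c) :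
    ∃ x ∈ SevenData.fixCode, c = Golay.toWord (Golay.comb x) := by
  obtain ⟨x, hx, rfl⟩ := Golay.mem_golay_iff.1 hc
  have hcc := code_check
  simp only [List.all_eq_true, List.mem_range, Bool.or_eq_true, Bool.not_eq_true', List.contains_eq_mem,
    decide_eq_true_eq] at hcc
  rcases hcc x hx with hne | hmem
  · exfalso
    refine Bool.eq_false_iff.1 hne (List.all_eq_true.2 fun i hi => ?_)
    rw [List.mem_range] at hi
    have hfx := fix_check
    simp only [fixB, Bool.and_eq_true] at hfx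
    have hT := hfx.1.1.1
    have hlt : Trans.img SevenData.tcode i < 24 := by
      simp only [Trans.okT, Bool.and_eq_true, List.all_eq_true, List.mem_range, Nat.blt_eq] at hT
      exact hT.1.1 i hi
    have e := congrFun h (Golay.pt i)
    rw [Function.comp_apply, ← perm_eq, Trans.tblPerm_apply hfx.1.1.1] at e
    simp only [Trans.tblFun, Golay.toWord, Golay.bit_pt hi, Golay.bit_pt hlt] at e
    rw [beq_iff_eq]
    revert e
    cases (Golay.comb x).testBit (Trans.img SevenData.tcode i) <;> cases (Golay.comb x).testBit i <;> simp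
  · exact ⟨x, hmem, rfl⟩

/-- The monomial part of the centralizer. -/
theorem card_mono_part : Nat.card ↥(monoSub.subgroupOf K) ≤ 336 := by
  classical
  have hmem : ∀ g : ↥(monoSub.subgroupOf K), ∃ (τ : ↥(M24Elt.cz Cfsg.Agent.S5604.R)) (i : Fin SevenData.fixCode.length),
      ((g : K) : Co0) = monoEl τ (M24Elt.mem_cz.1 τ.2).1 (Golay.toWord (Golay.comb SevenData.fixCode[i]))
        (Golay.toWord_comb_mem _) := by
    intro g
    obtain ⟨τ, hτ, c, hc, hg, hcz, hR⟩ := mono_comm g.2 (K_comm (g : K))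
    obtain ⟨x, hx, rfl⟩ := fixed_word hc hR
    obtain ⟨i, hi, rfl⟩ := List.getElem_of_mem hx
    exact ⟨⟨τ, hcz⟩, ⟨i, hi⟩, hg⟩
  choose a c hac using hmem
  have hinj : Function.Injective fun g => (a g, c g) := by
    intro g g' e
    simp only [Prod.mk.injEq] at e
    refine Subtype.ext (Subtype.ext ?_)
    rw [hac g, hac g']
    simp only [e.1, e.2]
  refine (Nat.card_le_card_of_injective _ hinj).trans (le_of_eq ?_)
  rw [Nat.card_prod, Cfsg.Agent.S5604.card_cz_R.1, Nat.card_fin]
  rfl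

theorem card_K_le : Nat.card K ≤ 2352 := by
  classical
  have key : ∀ g : K, ∃ j : {j : Fin 8 // j ≠ 0}, Cong ((g : Co0) • rv 1) (rv (j : Fin 8)) := by
    intro g
    obtain ⟨j, hj, hc⟩ := preserves g (k := 1) (by norm_num)
    refine ⟨⟨⟨j, hj⟩, fun e => ?_⟩, hc⟩
    have hj0 : j = 0 := congrArg Fin.val e
    subst hj0
    rw [fixed.zero] at hc
    have := hc.smul (g : Co0)⁻¹
    rw [inv_smul_smul, smul_zero'] at this
    exact not_cong_zero (fixed.ne_zero 1 (by norm_num) (by norm_num)) (fixed.short 1 (by norm_num)) this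
  choose f hf using key
  let F : K ⧸ monoSub.subgroupOf K → {j : Fin 8 // j ≠ 0} := fun q => f q.out
  have hinj : Function.Injective F := by
    intro q q' e
    rw [← QuotientGroup.out_eq' q, ← QuotientGroup.out_eq' q', QuotientGroup.eq, Subgroup.mem_subgroupOf]
    refine classStab_one.le ?_
    rw [mem_classStab, Subgroup.coe_mul, InvMemClass.coe_inv, mul_smul]
    have h2 := hf q'.out
    rw [← (show f q.out = f q'.out from e)] at h2
    have h3 := (h2.trans (hf q.out).symm).smul (q.out : Co0)⁻¹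
    rwa [inv_smul_smul] at h3
  have h1 := Nat.card_le_card_of_injective F hinj
  have h2 : Nat.card {j : Fin 8 // j ≠ 0} = 7 := by
    rw [Nat.card_eq_fintype_card]; decide
  rw [← Subgroup.card_mul_index (monoSub.subgroupOf K), Subgroup.index_eq_card]
  calc _ ≤ 336 * 7 := Nat.mul_le_mul card_mono_part (h1.trans_eq h2)
    _ = 2352 := by norm_num

theorem psi_ker (g : K) (hg : psi g = 1) : ∃ i : ℕ, (g : Co0) = tt ^ i ∨ (g : Co0) = tt ^ i * negEl := by
  classical
  have hn : negEl ∈ K := Subgroup.mem_centralizer_singleton_iff.2 (negEl_comm tt).symm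
  let f : Fin 7 × Bool → ↥psi.ker := fun a => ⟨⟨tt ^ (a.1 : ℕ) * (bif a.2 then negEl else 1),
    mul_mem (pow_mem (Subgroup.mem_centralizer_singleton_iff.2 rfl) _) (by cases a.2; exacts [one_mem _, hn])⟩, by
      rw [MonoidHom.mem_ker]
      refine Subtype.ext (Matrix.ext_of_mulVec_single fun i => ?_)
      rw [psi_apply, Matrix.SpecialLinearGroup.coe_one, Matrix.one_mulVec]
      refine act_unique _ ?_
      have hk : idx (Pi.single i 1) < 2 ^ 6 := lt_trans (idx_facts.1 _).1 (by norm_num)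
      show Cong ((tt ^ (a.1 : ℕ) * (bif a.2 then negEl else 1)) • rv (idx (Pi.single i 1))) _
      rw [mul_smul]
      cases a.2
      · rw [cond_false, one_smul]; exact fixed.pow_fix hk _
      · rw [cond_true, negEl_smul, smul_neg']; exact (cong_neg _).trans (fixed.pow_fix hk _)⟩
  have hodd : ∀ {n : ℕ}, tt ^ n ≠ negEl := fun {n} e => by
    have h := congrArg (fun g : Co0 => g ^ 7) e
    simp only [← pow_mul, mul_comm n 7] at h
    rw [pow_mul, fixed.pow, one_pow, show 7 = 2 * 3 + 1 from rfl, pow_succ, pow_mul, pow_two, sq_negEl, one_pow,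
      one_mul] at h
    have h8 := congrArg (fun g : Co0 => ((g • eightVec none : leechLattice) : GolayPt → ℤ) none) h
    simp [negEl_smul, coe_eightVec] at h8
  have hinj : Function.Injective f := by
    rintro ⟨i, x⟩ ⟨j, y⟩ h
    have h' : tt ^ (i : ℕ) * (bif x then negEl else 1) = tt ^ (j : ℕ) * (bif y then negEl else 1) :=
      congrArg (fun a : ↥psi.ker => ((a : K) : Co0)) h
    have hne : ∀ a c : ℕ, a < 7 → c < 7 → tt ^ a = tt ^ c → a = c := fun a c ha hc e =>
      pow_injOn_Iio_orderOf (by rw [Set.mem_Iio, tt_ord]; exact ha) (by rw [Set.mem_Iio, tt_ord]; exact hc) e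
    have hbad : ∀ a c : ℕ, tt ^ a * negEl ≠ tt ^ c := fun a c e => by
      refine hodd (n := c + 6 * a) ?_
      rw [pow_add, ← e, mul_assoc, ← negEl_comm, ← mul_assoc, ← pow_add, show a + 6 * a = 7 * a by ring,
        pow_mul, fixed.pow, one_pow, one_mul]
    cases x <;> cases y <;> simp only [cond_true, cond_false, mul_one] at h'
    · rw [Fin.ext (hne _ _ i.2 j.2 h')]
    · exact absurd h'.symm (hbad _ _)
    · exact absurd h' (hbad _ _)
    · rw [Fin.ext (hne _ _ i.2 j.2 (mul_right_cancel h'))]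
  have hcard : Nat.card ↥psi.ker ≤ Nat.card (Fin 7 × Bool) := by
    have h := Subgroup.card_mul_index psi.ker
    rw [Subgroup.index_ker, card_psi_range] at h
    have := card_K_le
    rw [Nat.card_prod, Nat.card_fin, Nat.card_eq_fintype_card (α := Bool), Fintype.card_bool]
    omega
  obtain ⟨⟨i, x⟩, hx⟩ := (hinj.bijective_of_nat_card_le hcard).2 ⟨g, hg⟩
  refine ⟨i, ?_⟩
  have h' : tt ^ (i : ℕ) * (bif x then negEl else 1) = (g : Co0) :=
    congrArg (fun a : ↥psi.ker => ((a : K) : Co0)) hx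
  cases x
  · exact Or.inl (by rw [← h', cond_false, mul_one])
  · exact Or.inr (by rw [← h', cond_true])

theorem psi_core (P : Subgroup (Matrix.SpecialLinearGroup (Fin 3) (ZMod 2))) (hn : P.Normal)
    (hP : IsPGroup 2 P) : P = ⊥ := by
  classical
  haveI : Fact (Nat.Prime 2) := ⟨Nat.prime_two⟩
  letI : MulAction ↥P (Fin 3 → ZMod 2) :=
    { smul := fun a x => ((a : Matrix.SpecialLinearGroup (Fin 3) (ZMod 2)) : Matrix (Fin 3) (Fin 3) (ZMod 2)) *ᵥ x
      one_smul := fun x => Matrix.one_mulVec x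
      mul_smul := fun a c x => (Matrix.mulVec_mulVec x _ _).symm }
  have hfix : ∀ (a : ↥P) (x : Fin 3 → ZMod 2), a • x =
      ((a : Matrix.SpecialLinearGroup (Fin 3) (ZMod 2)) : Matrix (Fin 3) (Fin 3) (ZMod 2)) *ᵥ x := fun _ _ => rfl
  have hmod := hP.card_modEq_card_fixedPoints (Fin 3 → ZMod 2)
  have h0 : (0 : Fin 3 → ZMod 2) ∈ MulAction.fixedPoints ↥P (Fin 3 → ZMod 2) := fun a => by
    rw [hfix, Matrix.mulVec_zero]
  obtain ⟨v, hv, hv0⟩ : ∃ v ∈ MulAction.fixedPoints ↥P (Fin 3 → ZMod 2), v ≠ 0 := by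
    by_contra hcon
    push Not at hcon
    have hone : Nat.card ↥(MulAction.fixedPoints ↥P (Fin 3 → ZMod 2)) = 1 := by
      rw [Nat.card_eq_one_iff_unique]
      exact ⟨⟨fun a c => Subtype.ext ((hcon _ a.2).trans (hcon _ c.2).symm)⟩, ⟨⟨0, h0⟩⟩⟩
    rw [hone, Nat.card_eq_fintype_card (α := Fin 3 → ZMod 2), Fintype.card_fun, ZMod.card, Fintype.card_fin] at hmod
    exact absurd hmod (by decide)
  have hmove : ∀ (g : Matrix.SpecialLinearGroup (Fin 3) (ZMod 2)) {x : Fin 3 → ZMod 2},
      x ∈ MulAction.fixedPoints ↥P (Fin 3 → ZMod 2) →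
      (g : Matrix (Fin 3) (Fin 3) (ZMod 2)) *ᵥ x ∈ MulAction.fixedPoints ↥P (Fin 3 → ZMod 2) := by
    intro g x hx a
    have hc : g⁻¹ * (a : Matrix.SpecialLinearGroup (Fin 3) (ZMod 2)) * g ∈ P := by
      have := hn.conj_mem _ a.2 g⁻¹
      rwa [inv_inv] at this
    have h1 := hx ⟨_, hc⟩
    rw [hfix] at h1 ⊢
    conv_rhs => rw [← h1]
    rw [Matrix.mulVec_mulVec, Matrix.mulVec_mulVec, ← Matrix.SpecialLinearGroup.coe_mul,
      ← Matrix.SpecialLinearGroup.coe_mul]
    congr 2
    show (a : Matrix.SpecialLinearGroup (Fin 3) (ZMod 2)) * g = g * (g⁻¹ * (a : Matrix.SpecialLinearGroup (Fin 3) (ZMod 2)) * g)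
    group
  have hreach : ∀ x : Fin 3 → ZMod 2, x ≠ 0 → ∃ g : Matrix.SpecialLinearGroup (Fin 3) (ZMod 2),
      (g : Matrix (Fin 3) (Fin 3) (ZMod 2)) *ᵥ x = vec 1 := by
    intro x hx
    have hx8 := (idx_facts.1 x).1
    have hx1 : 1 ≤ idx x := by
      by_contra h
      refine hx ?_
      rw [← (idx_facts.1 x).2, show idx x = 0 by omega]
      funext i
      simp [vec]
    obtain ⟨hw, hw'⟩ := wW_spec hx1 hx8
    refine ⟨psi ⟨wW (idx x), Subgroup.mem_centralizer_singleton_iff.2 hw⟩, ?_⟩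
    rw [psi_apply]
    refine act_unique _ ?_
    rw [idx_facts.2.2 1 (by norm_num)]
    exact hw'
  obtain ⟨gv, hgv⟩ := hreach v hv0
  have h1 : vec 1 ∈ MulAction.fixedPoints ↥P (Fin 3 → ZMod 2) := hgv ▸ hmove gv hv
  rw [Subgroup.eq_bot_iff_forall]
  intro a ha
  refine Subtype.ext (Matrix.ext_of_mulVec_single fun i => ?_)
  rw [Matrix.SpecialLinearGroup.coe_one, Matrix.one_mulVec]
  have hne : (Pi.single i 1 : Fin 3 → ZMod 2) ≠ 0 := fun e => by simpa using congrFun e i
  obtain ⟨g, hg⟩ := hreach _ hne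
  have h2 := hmove g⁻¹ h1
  rw [← hg, Matrix.mulVec_mulVec, ← Matrix.SpecialLinearGroup.coe_mul, inv_mul_cancel,
    Matrix.SpecialLinearGroup.coe_one, Matrix.one_mulVec] at h2
  exact h2 ⟨a, ha⟩

theorem action : Action tt 6 rv psi where
  surj := psi_surj
  ker := psi_ker
  faith := fun g hg => by
    refine Subtype.ext (Matrix.ext_of_mulVec_single fun i => ?_)
    rw [psi_apply, Matrix.SpecialLinearGroup.coe_one, Matrix.one_mulVec]
    exact act_unique _ (hg _ (lt_trans (idx_facts.1 _).1 (by norm_num)))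
  core := psi_core

end CfsgLib.MonsterType.Seven
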