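import Cfsg.Agent.Lib.MonsterType.SevenMain
import Cfsg.Agent.Lib.MonsterType.Layer
import Cfsg.Agent.Lib.MonsterType.DiagLift

/-! An involution inverting the element of order seven. -/

set_option autoImplicit false
set_option linter.style.haveILetI false

namespace CfsgLib.MonsterType.Seven

open Cfsg CfsgLib CfsgLib.Leech CfsgLib.MonsterQ CfsgLib.MonsterType

variable {G : Type*} [Group G]

/-- The conjugating automorphism. -/
noncomputable def uConj : Co0 := wordEl SevenData.conjWord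

/-- The sign change. -/
noncomputable def epsEl : Co0 := stepEl (some (idCode, SevenData.signCode))

theorem epsEl_mem : epsEl ∈ diagHom.range := by
  have h := id_check
  simp only [Bool.and_eq_true, List.all_eq_true, List.mem_range] at h
  rw [epsEl, stepEl, dif_pos h.1]
  refine ⟨Multiplicative.ofAdd ⟨_, Golay.toWord_comb_mem SevenData.signCode⟩, ?_⟩
  refine monoEl_congr (ha := one_mem _) (hc := Golay.toWord_comb_mem SevenData.signCode)
    (Equiv.ext fun p => Golay.bit_injective ?_).symm rfl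
  rw [Trans.tblPerm_apply h.1, Trans.tblFun, Nat.eq_of_beq_eq_true (h.2 _ (Golay.bit_lt p)), Golay.pt_bit]
  rfl

theorem g1_inverts : uConj * epsEl * uConj⁻¹ * tt = tt ^ 6 * (uConj * epsEl * uConj⁻¹) := by
  have h := auto_check
  simp only [Bool.and_eq_true] at h
  have e1 := eq_of_eqW h.1.2
  rw [wordEl_append] at e1
  have hinv : wordEl SevenData.conjWordInv = uConj⁻¹ := eq_inv_of_mul_eq_one_left e1
  have e2 := eqW_conj h.2
  rwa [wordEl_append, hinv, wordEl] at e2

namespace Setup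

variable {z s : G} {Q B : Subgroup G} {π : ↥(Subgroup.centralizer ({z} : Set G)) →* Spor.Co1}
  {θ : leechLattice → G} {b : G} (S : Setup z s Q B π θ b)
include S

theorem exists_invol [Finite G] :
    ∃ t ∈ Subgroup.centralizer ({z} : Set G), orderOf t = 2 ∧ t * b * t⁻¹ = b⁻¹ := by
  classical
  haveI : Fact (Nat.Prime 7) := ⟨Nat.prime_seven⟩
  obtain ⟨h, hh, hh2, hπ⟩ := exists_invol_lift S.data.hyp uConj epsEl_mem
  set g₁ := uConj * epsEl * uConj⁻¹
  have hb := S.data.mem
  set hC : ↥(Subgroup.centralizer ({z} : Set G)) := ⟨h, hh⟩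
  set bC : ↥(Subgroup.centralizer ({z} : Set G)) := ⟨b, hb⟩
  have hhi : hC⁻¹ = hC := inv_eq_of_mul_eq_one_right (Subtype.ext hh2)
  set c : ↥(Subgroup.centralizer ({z} : Set G)) := hC * (bC * hC * bC⁻¹) with hc
  have hci : hC * c * hC⁻¹ = c⁻¹ := by
    rw [hc, mul_inv_rev, mul_inv_rev, mul_inv_rev, inv_inv, hhi]
    calc hC * (hC * (bC * hC * bC⁻¹)) * hC = (hC * hC) * (bC * hC * bC⁻¹) * hC := by group
      _ = bC * (hC * bC⁻¹) * hC := by rw [show hC * hC = 1 from Subtype.ext hh2]; group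
  have hπt : π bC = (QuotientGroup.mk tt : Spor.Co1) := S.data.proj
  have hπc : π c = (QuotientGroup.mk tt : Spor.Co1) ^ 5 := by
    rw [hc, map_mul, map_mul, map_mul, map_inv, hπ, hπt]
    have e : g₁ * tt * g₁ * tt⁻¹ = tt ^ 6 * (g₁ * g₁) * tt⁻¹ := by
      rw [show g₁ * tt = tt ^ 6 * g₁ from g1_inverts]; group
    have hgg : (QuotientGroup.mk g₁ : Spor.Co1) * QuotientGroup.mk g₁ = 1 := by
      rw [← hπ, ← map_mul, show hC * hC = 1 from Subtype.ext hh2, map_one]
    have e2 := congrArg (QuotientGroup.mk (s := Subgroup.center Co0)) e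
    simp only [QuotientGroup.mk_mul, QuotientGroup.mk_inv, QuotientGroup.mk_pow] at e2
    rw [show (QuotientGroup.mk g₁ : Spor.Co1) * (QuotientGroup.mk tt * QuotientGroup.mk g₁ * (QuotientGroup.mk tt)⁻¹) =
      QuotientGroup.mk g₁ * QuotientGroup.mk tt * QuotientGroup.mk g₁ * (QuotientGroup.mk tt)⁻¹ by group, e2, hgg]
    group
  have h7 : (QuotientGroup.mk tt : Spor.Co1) ^ 7 = 1 := by
    rw [← QuotientGroup.mk_pow, fixed.pow, QuotientGroup.mk_one]
  have hπb : ∀ n : ℕ, π bC ^ n = (QuotientGroup.mk tt : Spor.Co1) ^ n := fun n => by rw [hπt]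
  -- a power of c of order seven with the same image as b
  set c' : ↥(Subgroup.centralizer ({z} : Set G)) := c ^ 4 ^ 4 with hc'
  have hπc' : π c' = (QuotientGroup.mk tt : Spor.Co1) ^ 6 := by
    rw [hc', map_pow, hπc, ← pow_mul, Cfsg.Agent.S5604.pow_eq_mod h7]
    norm_num
  have hc7 : c' ^ 7 = 1 := by
    have hq : ((c ^ 7 : ↥(Subgroup.centralizer ({z} : Set G))) : G) ∈ Q := (S.data.hyp.ker _).1 (by
      rw [map_pow, hπc, ← pow_mul, mul_comm, pow_mul, h7, one_pow])
    have h4 : ((c ^ 7 : ↥(Subgroup.centralizer ({z} : Set G))) : G) ^ 4 = 1 := by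
      rw [show (4 : ℕ) = 2 * 2 from rfl, pow_mul]
      rcases S.data.hyp.S.sq _ hq with e | e <;> rw [(pow_two _).trans e]
      · rw [one_pow]
      · rw [pow_two, S.data.hyp.zz]
    refine Subtype.ext ?_
    rw [hc', ← pow_mul, show 4 ^ 4 * 7 = 7 * 4 * 4 ^ 3 by norm_num, pow_mul, pow_mul, SubgroupClass.coe_pow,
      SubgroupClass.coe_pow, h4, one_pow]
    rfl
  have hc1 : c' ≠ 1 := fun e => by
    rw [e, map_one, ← QuotientGroup.mk_pow, eq_comm, QuotientGroup.eq_one_iff] at hπc'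
    have h6 : (tt ^ 6) ^ 2 = 1 := by
      have hcc : tt ^ 6 ∈ ({1, negEl} : Set Co0) := by rw [← center_eq]; exact hπc'
      rcases hcc with e | e
      · rw [e, one_pow]
      · rw [Set.mem_singleton_iff] at e; rw [e, pow_two, sq_negEl]
    rw [← pow_mul] at h6
    have := orderOf_dvd_of_pow_eq_one h6
    rw [tt_ord] at this
    norm_num at this
  set K : Subgroup ↥(Subgroup.centralizer ({z} : Set G)) := (Subgroup.zpowers (π bC)).comap π with hK
  have hcK : c' ∈ K := by
    rw [hK, Subgroup.mem_comap, hπc', ← hπb]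
    exact pow_mem (Subgroup.mem_zpowers _) 6
  have hKf : (Nat.card K).factorization 7 = 1 := by
    let f : ↥K →* Spor.Co1 := π.comp K.subtype
    have hker : Nat.card f.ker = 2 ^ 25 := by
      rw [← S.data.hyp.card]
      exact Nat.card_congr
        { toFun := fun a => ⟨((a : ↥K) : ↥(Subgroup.centralizer ({z} : Set G))), (S.data.hyp.ker _).1 a.2⟩
          invFun := fun a => ⟨⟨⟨(a : G), S.data.hyp.le a.2⟩, by
            rw [hK, Subgroup.mem_comap, (S.data.hyp.ker ⟨_, S.data.hyp.le a.2⟩).2 a.2]; exact one_mem _⟩,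
            (S.data.hyp.ker _).2 a.2⟩
          left_inv := fun a => rfl
          right_inv := fun a => rfl }
    have hrange : f.range = Subgroup.zpowers (π bC) := by
      refine le_antisymm ?_ ((Subgroup.zpowers_le).2 ⟨⟨bC, Subgroup.mem_zpowers _⟩, rfl⟩)
      rintro _ ⟨a, rfl⟩
      exact a.2
    have hne1 : π bC ≠ 1 := fun e => by
      have h1 := S.data.pow_eq_one_of_mem (j := 1) (by rw [pow_one]; exact (S.data.hyp.ker bC).1 e)
      rw [pow_one] at h1
      have := S.data.ord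
      rw [h1, orderOf_one] at this
      norm_num at this
    rw [← Subgroup.card_mul_index f.ker, Subgroup.index_ker, hker, hrange, Nat.card_zpowers,
      orderOf_eq_prime (p := 7) (by rw [hπb, h7]) hne1, Nat.factorization_mul (by norm_num) (by norm_num),
      Finsupp.add_apply, Nat.Prime.factorization_pow Nat.prime_two, Finsupp.single_eq_of_ne (by norm_num),
      Nat.prime_seven.factorization, Finsupp.single_eq_same]
  obtain ⟨g, -, j, hj⟩ := conj_sylow_elem 7 hcK (Subgroup.mem_zpowers (π bC) : bC ∈ K)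
    (orderOf_eq_prime hc7 hc1) (by rw [← Subgroup.orderOf_coe]; exact S.data.ord) hKf
  have hj7 : j % 7 ≠ 0 := by
    intro e
    have hb7 : bC ^ 7 = 1 := Subtype.ext (by rw [SubgroupClass.coe_pow]; exact S.data.bp)
    rw [Cfsg.Agent.S5604.pow_eq_mod hb7, e, pow_zero, conj_eq_one_iff] at hj
    exact hc1 hj
  set t : ↥(Subgroup.centralizer ({z} : Set G)) := g * hC * g⁻¹ with ht
  have htj : t * bC ^ j * t⁻¹ = (bC ^ j)⁻¹ := by
    rw [← hj, ht, show g * hC * g⁻¹ * (g * c' * g⁻¹) * (g * hC * g⁻¹)⁻¹ = g * (hC * c' * hC⁻¹) * g⁻¹ by group,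
      show hC * c' * hC⁻¹ = c'⁻¹ by rw [hc', ← conj_pow, hci, inv_pow]]
    group
  obtain ⟨i, hi⟩ : ∃ i, j * i % 7 = 1 := by
    refine ⟨j ^ 5, ?_⟩
    have hm := Nat.mod_lt j (by norm_num : 7 > 0)
    rw [← pow_succ', Nat.pow_mod]
    interval_cases j % 7 <;> simp at hj7 ⊢
  have htb : t * bC * t⁻¹ = bC⁻¹ := by
    have hb7 : bC ^ 7 = 1 := Subtype.ext (by rw [SubgroupClass.coe_pow]; exact S.data.bp)
    have e := congrArg (fun x => x ^ i) htj
    simp only [conj_pow, inv_pow, ← pow_mul] at e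
    rwa [Cfsg.Agent.S5604.pow_eq_mod hb7, hi, pow_one] at e
  refine ⟨t, t.2, ?_, congrArg Subtype.val htb⟩
  haveI : Fact (Nat.Prime 2) := ⟨Nat.prime_two⟩
  refine orderOf_eq_prime ?_ ?_
  · have : t * t = 1 := by
      rw [ht, show g * hC * g⁻¹ * (g * hC * g⁻¹) = g * (hC * hC) * g⁻¹ by group,
        show hC * hC = 1 from Subtype.ext hh2]
      group
    rw [pow_two]; exact congrArg Subtype.val this
  · intro e
    have h1 := congrArg Subtype.val htb
    simp only [Subgroup.coe_mul, InvMemClass.coe_inv, e, one_mul, inv_one, mul_one] at h1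
    have h1' : b = b⁻¹ := h1
    have h2 : b ^ 2 = 1 := by
      rw [pow_two]
      nth_rw 2 [h1']
      exact mul_inv_cancel b
    have := orderOf_dvd_of_pow_eq_one h2
    rw [S.data.ord] at this
    norm_num at this

theorem mem_N {n : G} : n ∈ Subgroup.centralizer (B : Set G) ↔ n * b = b * n := by
  rw [S.eqB]
  refine ⟨fun h => (Subgroup.mem_centralizer_iff.1 h b (Subgroup.mem_zpowers b)).symm, fun h => ?_⟩
  refine Subgroup.mem_centralizer_iff.2 fun y hy => ?_
  obtain ⟨k, rfl⟩ := Subgroup.mem_zpowers_iff.1 hy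
  exact (Commute.zpow_left (show Commute b n from h.symm) k).eq

theorem relIndex_six [Finite G] :
    (Subgroup.centralizer (B : Set G)).relIndex (Subgroup.normalizer (B : Set G)) = 6 := by
  classical
  have hker : (Subgroup.normalizerMonoidHom B).ker =
      (Subgroup.centralizer (B : Set G)).subgroupOf (Subgroup.normalizer (B : Set G)) :=
    Subgroup.normalizerMonoidHom_ker B
  rw [Subgroup.relIndex, ← hker, Subgroup.index_ker]
  have hcyc : IsCyclic ↥B := by
    rw [S.eqB]; infer_instance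
  have hcard : Nat.card ↥B = 7 := by rw [S.eqB, Nat.card_zpowers, S.data.ord]
  refine le_antisymm ?_ ?_
  · refine (Subgroup.card_le_card_group _).trans (le_of_eq ?_)
    rw [IsCyclic.card_mulAut, hcard]
    decide
  · have hbB : b ∈ B := S.eqB ▸ Subgroup.mem_zpowers b
    have key : ∀ k : Fin 6, ∃ f ∈ (Subgroup.normalizerMonoidHom B).range, ((f ⟨b, hbB⟩ : ↥B) : G) = b ^ ((k : ℕ) + 1) := by
      intro k
      obtain ⟨h, hh, hb⟩ := S.exists_lift (k := (k : ℕ) + 1) (by have := k.2; omega)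
      exact ⟨_, ⟨⟨h, S.mem_normalizer hb⟩, rfl⟩, hb⟩
    choose f hf hfb using key
    have hinj : Function.Injective fun k => (⟨f k, hf k⟩ : ↥(Subgroup.normalizerMonoidHom B).range) := by
      intro k l e
      have e' := congrArg (fun a : ↥(Subgroup.normalizerMonoidHom B).range =>
        (((a : MulAut ↥B) ⟨b, hbB⟩ : ↥B) : G)) e
      simp only [hfb] at e'
      have := pow_injOn_Iio_orderOf (x := b) (by rw [Set.mem_Iio, S.data.ord]; have := k.2; omega)
        (by rw [Set.mem_Iio, S.data.ord]; have := l.2; omega) e'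
      exact Fin.ext (by omega)
    have := Nat.card_le_card_of_injective _ hinj
    rwa [Nat.card_fin] at this

theorem outer [Finite G] : ∃ t : G, orderOf t = 2 ∧ (∀ x ∈ B, t * x * t⁻¹ = x⁻¹) ∧
    (∀ x ∈ (Cfsg.layer ↥(Subgroup.centralizer (B : Set G))).map (Subgroup.centralizer (B : Set G)).subtype,
      t * x * t⁻¹ ∈ (Cfsg.layer ↥(Subgroup.centralizer (B : Set G))).map (Subgroup.centralizer (B : Set G)).subtype) ∧
    ¬ ∃ l ∈ (Cfsg.layer ↥(Subgroup.centralizer (B : Set G))).map (Subgroup.centralizer (B : Set G)).subtype,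
      ∀ x ∈ (Cfsg.layer ↥(Subgroup.centralizer (B : Set G))).map (Subgroup.centralizer (B : Set G)).subtype,
        t * x * t⁻¹ = l * x * l⁻¹ := by
  classical
  obtain ⟨t, ht, ht2, htb⟩ := S.exists_invol
  set N := Subgroup.centralizer (B : Set G) with hN'
  have hN : ∀ n, n ∈ N ↔ n * b = b * n := fun n => S.mem_N
  have htz := Subgroup.mem_centralizer_singleton_iff.1 ht
  have hinvB : ∀ x ∈ B, t * x * t⁻¹ = x⁻¹ := by
    intro x hx
    rw [S.eqB, Subgroup.mem_zpowers_iff] at hx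
    obtain ⟨k, rfl⟩ := hx
    rw [← conj_zpow, htb, inv_zpow]
  have htN : ∀ n, n ∈ N ↔ t * n * t⁻¹ ∈ N := by
    intro n
    rw [hN, hN]
    have hb' : b⁻¹ = t * b * t⁻¹ := htb.symm
    constructor
    · intro h
      have hc : Commute (t * n * t⁻¹) b⁻¹ := by
        rw [hb']
        show t * n * t⁻¹ * (t * b * t⁻¹) = t * b * t⁻¹ * (t * n * t⁻¹)
        rw [show t * n * t⁻¹ * (t * b * t⁻¹) = t * (n * b) * t⁻¹ by group, h]
        group
      simpa using hc.inv_right.eq
    · intro h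
      have hc : Commute (t * n * t⁻¹) (t * b * t⁻¹) := by
        rw [← hb']; exact (show Commute (t * n * t⁻¹) b from h).inv_right
      have e : t * (n * b) * t⁻¹ = t * (b * n) * t⁻¹ := by
        rw [show t * (n * b) * t⁻¹ = t * n * t⁻¹ * (t * b * t⁻¹) by group, hc.eq]
        group
      exact mul_left_cancel (mul_right_cancel e)
  let φ : ↥N ≃* ↥N :=
    { toFun := fun n => ⟨t * n * t⁻¹, (htN n).1 n.2⟩
      invFun := fun n => ⟨t⁻¹ * n * t, (htN _).2 (by
        rw [show t * (t⁻¹ * (n : G) * t) * t⁻¹ = (n : G) by group]; exact n.2)⟩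
      left_inv := fun n => Subtype.ext (by show t⁻¹ * (t * n * t⁻¹) * t = n; group)
      right_inv := fun n => Subtype.ext (by show t * (t⁻¹ * n * t) * t⁻¹ = n; group)
      map_mul' := fun a c => Subtype.ext (by
        show t * ((a : G) * c) * t⁻¹ = t * a * t⁻¹ * (t * c * t⁻¹); group) }
  set E := (Cfsg.layer ↥N).map N.subtype with hE
  have hstab : ∀ x ∈ E, t * x * t⁻¹ ∈ E := by
    rintro _ ⟨y, hy, rfl⟩
    exact ⟨φ y, (Components.layer_map_equiv φ).le ⟨y, hy, rfl⟩, rfl⟩
  refine ⟨t, ht2, hinvB, hstab, ?_⟩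
  rintro ⟨l, hl, hlx⟩
  set Bs := B.subgroupOf N
  have hBs : ∀ n : ↥N, n ∈ Bs ↔ (n : G) ∈ Subgroup.zpowers b := fun n => by
    show (n : G) ∈ B ↔ _
    rw [S.eqB]
  haveI : Bs.Normal := ⟨fun x hx n => by
    show (n : G) * (x : G) * (n : G)⁻¹ ∈ B
    have hxn : (n : G) * (x : G) = (x : G) * n := (Subgroup.mem_centralizer_iff.1 n.2 _ hx).symm
    rw [hxn, mul_inv_cancel_right]
    exact hx⟩
  have hss : s * s = 1 := by
    obtain ⟨g, rfl⟩ := isConj_iff.1 S.conj
    rw [show g * z * g⁻¹ * (g * z * g⁻¹) = g * (z * z) * g⁻¹ by group, S.data.hyp.zz, mul_one, mul_inv_cancel]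
  have hin : ∀ {x : G} {k : ℕ}, k < 64 → (k ≠ 0 ∧ (k < 8 ∨ k % 8 = 0)) → Cls z θ x (rv k) →
      ∃ n ∈ N, n * z * n⁻¹ = x := fun hk hk' hx => by
    obtain ⟨n, hnb, hnz⟩ := S.conj_in_cent hk ((norm64 hk).2 hk') hx
    exact ⟨n, (hN n).2 hnb, hnz⟩
  have hCQ : S.data.CQ ≤ E := S.data.CQ_le_layer hN hBs action S.s_mem S.ne S.s_ne_one hss
    (hin (k := 1) (by norm_num) ⟨by norm_num, Or.inl (by norm_num)⟩ S.cls_s)
    (fun j hj x hx => hin (Nat.pow_lt_pow_right (by norm_num) hj) (by interval_cases j <;> norm_num) hx)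
  have hlN : l ∈ N := Subgroup.map_subtype_le _ hl
  have hzE := hlx z (hCQ S.data.z_mem_CQ)
  rw [htz, mul_inv_cancel_right, eq_comm, mul_inv_eq_iff_eq_mul] at hzE
  have hlz : l ∈ Subgroup.centralizer ({z} : Set G) := Subgroup.mem_centralizer_singleton_iff.2 hzE
  have hsE := hlx s (hCQ S.s_mem)
  set h := l⁻¹ * t with hh
  have hhz : h ∈ Subgroup.centralizer ({z} : Set G) := mul_mem (inv_mem hlz) ht
  have hhs : h * s * h⁻¹ = s := by
    rw [show h * s * h⁻¹ = l⁻¹ * (t * s * t⁻¹) * l by rw [hh]; group, hsE]; group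
  have hhb : h * b * h⁻¹ = b ^ 6 := by
    rw [show h * b * h⁻¹ = l⁻¹ * (t * b * t⁻¹) * l by rw [hh]; group, htb]
    have hlb : Commute l b⁻¹ := (show Commute l b from (hN l).1 hlN).inv_right
    rw [mul_assoc, ← hlb.eq, inv_mul_cancel_left]
    exact inv_eq_of_mul_eq_one_right (by rw [← pow_succ', S.data.bp])
  obtain ⟨g, hg⟩ := QuotientGroup.mk'_surjective (Subgroup.center Co0) (π ⟨h, hhz⟩)
  have hgm : g ∈ monoSub := by
    rw [← classStab_one, ← S.data.hyp.mem_xImage S.cls_s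
      (not_cong_zero (fixed.ne_zero 1 (by norm_num) (by norm_num)) (fixed.short 1 (by norm_num)))]
    refine ⟨⟨h, hhz⟩, ⟨hhz, Subgroup.mem_centralizer_singleton_iff.2 ?_⟩, hg.symm⟩
    exact mul_inv_eq_iff_eq_mul.1 hhs
  exact mono_no_invert hgm (mul_inv_eq_iff_eq_mul.1 (S.data.conj_t hhz hg.symm hhb))

end Setup

end CfsgLib.MonsterType.Seven
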