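/-! Tables for the fixed classes of an element of order seven. -/

namespace CfsgLib.MonsterType.SevenData

/-- The permutation. -/
def tcode : Nat :=
  395933202655407089271262627774979458

/-- Shortest fixed vectors of the fixed classes. -/
def reps : List (List Int) :=
  [[0, 0, 0, 0, 0, 0, 0, 0, 0, 0, 0, 0, 0, 0, 0, 0, 0, 0, 0, 0, 0, 0, 0, 0],
    [0, 0, 0, -8, 0, 0, 0, 0, 0, 0, 0, 0, 0, 0, 0, 0, 0, 0, 0, 0, 0, 0, 0, 0],
    [0, -2, 0, -4, 0, 0, -2, 0, 0, 0, -4, -2, -2, 0, 0, -2, 0, -2, -2, 0, 0, 0, -2, 0],
    [0, -2, 0, -4, 0, 0, -2, 0, 0, 0, 4, -2, -2, 0, 0, -2, 0, -2, -2, 0, 0, 0, -2, 0],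
    [0, 0, 0, -4, 0, -2, 0, -2, 0, 0, -2, -4, 0, -2, -2, 0, -2, 0, 0, -2, -2, 0, 0, 0],
    [0, 0, 0, -4, 0, -2, 0, -2, 0, 0, -2, 4, 0, -2, -2, 0, -2, 0, 0, -2, -2, 0, 0, 0],
    [-2, 0, -2, -2, -2, 0, 0, 0, -2, -2, -4, -4, 0, 0, 0, 0, 0, 0, 0, 0, 0, -2, 0, -2],
    [-2, 0, -2, -2, -2, 0, 0, 0, -2, -2, -4, 4, 0, 0, 0, 0, 0, 0, 0, 0, 0, -2, 0, -2],
    [2, 0, 2, -6, 2, 0, 0, 0, 2, 2, 0, 0, 0, 0, 0, 0, 0, 0, 0, 0, 0, 2, 0, 2],
    [-2, 0, -2, -2, -2, 0, 0, 0, -2, -2, 0, 0, 0, 0, 0, 0, 0, 0, 0, 0, 0, -2, 0, -2],
    [0, 0, 0, -4, 0, 2, 0, 2, 0, 0, -2, 0, 0, 2, 2, 0, 2, 0, 0, 2, 2, 0, 0, 0],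
    [0, 0, 0, -4, 0, -2, 0, -2, 0, 0, 2, 0, 0, -2, -2, 0, -2, 0, 0, -2, -2, 0, 0, 0],
    [0, 2, 0, -4, 0, 0, 2, 0, 0, 0, 0, -2, 2, 0, 0, 2, 0, 2, 2, 0, 0, 0, 2, 0],
    [0, -2, 0, -4, 0, 0, -2, 0, 0, 0, 0, 2, -2, 0, 0, -2, 0, -2, -2, 0, 0, 0, -2, 0],
    [0, 0, 0, 0, 0, 0, 0, 0, 0, 0, -4, 4, 0, 0, 0, 0, 0, 0, 0, 0, 0, 0, 0, 0],
    [0, 0, 0, 0, 0, 0, 0, 0, 0, 0, -4, -4, 0, 0, 0, 0, 0, 0, 0, 0, 0, 0, 0, 0],
    [-1, 1, -1, -5, -1, 1, 1, 1, -1, -1, -3, -3, 1, 1, 1, 1, 1, 1, 1, 1, 1, -1, 1, -1],
    [1, -1, 1, -3, 1, -1, -1, -1, 1, 1, 3, 3, -1, -1, -1, -1, -1, -1, -1, -1, -1, 1, -1, 1],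
    [-1, -1, -1, -1, -1, 1, -1, 1, -1, -1, 1, -5, -1, 1, 1, -1, 1, -1, -1, 1, 1, -1, -1, -1],
    [-1, -1, -1, -1, -1, 1, -1, 1, -1, -1, 1, 3, -1, 1, 1, -1, 1, -1, -1, 1, 1, -1, -1, -1],
    [-1, 1, -1, -1, -1, -1, 1, -1, -1, -1, -5, 1, 1, -1, -1, 1, -1, 1, 1, -1, -1, -1, 1, -1],
    [-1, 1, -1, -1, -1, -1, 1, -1, -1, -1, 3, 1, 1, -1, -1, 1, -1, 1, 1, -1, -1, -1, 1, -1],
    [1, 1, 1, -3, 1, 1, 1, 1, 1, 1, 1, 1, 1, 1, 1, 1, 1, 1, 1, 1, 1, 1, 1, 1],
    [-1, -1, -1, -5, -1, -1, -1, -1, -1, -1, -1, -1, -1, -1, -1, -1, -1, -1, -1, -1, -1, -1, -1, -1],
    [-1, -1, -1, -5, -1, -1, -1, -1, -1, -1, 3, 3, -1, -1, -1, -1, -1, -1, -1, -1, -1, -1, -1, -1],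
    [1, 1, 1, -3, 1, 1, 1, 1, 1, 1, -3, -3, 1, 1, 1, 1, 1, 1, 1, 1, 1, 1, 1, 1],
    [-1, 1, -1, -1, -1, -1, 1, -1, -1, -1, -1, -3, 1, -1, -1, 1, -1, 1, 1, -1, -1, -1, 1, -1],
    [-1, 1, -1, -1, -1, -1, 1, -1, -1, -1, -1, 5, 1, -1, -1, 1, -1, 1, 1, -1, -1, -1, 1, -1],
    [-1, -1, -1, -1, -1, 1, -1, 1, -1, -1, -3, -1, -1, 1, 1, -1, 1, -1, -1, 1, 1, -1, -1, -1],
    [-1, -1, -1, -1, -1, 1, -1, 1, -1, -1, 5, -1, -1, 1, 1, -1, 1, -1, -1, 1, 1, -1, -1, -1],
    [1, -1, 1, -3, 1, -1, -1, -1, 1, 1, -1, -1, -1, -1, -1, -1, -1, -1, -1, -1, -1, 1, -1, 1],
    [-1, 1, -1, -5, -1, 1, 1, 1, -1, -1, 1, 1, 1, 1, 1, 1, 1, 1, 1, 1, 1, -1, 1, -1],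
    [-1, -1, -1, -5, -1, 1, -1, 1, -1, -1, -3, 3, -1, 1, 1, -1, 1, -1, -1, 1, 1, -1, -1, -1],
    [1, 1, 1, -3, 1, -1, 1, -1, 1, 1, 3, -3, 1, -1, -1, 1, -1, 1, 1, -1, -1, 1, 1, 1],
    [-1, 1, -1, -1, -1, 1, 1, 1, -1, -1, 1, 5, 1, 1, 1, 1, 1, 1, 1, 1, 1, -1, 1, -1],
    [-1, 1, -1, -1, -1, 1, 1, 1, -1, -1, 1, -3, 1, 1, 1, 1, 1, 1, 1, 1, 1, -1, 1, -1],
    [-1, -1, -1, -1, -1, -1, -1, -1, -1, -1, 3, -1, -1, -1, -1, -1, -1, -1, -1, -1, -1, -1, -1, -1],
    [-1, -1, -1, -1, -1, -1, -1, -1, -1, -1, -5, -1, -1, -1, -1, -1, -1, -1, -1, -1, -1, -1, -1, -1],
    [-1, 1, -1, -5, -1, -1, 1, -1, -1, -1, -1, 1, 1, -1, -1, 1, -1, 1, 1, -1, -1, -1, 1, -1],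
    [1, -1, 1, -3, 1, 1, -1, 1, 1, 1, 1, -1, -1, 1, 1, -1, 1, -1, -1, 1, 1, 1, -1, 1],
    [-1, 1, -1, -5, -1, -1, 1, -1, -1, -1, 3, -3, 1, -1, -1, 1, -1, 1, 1, -1, -1, -1, 1, -1],
    [1, -1, 1, -3, 1, 1, -1, 1, 1, 1, -3, 3, -1, 1, 1, -1, 1, -1, -1, 1, 1, 1, -1, 1],
    [-1, -1, -1, -1, -1, -1, -1, -1, -1, -1, -1, 3, -1, -1, -1, -1, -1, -1, -1, -1, -1, -1, -1, -1],
    [-1, -1, -1, -1, -1, -1, -1, -1, -1, -1, -1, -5, -1, -1, -1, -1, -1, -1, -1, -1, -1, -1, -1, -1],
    [-1, 1, -1, -1, -1, 1, 1, 1, -1, -1, 5, 1, 1, 1, 1, 1, 1, 1, 1, 1, 1, -1, 1, -1],
    [-1, 1, -1, -1, -1, 1, 1, 1, -1, -1, -3, 1, 1, 1, 1, 1, 1, 1, 1, 1, 1, -1, 1, -1],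
    [-1, -1, -1, -5, -1, 1, -1, 1, -1, -1, 1, -1, -1, 1, 1, -1, 1, -1, -1, 1, 1, -1, -1, -1],
    [1, 1, 1, -3, 1, -1, 1, -1, 1, 1, -1, 1, 1, -1, -1, 1, -1, 1, 1, -1, -1, 1, 1, 1],
    [-2, 0, -2, -2, -2, -2, 0, -2, -2, -2, -2, 0, 0, -2, -2, 0, -2, 0, 0, -2, -2, -2, 0, -2],
    [0, -2, 0, 0, 0, 0, -2, 0, 0, 0, 0, -2, -2, 0, 0, -2, 0, -2, -2, 0, 0, 0, -2, 0],
    [0, 0, 0, -4, 0, 0, 0, 0, 0, 0, 4, 0, 0, 0, 0, 0, 0, 0, 0, 0, 0, 0, 0, 0],
    [0, 0, 0, -4, 0, 0, 0, 0, 0, 0, -4, 0, 0, 0, 0, 0, 0, 0, 0, 0, 0, 0, 0, 0],
    [2, 0, 2, -2, 2, 0, 0, 0, 2, 2, 0, -4, 0, 0, 0, 0, 0, 0, 0, 0, 0, 2, 0, 2],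
    [2, 0, 2, -2, 2, 0, 0, 0, 2, 2, 0, 4, 0, 0, 0, 0, 0, 0, 0, 0, 0, 2, 0, 2],
    [0, 0, 0, 0, 0, 2, 0, 2, 0, 0, -2, -4, 0, 2, 2, 0, 2, 0, 0, 2, 2, 0, 0, 0],
    [0, 0, 0, 0, 0, 2, 0, 2, 0, 0, -2, 4, 0, 2, 2, 0, 2, 0, 0, 2, 2, 0, 0, 0],
    [-2, -2, -2, -2, -2, 0, -2, 0, -2, -2, 0, -2, -2, 0, 0, -2, 0, -2, -2, 0, 0, -2, -2, -2],
    [0, 0, 0, 0, 0, -2, 0, -2, 0, 0, -2, 0, 0, -2, -2, 0, -2, 0, 0, -2, -2, 0, 0, 0],
    [2, 0, 2, -2, 2, 0, 0, 0, 2, 2, -4, 0, 0, 0, 0, 0, 0, 0, 0, 0, 0, 2, 0, 2],
    [2, 0, 2, -2, 2, 0, 0, 0, 2, 2, 4, 0, 0, 0, 0, 0, 0, 0, 0, 0, 0, 2, 0, 2],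
    [0, 0, 0, -4, 0, 0, 0, 0, 0, 0, 0, 4, 0, 0, 0, 0, 0, 0, 0, 0, 0, 0, 0, 0],
    [0, 0, 0, -4, 0, 0, 0, 0, 0, 0, 0, -4, 0, 0, 0, 0, 0, 0, 0, 0, 0, 0, 0, 0],
    [0, 2, 0, 0, 0, 0, 2, 0, 0, 0, -4, -2, 2, 0, 0, 2, 0, 2, 2, 0, 0, 0, 2, 0],
    [0, -2, 0, 0, 0, 0, -2, 0, 0, 0, -4, 2, -2, 0, 0, -2, 0, -2, -2, 0, 0, 0, -2, 0]]

/-- The classes of the averaged generators. -/
def avg : List Nat :=
  [50, 0, 50, 59, 60, 60, 50, 0, 60, 60, 5, 3, 22, 1, 61, 1, 1, 1, 51, 61, 51, 1, 1, 51, 61, 61, 51, 51, 61, 51, 61, 61, 51, 51, 1, 61, 0, 60, 0, 0, 0, 50, 60, 50, 0, 0, 50, 60, 60, 50, 50, 60, 50, 60, 60, 50, 50, 0, 60]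

/-- Centralizing words to the first class. -/
def wordsW : List (List (Option (Nat × Nat))) :=
  [[],
    [],
    [some (634277494901781593516699440647821670, 3444), none, some (353203243998448295899662369366460421, 1448), none, some (709412300241121091351129142276120224, 226)],
    [some (360095351555955063182299478906585705, 800), none, some (170158014421160468534660644644324614, 1130), none, some (67156770391184900171567673395953088, 459)],
    [some (505867464655662496129047558850584719, 1711), none, some (927607614148802180677781683470158312, 2149), none, some (433941425003113756107233041387105505, 432)],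
    [some (350947970837623434866981793906899974, 2924), none, some (850306452938401430723713178673581770, 1919), none, some (749291972759653622670461412913089056, 2697)],
    [some (847783180403721451928077780365520209, 916), none, some (770311081514634052917461838043229795, 1895), none, some (683747364790160952956742616722050336, 2566)],
    [some (141722326385662623853552386407277225, 2218), none, some (457543321539250282306513203431093350, 269), none, some (959728750197756851895586366203233728, 2409)]]

/-- Inverting words to the first class. -/
def wordsU : List (List (Option (Nat × Nat))) :=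
  [[],
    [some (400504624302030783877060007825082496, 863), none, some (754546458878786802022068022915030408, 3980), none, some (421518610753039646163038059933803680, 1943)],
    [some (209852469839162798790053987045064911, 3700), none, some (313215627632602465968965769795109285, 1255), none, some (47325727298459713426930111951388172, 3596), none, some (816707292601002204834335631673133568, 1331)],
    [some (230336722127987063824930430339404819, 2317), none, some (835520403577815556512127484194164937, 381), none, some (97011244888591789327291639808433440, 328), none, some (796584171602792522725554186000943584, 3780)],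
    [some (403786191158019141144624114310841363, 384), none, some (5248276161988605966513685329694056, 2700), none, some (423399234268460000563530622758829132, 3478), none, some (388627793722607430641830489182425120, 814)],
    [some (666241072794912072132138690986530997, 1149), none, some (928716424504279766235303475188994723, 1031), none, some (217571572307646995237543460069222927, 116), none, some (775858200355959871290328748238610497, 2028)],
    [some (708870617614462436612281413491962223, 1778), none, some (387582229976473461595895112191302023, 2556), none, some (559112793013642663926504487862274400, 545)],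
    [some (718373279885689770815587359119348460, 999), none, some (417997804123988008242983636118905559, 1282), none, some (516963368191740176341079240884668960, 966)]]

/-- First generator. -/
def wordA : List (Option (Nat × Nat)) :=
  [some (505867464655662496129047558850584719, 1711), none, some (927607614148802180677781683470158312, 2149), none, some (433941425003113756107233041387105505, 432)]

/-- Second generator. -/
def wordB : List (Option (Nat × Nat)) :=
  [some (360095351555955063182299478906585705, 800), none, some (170158014421160468534660644644324614, 1130), none, some (67156770391184900171567673395953088, 459)]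

/-- Products giving all the images. -/
def seqs : List (List Bool) :=
  [[],
    [false],
    [true],
    [false, false],
    [false, true],
    [true, false],
    [true, true],
    [false, false, false],
    [false, false, true],
    [false, true, false],
    [false, true, true],
    [true, false, false],
    [true, false, true],
    [true, true, false],
    [true, true, true],
    [false, false, false, false],
    [false, false, false, true],
    [false, false, true, false],
    [false, false, true, true],
    [false, true, false, false],
    [false, true, false, true],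
    [false, true, true, false],
    [false, true, true, true],
    [true, false, false, false],
    [true, false, false, true],
    [true, false, true, false],
    [true, false, true, true],
    [true, true, false, false],
    [true, true, false, true],
    [true, true, true, false],
    [true, true, true, true],
    [false, false, false, false, false],
    [false, false, false, false, true],
    [false, false, false, true, false],
    [false, false, false, true, true],
    [false, false, true, false, true],
    [false, false, true, true, false],
    [false, false, true, true, true],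
    [false, true, false, false, false],
    [false, true, false, false, true],
    [false, true, false, true, false],
    [false, true, false, true, true],
    [false, true, true, false, false],
    [false, true, true, false, true],
    [false, true, true, true, true],
    [true, false, false, false, false],
    [true, false, false, true, false],
    [true, false, false, true, true],
    [true, false, true, false, false],
    [true, false, true, false, true],
    [true, false, true, true, false],
    [true, false, true, true, true],
    [true, true, false, false, false],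
    [true, true, false, false, true],
    [true, true, false, true, false],
    [true, true, true, false, false],
    [true, true, true, false, true],
    [true, true, true, true, false],
    [true, true, true, true, true],
    [false, false, false, false, false, true],
    [false, false, false, false, true, false],
    [false, false, false, false, true, true],
    [false, false, false, true, false, true],
    [false, false, false, true, true, false],
    [false, false, false, true, true, true],
    [false, false, true, false, true, false],
    [false, false, true, false, true, true],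
    [false, false, true, true, false, false],
    [false, false, true, true, false, true],
    [false, false, true, true, true, true],
    [false, true, false, false, false, false],
    [false, true, false, false, true, false],
    [false, true, false, false, true, true],
    [false, true, false, true, false, false],
    [false, true, false, true, true, false],
    [false, true, false, true, true, true],
    [false, true, true, false, false, false],
    [false, true, true, false, false, true],
    [false, true, true, false, true, false],
    [false, true, true, true, true, false],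
    [false, true, true, true, true, true],
    [true, false, false, false, false, false],
    [true, false, false, true, false, true],
    [true, false, false, true, true, false],
    [true, false, false, true, true, true],
    [true, false, true, false, false, false],
    [true, false, true, false, false, true],
    [true, false, true, false, true, true],
    [true, false, true, true, true, true],
    [true, true, false, false, false, false],
    [true, true, false, false, true, true],
    [true, true, false, true, false, true],
    [true, true, true, false, false, true],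
    [true, true, true, false, true, false],
    [true, true, true, true, false, false],
    [true, true, true, true, false, true],
    [true, true, true, true, true, false],
    [false, false, false, false, false, true, false],
    [false, false, false, false, false, true, true],
    [false, false, false, false, true, false, true],
    [false, false, false, false, true, true, false],
    [false, false, false, false, true, true, true],
    [false, false, false, true, false, true, false],
    [false, false, false, true, true, false, false],
    [false, false, false, true, true, false, true],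
    [false, false, false, true, true, true, true],
    [false, false, true, false, true, true, false],
    [false, false, true, true, false, false, false],
    [false, false, true, true, false, false, true],
    [false, false, true, true, false, true, false],
    [false, false, true, true, true, true, false],
    [false, false, true, true, true, true, true],
    [false, true, false, false, false, false, false],
    [false, true, false, false, true, true, true],
    [false, true, false, true, false, false, false],
    [false, true, false, true, false, false, true],
    [false, true, false, true, true, true, true],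
    [false, true, true, false, false, false, false],
    [false, true, true, false, false, true, true],
    [false, true, true, false, true, false, true],
    [false, true, true, true, true, false, false],
    [false, true, true, true, true, false, true],
    [false, true, true, true, true, true, false],
    [true, false, false, false, false, false, true],
    [true, false, false, true, false, true, false],
    [true, false, false, true, false, true, true],
    [true, false, false, true, true, false, false],
    [true, false, true, false, false, false, false],
    [true, false, true, false, false, true, true],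
    [true, false, true, false, true, true, false],
    [true, false, true, false, true, true, true],
    [true, false, true, true, true, true, false],
    [true, false, true, true, true, true, true],
    [true, true, false, false, true, true, false],
    [true, true, false, false, true, true, true],
    [true, true, true, false, false, true, true],
    [true, true, true, false, true, false, true],
    [true, true, true, true, false, true, false],
    [true, true, true, true, true, false, true],
    [false, false, false, false, false, true, true, false],
    [false, false, false, false, false, true, true, true],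
    [false, false, false, false, true, false, true, false],
    [false, false, false, false, true, true, false, false],
    [false, false, false, false, true, true, false, true],
    [false, false, false, false, true, true, true, true],
    [false, false, false, true, true, false, false, false],
    [false, false, false, true, true, false, true, false],
    [false, false, false, true, true, true, true, true],
    [false, false, true, true, false, false, false, false],
    [false, false, true, true, false, false, true, true],
    [false, false, true, true, true, true, false, true],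
    [false, true, false, false, false, false, false, true],
    [false, true, false, true, false, false, false, false],
    [false, true, false, true, true, true, true, false],
    [false, true, true, true, true, false, true, false],
    [false, true, true, true, true, true, false, true],
    [true, false, false, false, false, false, true, false],
    [true, false, false, true, false, true, true, false],
    [true, false, true, false, true, true, true, true],
    [true, false, true, true, true, true, false, false],
    [true, false, true, true, true, true, true, false],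
    [true, true, false, false, true, true, false, false],
    [true, true, true, false, false, true, true, true],
    [true, true, true, true, false, true, false, true],
    [false, false, false, false, false, true, true, false, false],
    [false, false, false, false, false, true, true, true, true],
    [false, false, false, false, true, true, true, true, true],
    [false, true, true, true, true, false, true, false, true]]

/-- An element inducing the power 2. -/
def normStep : List (Option (Nat × Nat)) :=
  [some (220194067259519017671310130755747975, 0)]

/-- Its exponent. -/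
def normExp : Nat :=
  2

/-- Conjugating word. -/
def conjWord : List (Option (Nat × Nat)) :=
  [none, some (944065198855401058240096356054245742, 3248), none, some (269274878522085839011319884795797192, 2872)]

/-- Its inverse. -/
def conjWordInv : List (Option (Nat × Nat)) :=
  [some (84748209578249266672472385680455140, 741), none, some (943910951489271479521273201506371956, 714), none]

/-- A dodecad. -/
def signCode : Nat :=
  1359

/-- Invariant words of the code. -/
def fixCode : List Nat :=
  [0, 797, 1184, 1981, 2114, 2911, 3298, 4095]

end CfsgLib.MonsterType.SevenData
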