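import Cfsg.Agent.Lib.MonsterType.Words
import Cfsg.Agent.Lib.MonsterType.SevenData
import Cfsg.Agent.Lib.M24Elt.CentData

/-! The coded element of order seven. -/

set_option autoImplicit false

namespace CfsgLib.MonsterType.Seven

open Cfsg CfsgLib CfsgLib.Leech CfsgLib.MonsterQ CfsgLib.MonsterType
open CfsgLib.Leech.Orbits (vecOf)

/-- The step of the distinguished permutation. -/
def tS : Step := some (SevenData.tcode, 0)

/-- The identity permutation. -/
def idCode : ℕ := (List.range 24).foldl (fun a i => a + i * 2 ^ (5 * i)) 0

/-- The table entries. -/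
abbrev row (k : ℕ) : List ℤ := SevenData.reps.getD k []


end CfsgLib.MonsterType.Seven
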