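import Cfsg.Agent.Lib.MonsterType.SevenBase

/-! Kernel check of the table of fixed classes. -/

set_option autoImplicit false

namespace CfsgLib.MonsterType.Seven

open Cfsg CfsgLib CfsgLib.Leech CfsgLib.MonsterQ CfsgLib.MonsterType
open CfsgLib.Leech.Orbits (vecOf)

theorem fix_check : fixB 7 SevenData.tcode 6 SevenData.reps SevenData.avg = true := by decide +kernel

theorem frame_check : (leechB (vecOf (unitL 23)) && congB (row 1) (unitL 23) &&
    (List.range 64).all fun k =>
      decide (((List.range 24).map fun i => (row k).getD i 0 * (row k).getD i 0).sum = 64) == (!Nat.beq k 0 && (Nat.blt k 8 || Nat.beq (k % 8) 0))) = true := by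
  decide +kernel


end CfsgLib.MonsterType.Seven
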