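import Cfsg.Agent.Lib.MonsterType.SevenBase

/-! Kernel checks of the generators and of the automizing elements. -/

set_option autoImplicit false

namespace CfsgLib.MonsterType.Seven

open Cfsg CfsgLib CfsgLib.Leech CfsgLib.MonsterQ CfsgLib.MonsterType
open CfsgLib.Leech.Orbits (vecOf)

/-- Images of the indices under the first generator. -/
def imgA : List ℕ := [0, 3, 4, 7, 1, 2, 5, 6]

/-- Images of the indices under the second generator. -/
def imgB : List ℕ := [0, 6, 7, 1, 5, 3, 2, 4]

/-- Image of an index under a product of generators. -/
def imgS : List Bool → ℕ → ℕ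
  | [], k => k
  | b :: s, k => imgS s ((bif b then imgB else imgA).getD k 0)

theorem gens_check : (eqW (tS :: SevenData.wordA) (SevenData.wordA ++ [tS]) &&
    eqW (tS :: SevenData.wordB) (SevenData.wordB ++ [tS]) &&
    (List.range 8).all fun k => Nat.blt (imgA.getD k 8) 8 && Nat.blt (imgB.getD k 8) 8 &&
      mapsB SevenData.wordA (row k) (row (imgA.getD k 8)) &&
      mapsB SevenData.wordB (row k) (row (imgB.getD k 8))) = true := by
  decide +kernel

theorem seqs_check : Nat.beq SevenData.seqs.length 168 = true ∧
    (SevenData.seqs.map fun s => (List.range 8).map (imgS s)).Nodup := by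
  decide +kernel

theorem auto_check : (eqW (tS :: SevenData.normStep)
      (SevenData.normStep ++ List.replicate SevenData.normExp tS) &&
    eqW (SevenData.conjWord ++ SevenData.conjWordInv) [] &&
    eqW (tS :: (SevenData.conjWordInv ++ some (idCode, SevenData.signCode) :: SevenData.conjWord))
      ((SevenData.conjWordInv ++ some (idCode, SevenData.signCode) :: SevenData.conjWord) ++
        List.replicate 6 tS)) = true := by
  decide +kernel


end CfsgLib.MonsterType.Seven
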