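import Cfsg.Agent.Lib.MonsterType.SevenBase

/-! Kernel checks of the connecting words. -/

set_option autoImplicit false

namespace CfsgLib.MonsterType.Seven

open Cfsg CfsgLib CfsgLib.Leech CfsgLib.MonsterQ CfsgLib.MonsterType
open CfsgLib.Leech.Orbits (vecOf)

/-- The checks on the words of one index. -/
def wordsB (j : ℕ) : Bool :=
  mapsB (SevenData.wordsW.getD (j + 1) []) (row (j + 1)) (row 1) &&
    eqW (tS :: SevenData.wordsW.getD (j + 1) []) (SevenData.wordsW.getD (j + 1) [] ++ [tS]) &&
    mapsB (SevenData.wordsU.getD (j + 1) []) (row (8 * (j + 1))) (row 1) &&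
    eqW (tS :: SevenData.wordsU.getD (j + 1) [])
      (SevenData.wordsU.getD (j + 1) [] ++ List.replicate 6 tS)

theorem wordsB_0 : wordsB 0 = true := by decide +kernel

theorem wordsB_1 : wordsB 1 = true := by decide +kernel

theorem wordsB_2 : wordsB 2 = true := by decide +kernel

theorem wordsB_3 : wordsB 3 = true := by decide +kernel

theorem wordsB_4 : wordsB 4 = true := by decide +kernel

theorem wordsB_5 : wordsB 5 = true := by decide +kernel

theorem wordsB_6 : wordsB 6 = true := by decide +kernel

theorem words_check : ((List.range 7).all wordsB) = true := by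
  simp only [List.range_succ, List.range_zero, List.all_append, List.all_nil, List.all_cons,
    wordsB_0, wordsB_1, wordsB_2, wordsB_3, wordsB_4, wordsB_5, wordsB_6, Bool.and_self]

end CfsgLib.MonsterType.Seven
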