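import Cfsg.Agent.Lib.MonsterType.SevenCheckFix
import Cfsg.Agent.Lib.MonsterType.SevenCheckWords
import Cfsg.Agent.Lib.MonsterType.SevenCheckGens
import Cfsg.Agent.S5604

/-! Kernel checks of the tables for the element of order seven. -/

set_option autoImplicit false

namespace CfsgLib.MonsterType.Seven

open Cfsg CfsgLib CfsgLib.Leech CfsgLib.MonsterQ CfsgLib.MonsterType
open CfsgLib.Comp

theorem id_check : (Trans.okT idCode && (List.range 24).all fun i => Nat.beq (Trans.img idCode i) i) = true := by
  decide +kernel

theorem code_check : ((List.range 4096).all fun x =>
    !((List.range 24).all fun i => (Golay.comb x).testBit (Trans.img SevenData.tcode i) == (Golay.comb x).testBit i) ||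
      SevenData.fixCode.contains x) = true := by
  decide +kernel

theorem perm_check : (M24Elt.good M24Elt.CentData.rep7 && (List.range 24).all fun i =>
    Nat.beq (PermCode.get M24Elt.CentData.rep7 i) (Trans.img SevenData.tcode i)) = true := by
  decide +kernel


end CfsgLib.MonsterType.Seven
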