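import Cfsg.Agent.Lib.MonsterType.Seven
import Cfsg.Agent.Lib.MonsterType.Swap

/-! The centralizer and the automizer of a Sylow 7-subgroup of the joint centralizer. -/

set_option autoImplicit false
set_option linter.style.haveILetI false

namespace CfsgLib.MonsterType.Seven

open Cfsg CfsgLib CfsgLib.Leech CfsgLib.MonsterQ CfsgLib.MonsterType

variable {G : Type*} [Group G]

/-- The element, the conjugate `s`, and their coordinates. -/
structure Setup (z s : G) (Q B : Subgroup G) (π : ↥(Subgroup.centralizer ({z} : Set G)) →* Spor.Co1)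
    (θ : leechLattice → G) (b : G) : Prop where
  data : CentData z Q π θ b 7 6 tt rv
  sQ : s ∈ Q
  conj : IsConj z s
  ne : s ≠ z
  cls : Cls z θ s (eightVec none)
  eqB : B = Subgroup.zpowers b
  swap : ∃ n ∈ Subgroup.normalizer (B : Set G), n * z * n⁻¹ = s ∧ n * s * n⁻¹ = z

theorem exists_setup [Finite G] {z : G} {Q : Subgroup ↥(Subgroup.centralizer ({z} : Set G))} [Q.Normal]
    (hM : Cfsg.IsOfMonsterType z Q) {s : G}
    (hsQ : ∃ hsc : s ∈ Subgroup.centralizer ({z} : Set G), (⟨s, hsc⟩ : Subgroup.centralizer ({z} : Set G)) ∈ Q)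
    (hs : IsConj z s) (hs1 : s ≠ z) {B : Subgroup G} (hB : B ≤ Subgroup.centralizer ({z, s} : Set G))
    (hBp : Nat.card B = 7 ^ (Nat.card ↥(Subgroup.centralizer ({z, s} : Set G))).factorization 7) :
    ∃ (Q' : Subgroup G) (π : ↥(Subgroup.centralizer ({z} : Set G)) →* Spor.Co1) (θ : leechLattice → G) (b : G),
      Setup z s Q' B π θ b := by
  haveI : Fact (Nat.Prime 7) := ⟨Nat.prime_seven⟩
  obtain ⟨e, θ, H⟩ := of_monsterType hM
  obtain ⟨π₁, θ₁, H₁, hc₁⟩ := normal_frame H (mem_map_of_exists hsQ) hs hs1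
  have h7 : (Nat.card M24).factorization 7 = 1 := by
    rw [Golay.card_M24, show (244823040 : ℕ) = 7 * 34974720 by norm_num,
      Nat.factorization_mul (by norm_num) (by norm_num), Finsupp.add_apply, Nat.prime_seven.factorization,
      Finsupp.single_eq_same, Nat.factorization_eq_zero_of_not_dvd (by norm_num)]
  obtain ⟨-, π', θ', b, hb, H', hc', hord, hBb, hπ⟩ :=
    normal_sylow H₁ (mem_map_of_exists hsQ) hs hs1 hc₁ (by norm_num) h7 tt_mem tt_ord hB hBp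
  exact ⟨_, π', θ', b, ⟨H', fixed, Nat.prime_seven, by norm_num, hord, hb, hπ⟩, mem_map_of_exists hsQ, hs, hs1,
    hc', hBb, exists_swap H' (mem_map_of_exists hsQ) hs hs1 hc' 7 hB hBp⟩

/-- Every power map of `⟨tt⟩` is induced. -/
theorem exists_auto {k : ℕ} (hk : k % 7 ≠ 0) : ∃ g : Co0, g * tt * g⁻¹ = tt ^ k := by
  have hmul : ∀ {a c : ℕ}, (∃ g : Co0, g * tt * g⁻¹ = tt ^ a) → (∃ g : Co0, g * tt * g⁻¹ = tt ^ c) →
      ∃ g : Co0, g * tt * g⁻¹ = tt ^ (a * c % 7) := by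
    rintro a c ⟨g, hg⟩ ⟨g', hg'⟩
    refine ⟨g * g', ?_⟩
    rw [show g * g' * tt * (g * g')⁻¹ = g * (g' * tt * g'⁻¹) * g⁻¹ by group, hg', ← conj_pow, hg, ← pow_mul,
      Cfsg.Agent.S5604.pow_eq_mod fixed.pow]
  have h6 : ∃ g : Co0, g * tt * g⁻¹ = tt ^ 6 :=
    ⟨wU 1, mul_inv_eq_iff_eq_mul.2 (wU_spec le_rfl (by norm_num)).1⟩
  have h2 : ∃ g : Co0, g * tt * g⁻¹ = tt ^ 2 := by
    have h := auto_check
    simp only [Bool.and_eq_true] at h
    exact ⟨_, mul_inv_eq_iff_eq_mul.2 (eqW_conj h.1.1)⟩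
  have h1 : ∃ g : Co0, g * tt * g⁻¹ = tt ^ 1 := ⟨1, by group⟩
  have h4 : ∃ g : Co0, g * tt * g⁻¹ = tt ^ 4 := hmul h2 h2
  have h5 : ∃ g : Co0, g * tt * g⁻¹ = tt ^ 5 := hmul h6 h2
  have h3 : ∃ g : Co0, g * tt * g⁻¹ = tt ^ 3 := hmul h6 h4
  obtain ⟨g, hg⟩ : ∃ g : Co0, g * tt * g⁻¹ = tt ^ (k % 7) := by
    have := Nat.mod_lt k (by norm_num : 7 > 0)
    interval_cases h : k % 7
    exacts [absurd rfl hk, h1, h2, h3, h4, h5, h6]
  exact ⟨g, by rw [hg, ← Cfsg.Agent.S5604.pow_eq_mod fixed.pow]⟩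

namespace Setup

variable {z s : G} {Q B : Subgroup G} {π : ↥(Subgroup.centralizer ({z} : Set G)) →* Spor.Co1}
  {θ : leechLattice → G} {b : G} (S : Setup z s Q B π θ b)
include S

theorem mem_normalizer [Finite G] {h : G} {k : ℕ} (hk : h * b * h⁻¹ = b ^ k) :
    h ∈ Subgroup.normalizer (B : Set G) := by
  rw [S.eqB]
  exact Cfsg.Agent.S5604.mem_normalizer_zpowers (hk ▸ pow_mem (Subgroup.mem_zpowers b) k)

theorem exists_exp [Finite G] {n : G} (hn : n ∈ Subgroup.normalizer (B : Set G)) :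
    ∃ k : ℕ, k % 7 ≠ 0 ∧ n * b * n⁻¹ = b ^ k := by
  have h := (Subgroup.mem_normalizer_iff.1 hn b).1 (S.eqB ▸ Subgroup.mem_zpowers b)
  rw [S.eqB, ← mem_powers_iff_mem_zpowers] at h
  obtain ⟨k, hk⟩ := h
  refine ⟨k, fun e => ?_, hk.symm⟩
  have hk' : b ^ k = n * b * n⁻¹ := hk
  rw [Cfsg.Agent.S5604.pow_eq_mod S.data.bp, e, pow_zero, eq_comm, conj_eq_one_iff] at hk'
  have := S.data.ord
  rw [hk', orderOf_one] at this
  norm_num at this

/-- The automizer inside `C(z)` is full. -/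
theorem exists_lift [Finite G] {k : ℕ} (hk : k % 7 ≠ 0) :
    ∃ h ∈ Subgroup.centralizer ({z} : Set G), h * b * h⁻¹ = b ^ k := by
  obtain ⟨g, hg⟩ := exists_auto hk
  obtain ⟨h, hh, -, hb⟩ := S.data.lift hg
  exact ⟨h, hh, hb⟩

theorem cls_s : Cls z θ s (rv 1) := S.data.hyp.cls_of_cong S.cls rv_one_cong.symm

theorem s_mem : s ∈ S.data.CQ := S.data.cls_rv_mem (by norm_num) S.cls_s

theorem s_ne_one : s ≠ 1 := fun e => by
  obtain ⟨g, hg⟩ := isConj_iff.1 S.conj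
  rw [e, conj_eq_one_iff] at hg
  exact S.data.hyp.S.ne_one hg

/-- A conjugate of `z` in the fixed subgroup is conjugate to it by an element centralizing `b`. -/
theorem conj_in_cent [Finite G] {x : G} {k : ℕ} (hk : k < 64) (h64 : sqNorm (rv k : GolayPt → ℤ) = 64)
    (hx : Cls z θ x (rv k)) : ∃ n : G, n * b = b * n ∧ n * z * n⁻¹ = x := by
  obtain ⟨hk0, hk'⟩ := (norm64 hk).1 h64
  obtain ⟨g, e, hge, hgc⟩ : ∃ g : Co0, ∃ e : ℕ, g * tt * g⁻¹ = tt ^ e ∧ Cong (g • rv k) (rv 1) := by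
    rcases hk' with h8 | hU
    · obtain ⟨h1, h2⟩ := wW_spec (by omega) h8
      exact ⟨_, 1, by rw [pow_one, h1, mul_inv_cancel_right], h2⟩
    · obtain ⟨m, rfl⟩ : ∃ m, k = 8 * m := ⟨k / 8, by omega⟩
      obtain ⟨h1, h2⟩ := wU_spec (k := m) (by omega) (by omega)
      exact ⟨_, 6, mul_inv_eq_iff_eq_mul.2 h1, h2⟩
  obtain ⟨h, hh, hπ, hb⟩ := S.data.lift hge
  have hcl : Cls z θ (h * x * h⁻¹) (rv 1) := S.data.hyp.cls_of_cong (S.data.hyp.cls_conj hx ⟨h, hh⟩ hπ) hgc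
  have hhn := S.mem_normalizer hb
  -- adjust inside the fixed subgroup so that x goes to s
  obtain ⟨h', hh', hh'n, hxs⟩ : ∃ h' ∈ Subgroup.centralizer ({z} : Set G),
      h' ∈ Subgroup.normalizer (B : Set G) ∧ h' * x * h'⁻¹ = s := by
    rcases S.data.hyp.eq_of_cls S.cls_s hcl with e1 | e1
    · exact ⟨h, hh, hhn, e1⟩
    · obtain ⟨q, hq, hqs⟩ := S.data.flip_CQ S.s_mem S.s_ne_one S.ne
      have hqn : q ∈ Subgroup.normalizer (B : Set G) := S.mem_normalizer (k := 1) (by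
        rw [pow_one, (S.data.mem_CQ.1 hq).2, mul_inv_cancel_right])
      refine ⟨q * h, mul_mem (S.data.hyp.le (S.data.mem_CQ.1 hq).1) hh, mul_mem hqn hhn, ?_⟩
      rw [show q * h * x * (q * h)⁻¹ = q * (h * x * h⁻¹) * q⁻¹ by group, e1,
        show q * (s * z) * q⁻¹ = q * s * q⁻¹ * (q * z * q⁻¹) by group, hqs,
        S.data.hyp.S.le_cent q (S.data.mem_CQ.1 hq).1, mul_inv_cancel_right, mul_assoc, S.data.hyp.zz, mul_one]
  obtain ⟨n₀, hn₀, hn₀z, -⟩ := S.swap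
  have hn : h'⁻¹ * n₀ ∈ Subgroup.normalizer (B : Set G) := mul_mem (inv_mem hh'n) hn₀
  obtain ⟨a, ha, hna⟩ := S.exists_exp hn
  obtain ⟨j, hj⟩ : ∃ j, a * j % 7 = 1 := by
    refine ⟨a ^ 5, ?_⟩
    have hm := Nat.mod_lt a (by norm_num : 7 > 0)
    rw [← pow_succ', Nat.pow_mod]
    interval_cases a % 7 <;> simp at ha ⊢
  obtain ⟨m, hm, hmb⟩ := S.exists_lift (k := j) (fun e => by simp [Nat.mul_mod, e] at hj)
  refine ⟨h'⁻¹ * n₀ * m, ?_, ?_⟩
  · rw [← mul_inv_eq_iff_eq_mul,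
      show h'⁻¹ * n₀ * m * b * (h'⁻¹ * n₀ * m)⁻¹ = h'⁻¹ * n₀ * (m * b * m⁻¹) * (h'⁻¹ * n₀)⁻¹ by group, hmb,
      ← conj_pow, hna, ← pow_mul, Cfsg.Agent.S5604.pow_eq_mod S.data.bp, hj, pow_one]
  · have hmz := Subgroup.mem_centralizer_singleton_iff.1 hm
    rw [show h'⁻¹ * n₀ * m * z * (h'⁻¹ * n₀ * m)⁻¹ = h'⁻¹ * (n₀ * (m * z * m⁻¹) * n₀⁻¹) * h' by group,
      hmz, mul_inv_cancel_right, hn₀z, ← hxs]
    group

theorem conj_iff_cent [Finite G] {x : G} (hx : x ∈ S.data.CQ) :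
    (∃ n : G, n * b = b * n ∧ n * z * n⁻¹ = x) ↔
      x = z ∨ ∃ k < 64, sqNorm (rv k : GolayPt → ℤ) = 64 ∧ Cls z θ x (rv k) := by
  constructor
  · rintro ⟨n, -, hn⟩
    by_cases hxz : x = z
    · exact Or.inl hxz
    right
    obtain ⟨v, hv, h64⟩ := S.data.hyp.class_of_conj (S.data.mem_CQ.1 hx).1 (isConj_iff.2 ⟨n, hn⟩) hxz
    obtain ⟨k, hk, hxk⟩ := S.data.exists_rv hx
    exact ⟨k, hk, fixed.norm_eq hk (S.data.hyp.cong_of_cls hv hxk) h64, hxk⟩
  · rintro (rfl | ⟨k, hk, h64, hxk⟩)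
    · exact ⟨1, by group, by group⟩
    · exact S.conj_in_cent hk h64 hxk

/-- There are exactly 29 such conjugates. -/
theorem ncard_conj [Finite G] :
    Set.ncard {x : G | x ∈ S.data.CQ ∧ ∃ n : G, n * b = b * n ∧ n * z * n⁻¹ = x} = 29 := by
  classical
  let F : Finset ℕ := (Finset.range 64).filter fun k => k ≠ 0 ∧ (k < 8 ∨ k % 8 = 0)
  let f : ℕ × Bool → G := fun a => θ (rv a.1) * (bif a.2 then z else 1)
  have hF : ∀ k, k ∈ F ↔ k < 64 ∧ k ≠ 0 ∧ (k < 8 ∨ k % 8 = 0) := fun k => by simp [F]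
  have hfc : ∀ k (e : Bool), Cls z θ (f (k, e)) (rv k) := fun k e => by
    cases e; exacts [Or.inl (mul_one _), Or.inr rfl]
  have hset : {x : G | x ∈ S.data.CQ ∧ ∃ n : G, n * b = b * n ∧ n * z * n⁻¹ = x} =
      ↑(insert z ((F ×ˢ (Finset.univ : Finset Bool)).image f)) := by
    ext x
    simp only [Set.mem_ofPred_eq, Finset.coe_insert, Set.mem_insert_iff, Finset.coe_image, Set.mem_image,
      Finset.mem_coe, Finset.mem_product, Finset.mem_univ, and_true]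
    constructor
    · rintro ⟨hx, hn⟩
      rcases (S.conj_iff_cent hx).1 hn with h | ⟨k, hk, h64, hc⟩
      · exact Or.inl h
      · refine Or.inr ?_
        rcases hc with h | h
        · exact ⟨(k, false), (hF k).2 ⟨hk, (norm64 hk).1 h64⟩, ((mul_one _).trans h.symm)⟩
        · exact ⟨(k, true), (hF k).2 ⟨hk, (norm64 hk).1 h64⟩, h.symm⟩
    · rintro (rfl | ⟨⟨k, e⟩, hk, rfl⟩)
      · exact ⟨S.data.z_mem_CQ, 1, by group, by group⟩
      · obtain ⟨hk, hk'⟩ := (hF k).1 hk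
        exact ⟨S.data.cls_rv_mem hk (hfc k e),
          (S.conj_iff_cent (S.data.cls_rv_mem hk (hfc k e))).2 (Or.inr ⟨k, hk, (norm64 hk).2 hk', hfc k e⟩)⟩
  rw [hset, Set.ncard_coe_finset, Finset.card_insert_of_notMem, Finset.card_image_of_injOn]
  · rw [Finset.card_product, Finset.card_univ, Fintype.card_bool]
    rfl
  · rintro ⟨k, e⟩ hk ⟨l, e'⟩ hl he
    simp only [Finset.coe_product, Set.mem_prod, Finset.mem_coe, hF] at hk hl
    have hkl := fixed.cong_inj hk.1.1 hl.1.1 (S.data.hyp.cong_of_cls (hfc k e) (he ▸ hfc l e'))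
    subst hkl
    have := mul_left_cancel (show θ (rv k) * (bif e then z else 1) = θ (rv k) * (bif e' then z else 1) from he)
    cases e <;> cases e' <;> simp_all [S.data.hyp.S.ne_one, S.data.hyp.S.ne_one.symm]
  · simp only [Finset.mem_image, Finset.mem_product, Finset.mem_univ, and_true, not_exists, not_and]
    rintro ⟨k, e⟩ hk hz
    obtain ⟨hk, hk'⟩ := (hF k).1 hk
    exact not_cong_zero (fixed.ne_zero k hk hk'.1) (fixed.short k hk)
      ((S.data.hyp.noncentral (hz ▸ hfc k e)).1 (Or.inr rfl))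

end Setup

end CfsgLib.MonsterType.Seven
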