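import Cfsg.Agent.Lib.MonsterType.ThreeCheckCz
import Cfsg.Agent.Lib.MonsterType.ThreeCheckGens

/-! The permutations commuting with the element of order three are products of two listed ones. -/

set_option autoImplicit false

namespace CfsgLib.MonsterType.Three

open Cfsg CfsgLib CfsgLib.Leech

/-- The permutation of order three. -/
noncomputable def R : Equiv.Perm GolayPt := Trans.tblPerm ThreeData.tcode

theorem okT_tcode : Trans.okT ThreeData.tcode = true := by decide +kernel

theorem R_mem : R ∈ M24 := Trans.tblPerm_mem okT_tcode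

theorem img_lt {T i : ℕ} (hT : Trans.okT T = true) (hi : i < 24) : Trans.img T i < 24 := by
  simp only [Trans.okT, Bool.and_eq_true, List.all_eq_true, List.mem_range, Nat.blt_eq] at hT
  exact hT.1.1 i hi

theorem tbl_pt {T i : ℕ} (hT : Trans.okT T = true) (hi : i < 24) :
    Trans.tblPerm T (Golay.pt i) = Golay.pt (Trans.img T i) := by
  rw [Trans.tblPerm_apply hT, Trans.tblFun, Golay.bit_pt hi]

theorem pt_inj {i j : ℕ} (hi : i < 24) (hj : j < 24) (h : Golay.pt i = Golay.pt j) : i = j := by
  rw [← Golay.bit_pt hi, h, Golay.bit_pt hj]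

theorem iter_pt {i : ℕ} (hi : i < 24) : ∀ j, (Trans.img ThreeData.tcode)^[j] i < 24 ∧
    (R ^ j) (Golay.pt i) = Golay.pt ((Trans.img ThreeData.tcode)^[j] i)
  | 0 => ⟨hi, by simp⟩
  | j + 1 => by
    obtain ⟨h1, h2⟩ := iter_pt hi j
    rw [Function.iterate_succ_apply', pow_succ', Equiv.Perm.mul_apply, h2, R, tbl_pt okT_tcode h1]
    exact ⟨img_lt okT_tcode h1, rfl⟩

/-- The generators among the permutations. -/
noncomputable def permGen (g : ℕ) : Equiv.Perm GolayPt := Trans.tblPerm (ThreeData.permGens.getD g 0)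

theorem perm_comm_check : ((List.range 2).all fun g =>
    Trans.okT (ThreeData.permGens.getD g 0) && (List.range 24).all fun i =>
      Nat.beq (Trans.img ThreeData.tcode (Trans.img (ThreeData.permGens.getD g 0) i))
        (Trans.img (ThreeData.permGens.getD g 0) (Trans.img ThreeData.tcode i))) = true := by
  decide +kernel

theorem permGen_spec {g : ℕ} (hg : g < 2) : Trans.okT (ThreeData.permGens.getD g 0) = true ∧
    permGen g ∈ M24 ∧ permGen g * R = R * permGen g := by
  have h := List.all_eq_true.1 perm_comm_check g (List.mem_range.2 hg)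
  simp only [Bool.and_eq_true, List.all_eq_true, List.mem_range] at h
  refine ⟨h.1, Trans.tblPerm_mem h.1, Equiv.ext fun p => ?_⟩
  have hp := Golay.bit_lt p
  rw [Equiv.Perm.mul_apply, Equiv.Perm.mul_apply, ← Golay.pt_bit p, permGen, R, tbl_pt okT_tcode hp,
    tbl_pt h.1 hp, tbl_pt h.1 (img_lt okT_tcode hp), tbl_pt okT_tcode (img_lt h.1 hp),
    Nat.eq_of_beq_eq_true (h.2 _ hp)]

/-- A product of the generators. -/
noncomputable def wordPerm : List ℕ → Equiv.Perm GolayPt
  | [] => 1
  | g :: w => permGen g * wordPerm w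

theorem wordPerm_append : ∀ v w, wordPerm (v ++ w) = wordPerm v * wordPerm w
  | [], w => by simp [wordPerm]
  | g :: v, w => by rw [List.cons_append, wordPerm, wordPerm, wordPerm_append v w, mul_assoc]

theorem wordPerm_spec : ∀ w : List ℕ, (∀ g ∈ w, g < 2) → wordPerm w ∈ M24 ∧ wordPerm w * R = R * wordPerm w ∧
    ∀ i < 24, evalC w i < 24 ∧ wordPerm w (Golay.pt i) = Golay.pt (evalC w i)
  | [], _ => ⟨one_mem _, by simp [wordPerm], fun i hi => ⟨hi, rfl⟩⟩
  | g :: w, h => by
    obtain ⟨h1, h2, h3⟩ := wordPerm_spec w fun a ha => h a (List.mem_cons_of_mem _ ha)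
    obtain ⟨h4, h5, h6⟩ := permGen_spec (h g List.mem_cons_self)
    refine ⟨mul_mem h5 h1, ?_, fun i hi => ?_⟩
    · rw [wordPerm, mul_assoc, h2, ← mul_assoc, h6, mul_assoc]
    · obtain ⟨h7, h8⟩ := h3 i hi
      refine ⟨img_lt h4 h7, ?_⟩
      rw [wordPerm, Equiv.Perm.mul_apply, h8, permGen, tbl_pt h4 h7]
      rfl

theorem trans_lt {n : ℕ} (hn : n < 24) : ∀ g ∈ ThreeData.transWords.getD n [], g < 2 := by
  have h := perm_gens_check.1
  simp only [Bool.and_eq_true, List.all_eq_true, List.mem_range, Nat.blt_eq] at h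
  exact (h.2 n hn).1

theorem stab_lt {n : ℕ} (hn : n < 21) : ∀ g ∈ ThreeData.stabWords.getD n [], g < 2 := by
  have h := perm_gens_check.2
  simp only [Bool.and_eq_true, List.all_eq_true, List.mem_range, Nat.blt_eq] at h
  exact (h n hn).1

theorem mem_bList {i : ℕ} : i ∈ bList ↔ i < 24 ∧ i ∉ cyc 23 := by
  simp [bList]

theorem mem_cList {i j : ℕ} : i ∈ cList j ↔ i < 24 ∧ i ∉ cyc 23 ∧ i ∉ cyc j := by
  simp [cList]

theorem zip_map_self {α β : Type*} (f : α → β) : ∀ l : List α, List.zip l (l.map f) = l.map fun i => (i, f i)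
  | [] => rfl
  | a :: l => by rw [List.map_cons, List.zip_cons_cons, zip_map_self f l, List.map_cons]

/-- An element commuting with `R` and fixing the base point is one of those listed. -/
theorem stab_complete {x : Equiv.Perm GolayPt} (hx : x ∈ M24) (hc : x * R = R * x)
    (ha : x (Golay.pt 23) = Golay.pt 23) :
    ∃ n < 21, x = wordPerm (ThreeData.stabWords.getD n []) := by
  set f : ℕ → ℕ := fun i => Golay.bit (x (Golay.pt i)) with hfdef
  have hf : ∀ i, f i < 24 ∧ x (Golay.pt i) = Golay.pt (f i) := fun i => ⟨Golay.bit_lt _, (Golay.pt_bit _).symm⟩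
  have hfi : ∀ {i}, i < 24 → ∀ j, f ((Trans.img ThreeData.tcode)^[j] i) = (Trans.img ThreeData.tcode)^[j] (f i) := by
    intro i hi j
    obtain ⟨h1, h2⟩ := iter_pt hi j
    obtain ⟨h3, h4⟩ := iter_pt (hf i).1 j
    refine pt_inj (hf _).1 h3 ?_
    rw [← (hf _).2, ← h2, ← h4, ← (hf i).2, ← Equiv.Perm.mul_apply, ← Equiv.Perm.mul_apply,
      (Commute.pow_right (show Commute x R from hc) j).eq]
  have h23 : f 23 = 23 := pt_inj (hf 23).1 (by norm_num) ((hf 23).2.symm.trans ha)
  have hinj : ∀ {i j}, i < 24 → j < 24 → f i = f j → i = j := fun {i j} hi hj h =>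
    pt_inj hi hj (x.injective (by rw [(hf i).2, (hf j).2, h]))
  have hmap : ∀ {i}, i < 24 → cyc (f i) = (cyc i).map f := fun {i} hi => by
    simp only [cyc, List.map_map]
    exact List.map_congr_left fun j _ => (hfi hi j).symm
  have hlt : ∀ {i}, i < 24 → ∀ a ∈ cyc i, a < 24 := fun {i} hi a ha => by
    obtain ⟨j, -, rfl⟩ := List.mem_map.1 ha
    exact (iter_pt hi j).1
  obtain ⟨hlen, hnd⟩ := shape_check
  have hnot : ∀ {i k}, i < 24 → k < 24 → i ∉ cyc k → f i ∉ cyc (f k) := by
    intro i k hi hk hni hm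
    rw [hmap hk] at hm
    obtain ⟨a, ha, he⟩ := List.mem_map.1 hm
    exact hni (hinj (hlt hk a ha) hi he ▸ ha)
  have hne : 22 ∉ cyc 23 ∧ 20 ∉ cyc 23 ∧ 20 ∉ cyc 22 := by decide +kernel
  have hb : f 22 ∈ bList := mem_bList.2 ⟨(hf 22).1, h23 ▸ hnot (by norm_num) (by norm_num) hne.1⟩
  have hcm : f 20 ∈ cList (f 22) := mem_cList.2 ⟨(hf 20).1, h23 ▸ hnot (by norm_num) (by norm_num) hne.2.1,
    hnot (by norm_num) (by norm_num) hne.2.2⟩
  obtain ⟨q, hqlt, hqe⟩ := List.getElem_of_mem hb
  obtain ⟨m, hmlt, hme⟩ := List.getElem_of_mem hcm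
  have hq21 : q < 21 := by
    have := Nat.eq_of_beq_eq_true hlen
    omega
  have hbl := blocks_check q hq21
  simp only [blockB, Bool.and_eq_true, List.all_eq_true, List.mem_range] at hbl
  rw [List.getD_eq_getElem _ _ hqlt, hqe] at hbl
  have hm18 : m < 18 := by
    have := Nat.eq_of_beq_eq_true hbl.1
    omega
  have hrun := hbl.2 m hm18
  rw [List.getD_eq_getElem _ _ hmlt, hme] at hrun
  have hst : start (f 22) (f 20) = (cyc 23 ++ cyc 22 ++ cyc 20).map fun i => (i, f i) := by
    rw [start, ← zip_map_self f, List.map_append, List.map_append, ← hmap (i := 23) (by norm_num),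
      ← hmap (i := 22) (by norm_num), ← hmap (i := 20) (by norm_num), h23]
  have hinv : Deduce.Inv x (start (f 22) (f 20)) := by
    rw [hst]
    refine ⟨fun e he => ?_, ?_⟩
    · obtain ⟨i, hi, rfl⟩ := List.mem_map.1 he
      have h24 : i < 24 := by
        simp only [List.mem_append] at hi
        rcases hi with (h | h) | h <;> exact hlt (by norm_num) _ h
      exact ⟨h24, (hf i).1, (hf i).2⟩
    · rw [List.map_map]
      simpa [Function.comp_def] using hnd
  have hrs := Deduce.run_sound hx _ _ hinv hrun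
  set n := ((ThreeData.certs.getD q []).getD m (21, [])).1
  have hn : n < 21 := by
    by_contra hn
    have h0 : ∀ i, i < 24 → x (Golay.pt i) = Golay.pt 0 := by
      intro i hi
      have hlen : ThreeData.stab.length = 21 := rfl
      rw [hrs i hi, List.getD_eq_default ThreeData.stab 0 (by omega)]
      simp [Trans.img]
    exact absurd (pt_inj (by norm_num) (by norm_num) (x.injective ((h0 0 (by norm_num)).trans (h0 1 (by norm_num)).symm)))
      (by norm_num)
  refine ⟨n, hn, Equiv.ext fun p => ?_⟩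
  have h := perm_gens_check.2
  simp only [Bool.and_eq_true, List.all_eq_true, List.mem_range] at h
  have hp := Golay.bit_lt p
  rw [← Golay.pt_bit p, hrs _ hp, ((wordPerm_spec _ (stab_lt hn)).2.2 _ hp).2, Nat.eq_of_beq_eq_true ((h n hn).2 _ hp)]

/-- An element commuting with `R` is a product of two listed ones. -/
theorem cz_complete {x : Equiv.Perm GolayPt} (hx : x ∈ M24) (hc : x * R = R * x) :
    ∃ n < 24, ∃ m < 21, x = wordPerm (ThreeData.transWords.getD n [] ++ ThreeData.stabWords.getD m []) := by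
  set n := Golay.bit (x (Golay.pt 23)) with hndef
  have hn : n < 24 := Golay.bit_lt _
  have h := perm_gens_check.1
  simp only [Bool.and_eq_true, List.all_eq_true, List.mem_range] at h
  obtain ⟨h1, h2, h3⟩ := wordPerm_spec _ (trans_lt hn)
  have hg : wordPerm (ThreeData.transWords.getD n []) (Golay.pt 23) = x (Golay.pt 23) := by
    rw [(h3 23 (by norm_num)).2, Nat.eq_of_beq_eq_true (h.2 n hn).2, hndef, Golay.pt_bit]
  set g := wordPerm (ThreeData.transWords.getD n [])
  obtain ⟨m, hm, he⟩ := stab_complete (x := g⁻¹ * x) (mul_mem (inv_mem h1) hx)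
    ((Commute.inv_left (show Commute g R from h2)).mul_left (show Commute x R from hc)).eq
    (by rw [Equiv.Perm.mul_apply, ← hg, Equiv.Perm.inv_def, Equiv.symm_apply_apply])
  exact ⟨n, hn, m, hm, by rw [wordPerm_append, ← he, mul_inv_cancel_left]⟩

end CfsgLib.MonsterType.Three
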