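import Cfsg.Agent.Lib.MonsterType.ThreeCheckFix
import Cfsg.Agent.Lib.MonsterType.ThreeCheckGens
import Cfsg.Agent.Lib.MonsterType.ThreeCz
import Cfsg.Agent.Lib.MonsterType.Quot
import Mathlib.GroupTheory.SpecificGroups.Alternating.Simple

/-! The centralizer in the automorphism group of the lattice of the element of order three, and its
action on the fixed classes. -/

set_option autoImplicit false
set_option linter.style.haveILetI false

namespace CfsgLib.MonsterType.Three

open Cfsg CfsgLib CfsgLib.Leech CfsgLib.MonsterQ CfsgLib.MonsterType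
open CfsgLib.Leech.Orbits (vecOf)

/-- The element of order three. -/
noncomputable def tt : Co0 := stepEl tS

/-- The representatives of the fixed classes. -/
def rv (k : ℕ) : leechLattice := latOf (row k)

theorem fixed : FixedClasses tt 3 8 rv := by
  have h := power_check
  rw [Bool.and_eq_true] at h
  exact fixed_of_checks (by norm_num) h.1 h.2 rows_check top_check avg_spec

theorem coe_rv {k : ℕ} (hk : k < 256) : (rv k : GolayPt → ℤ) = vecOf (row k) := by
  have h := rows_check k hk
  simp only [rowB, Bool.and_eq_true] at h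
  exact coe_latOf (leechB_of_leechL h.1.1.1)

/-- The classes of squared norm 64. -/
def frames : List ℕ := ThreeData.orbit.map Prod.fst

theorem norm64 {k : ℕ} (hk : k < 256) : sqNorm (rv k : GolayPt → ℤ) = 64 ↔ k ∈ frames := by
  have h := List.all_eq_true.1 orbit_check.2.1 k (List.mem_range.2 hk)
  rw [beq_iff_eq] at h
  rw [sqNorm, coe_rv hk, sum_vecOf _ (fun a => a ^ 2)]
  simp only [pow_two]
  rw [show (((List.range 24).map fun i => (row k).getD i 0 * (row k).getD i 0).sum) = normAt k from rfl,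
    ← decide_eq_true_iff (p := normAt k = 64), h]
  simp [frames]

theorem rv_one_cong : Cong (rv 1) (eightVec none) := by
  have h := frame_check
  simp only [Bool.and_eq_true] at h
  exact cong_of_congB (coe_rv (by norm_num)) (vecOf_unitL none).symm h.2

theorem classStab_one : classStab (rv 1) = monoSub := by
  rw [← classStab_eightVec]
  ext g
  exact ⟨fun h => ((rv_one_cong.smul g).symm.trans h).trans rv_one_cong,
    fun h => ((rv_one_cong.smul g).trans h).trans rv_one_cong.symm⟩

theorem toWord_comb_zero : Golay.toWord (Golay.comb 0) = (0 : GolayPt → ZMod 2) :=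
  funext fun p => by simp [Golay.toWord, Golay.comb, Golay.term]

theorem tt_eq : tt = monoEl R R_mem 0 (zero_mem _) := by
  rw [tt, tS, stepEl, dif_pos okT_tcode]
  exact monoEl_congr rfl toWord_comb_zero

theorem tt_mem : tt ∈ monoSub := tt_eq ▸ monoEl_mem_monoSub _ _

theorem mono_inj {a a' : Equiv.Perm GolayPt} {c c' : GolayPt → ZMod 2} {ha : a ∈ M24} {ha' : a' ∈ M24}
    {hc : c ∈ golayCode} {hc' : c' ∈ golayCode} (h : monoEl a ha c hc = monoEl a' ha' c' hc') : a = a' ∧ c = c' := by
  have e := monoMap_injective (a₁ := (⟨a, ha⟩, ⟨c, hc⟩)) (a₂ := (⟨a', ha'⟩, ⟨c', hc'⟩)) h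
  exact ⟨congrArg (fun p => ((p.1 : M24) : Equiv.Perm GolayPt)) e,
    congrArg (fun p => ((p.2 : golayCode) : GolayPt → ZMod 2)) e⟩

theorem tt_ne_one : tt ≠ 1 := by
  intro e
  rw [tt_eq, ← monoEl_one] at e
  obtain ⟨h1, -⟩ := mono_inj e
  have h2 : R (Golay.pt 23) = Golay.pt (Trans.img ThreeData.tcode 23) := tbl_pt okT_tcode (by norm_num)
  rw [h1, Equiv.Perm.one_apply] at h2
  exact absurd (pt_inj (by norm_num) (img_lt okT_tcode (by norm_num)) h2) (by decide +kernel)

theorem tt_ord : orderOf tt = 3 := by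
  haveI : Fact (Nat.Prime 3) := ⟨Nat.prime_three⟩
  exact orderOf_eq_prime fixed.pow tt_ne_one

/-- The centralizer of `tt`. -/
abbrev K : Subgroup Co0 := Subgroup.centralizer ({tt} : Set Co0)

theorem K_comm (g : K) : (g : Co0) * tt = tt * (g : Co0) := Subgroup.mem_centralizer_singleton_iff.1 g.2

/-- A generator. -/
noncomputable def gEl (j : ℕ) : Co0 := wordEl (gen j)

theorem gEl_mem {j : ℕ} (hj : j < 8) : gEl j ∈ K := by
  have h := eq_of_eqW (List.all_eq_true.1 comm_check j (List.mem_range.2 hj))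
  rw [wordEl, wordEl_append, wordEl_single] at h
  exact Subgroup.mem_centralizer_singleton_iff.2 h

theorem gEl_act {j k : ℕ} (hj : j < 8) (hk : k < 256) :
    imgK (ThreeData.cols.getD j []) 8 k < 256 ∧
      Cong (gEl j • rv k) (rv (imgK (ThreeData.cols.getD j []) 8 k)) := by
  refine imgK_sound fixed (fun i hi => ?_) hk
  have h := List.all_eq_true.1 cols_check j (List.mem_range.2 hj)
  simp only [colsB, Bool.and_eq_true, List.all_eq_true, List.mem_range, Nat.blt_eq] at h
  exact ⟨(h.2 i hi).1, cong_of_mapsB (h.2 i hi).2⟩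

/-- A product of generators, first letter applied first. -/
noncomputable def prodEl : List ℕ → Co0
  | [] => 1
  | j :: w => prodEl w * gEl j

/-- The subgroup generated by the generators. -/
noncomputable def H : Subgroup Co0 := Subgroup.closure (Set.range fun j : Fin 8 => gEl j)

theorem gEl_mem_H {j : ℕ} (hj : j < 8) : gEl j ∈ H := Subgroup.subset_closure ⟨⟨j, hj⟩, rfl⟩

theorem H_le : H ≤ K := (Subgroup.closure_le _).2 (by rintro _ ⟨j, rfl⟩; exact gEl_mem j.2)

theorem prodEl_spec : ∀ (w : List ℕ), (∀ j ∈ w, j < 8) → prodEl w ∈ H ∧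
    ∀ k < 256, follow w k < 256 ∧ Cong (prodEl w • rv k) (rv (follow w k))
  | [], _ => ⟨one_mem _, fun k hk => ⟨hk, by rw [prodEl, one_smul]; exact Cong.refl _⟩⟩
  | j :: w, h => by
    obtain ⟨h1, h2⟩ := prodEl_spec w fun i hi => h i (List.mem_cons_of_mem _ hi)
    have hj := h j List.mem_cons_self
    refine ⟨mul_mem h1 (gEl_mem_H hj), fun k hk => ?_⟩
    obtain ⟨h3, h4⟩ := gEl_act hj hk
    obtain ⟨h5, h6⟩ := h2 _ h3
    refine ⟨h5, ?_⟩
    rw [prodEl, mul_smul]
    exact (h4.smul _).trans h6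

/-- A signed permutation commuting with `tt`. -/
theorem mono_comm {g : Co0} (hg : g ∈ monoSub) (hc : g * tt = tt * g) :
    ∃ (τ : Equiv.Perm GolayPt) (hτ : τ ∈ M24) (c : GolayPt → ZMod 2) (hc' : c ∈ golayCode),
      g = monoEl τ hτ c hc' ∧ τ * R = R * τ ∧ c ∘ R = c := by
  obtain ⟨τ, hτ, c, hc', rfl⟩ := exists_mono_of_stdStab hg
  refine ⟨τ, hτ, c, hc', rfl, ?_⟩
  rw [tt_eq, monoEl_mul, monoEl_mul] at hc
  obtain ⟨h1, h2⟩ := mono_inj hc
  simp only [Pi.zero_comp, add_zero, zero_add] at h2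
  exact ⟨h1.symm, h2.symm⟩

theorem fixed_word {c : GolayPt → ZMod 2} (hc : c ∈ golayCode) (h : c ∘ R = c) :
    ∃ x ∈ ThreeData.fixCode, c = Golay.toWord (Golay.comb x) := by
  obtain ⟨x, hx, rfl⟩ := Golay.mem_golay_iff.1 hc
  have hcc := code_check
  simp only [List.all_eq_true, List.mem_range, Bool.or_eq_true, Bool.not_eq_true', List.contains_eq_mem,
    decide_eq_true_eq] at hcc
  rcases hcc x hx with hne | hmem
  · exfalso
    refine Bool.eq_false_iff.1 hne (List.all_eq_true.2 fun i hi => ?_)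
    rw [List.mem_range] at hi
    have e := congrFun h (Golay.pt i)
    rw [Function.comp_apply, R, tbl_pt okT_tcode hi] at e
    simp only [Golay.toWord, Golay.bit_pt hi, Golay.bit_pt (img_lt okT_tcode hi)] at e
    rw [beq_iff_eq]
    revert e
    cases (Golay.comb x).testBit (Trans.img ThreeData.tcode i) <;> cases (Golay.comb x).testBit i <;> simp
  · exact ⟨x, hmem, rfl⟩

theorem sign_mem {x : ℕ} (hx : x ∈ ThreeData.fixCode) :
    monoEl 1 (one_mem _) (Golay.toWord (Golay.comb x)) (Golay.toWord_comb_mem _) ∈ H := by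
  obtain ⟨m, hm, he⟩ := List.any_eq_true.1 (List.all_eq_true.1 span_check x hx)
  have he' := (Nat.eq_of_beq_eq_true he).symm
  subst he'
  have hid := id_check
  simp only [Bool.and_eq_true, List.all_eq_true, List.mem_range] at hid
  have hidp : Trans.tblPerm idCode = 1 := Equiv.ext fun p => by
    rw [Trans.tblPerm_apply hid.1, Trans.tblFun, Nat.eq_of_beq_eq_true (hid.2 _ (Golay.bit_lt p)), Golay.pt_bit,
      Equiv.Perm.one_apply]
  have hgen : ∀ q < 4, monoEl 1 (one_mem _) (Golay.toWord (Golay.comb (ThreeData.signGens.getD q 0)))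
      (Golay.toWord_comb_mem _) ∈ H := by
    intro q hq
    have h := gEl_mem_H (j := 2 + q) (by omega)
    rw [gEl, gens_shape.2.2 q hq, wordEl_single, stepEl, dif_pos hid.1] at h
    convert h using 1
    exact monoEl_congr hidp.symm rfl
  suffices ∀ n ≤ 4, monoEl 1 (one_mem _) (Golay.toWord (Golay.comb (imgK ThreeData.signGens n m)))
      (Golay.toWord_comb_mem _) ∈ H from this 4 le_rfl
  intro n
  induction n with
  | zero =>
    intro _
    simp only [imgK]
    convert H.one_mem using 1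
    rw [← monoEl_one]
    exact monoEl_congr rfl toWord_comb_zero
  | succ n ih =>
    intro hn
    cases hb : m.testBit n with
    | false => simp only [imgK, hb, cond_false]; exact ih (by omega)
    | true =>
      have h := mul_mem (ih (by omega)) (hgen n (by omega))
      rw [monoEl_mul] at h
      convert h using 1
      refine monoEl_congr (mul_one _).symm ?_
      simp only [imgK, hb, cond_true, Golay.comb_xor, Golay.toWord_xor]
      funext p
      simp

theorem word_mem : ∀ w : List ℕ, (hw : ∀ g ∈ w, g < 2) →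
    monoEl (wordPerm w) (wordPerm_spec w hw).1 0 (zero_mem _) ∈ H
  | [], _ => by
    convert H.one_mem using 1
    rw [← monoEl_one]
    exact monoEl_congr rfl rfl
  | g :: w, hw => by
    have hg := hw g List.mem_cons_self
    obtain ⟨hok, -, -⟩ := permGen_spec hg
    have h2 : gen g = [some (ThreeData.permGens.getD g 0, 0)] := by
      interval_cases g
      exacts [gens_shape.1, gens_shape.2.1]
    have h1 := gEl_mem_H (j := g) (lt_trans hg (by norm_num))
    rw [gEl, h2, wordEl_single, stepEl, dif_pos hok] at h1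
    have h := mul_mem (word_mem w fun a ha => hw a (List.mem_cons_of_mem _ ha)) h1
    rw [monoEl_mul] at h
    convert h using 1
    exact monoEl_congr rfl (by funext p; simp [toWord_comb_zero])

theorem perm_mem {τ : Equiv.Perm GolayPt} (hτ : τ ∈ M24) (hc : τ * R = R * τ) :
    monoEl τ hτ 0 (zero_mem _) ∈ H := by
  obtain ⟨n, hn, m, hm, he⟩ := cz_complete hτ hc
  have hw : ∀ g ∈ ThreeData.transWords.getD n [] ++ ThreeData.stabWords.getD m [], g < 2 := fun g hg =>
    (List.mem_append.1 hg).elim (trans_lt hn g) (stab_lt hm g)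
  convert word_mem _ hw using 1
  exact monoEl_congr he rfl

theorem mono_mem {g : Co0} (hg : g ∈ monoSub) (hc : g * tt = tt * g) : g ∈ H := by
  obtain ⟨τ, hτ, c, hc', rfl, hR, hcR⟩ := mono_comm hg hc
  obtain ⟨x, hx, rfl⟩ := fixed_word hc' hcR
  have h := mul_mem (sign_mem hx) (perm_mem hτ hR)
  rw [monoEl_mul] at h
  convert h using 1
  exact monoEl_congr (mul_one _).symm (by funext p; simp)

theorem frames_spec {k : ℕ} (hk : k ∈ frames) : ∃ w, (∀ j ∈ w, j < 8) ∧ follow w 1 = k := by
  obtain ⟨e, he, rfl⟩ := List.mem_map.1 hk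
  have h := List.all_eq_true.1 orbit_check.1 e he
  simp only [Bool.and_eq_true, List.all_eq_true, Nat.blt_eq] at h
  exact ⟨e.2, h.2, Nat.eq_of_beq_eq_true h.1⟩

theorem K_frame (g : K) : ∃ k ∈ frames, k < 256 ∧ Cong ((g : Co0) • rv 1) (rv k) := by
  obtain ⟨k, hk, hc⟩ := fixed.cover ((g : Co0) • rv 1) (by
    rw [← mul_smul, ← K_comm g, mul_smul]; exact (fixed.fix 1 (by norm_num)).smul (g : Co0))
  refine ⟨k, ?_, hk, hc⟩
  refine (norm64 hk).1 (fixed.norm_eq hk hc ?_)
  rw [sqNorm_smul]
  exact (norm64 (by norm_num)).2 (by decide)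

theorem K_le_H : K ≤ H := by
  intro g hg
  obtain ⟨k, hk, -, hc⟩ := K_frame ⟨g, hg⟩
  obtain ⟨w, hw, rfl⟩ := frames_spec hk
  obtain ⟨hH, hact⟩ := prodEl_spec w hw
  have hm : (prodEl w)⁻¹ * g ∈ H := by
    refine mono_mem ?_ ?_
    · rw [← classStab_one, mem_classStab, mul_smul]
      have h1 := (hc.trans (hact 1 (by norm_num)).2.symm).smul (prodEl w)⁻¹
      rwa [inv_smul_smul] at h1
    · exact Subgroup.mem_centralizer_singleton_iff.1 (mul_mem (inv_mem (H_le hH)) hg)
  simpa using mul_mem hH hm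

/-- The system with a number. -/
def sysAt (a : Fin 9) : List ℕ := sys (a : ℕ)

/-- An element maps the systems as a permutation does. -/
def Maps (g : Co0) (σ : Equiv.Perm (Fin 9)) : Prop :=
  ∀ a, ∀ k ∈ sysAt a, ∃ l ∈ sysAt (σ a), Cong (g • rv k) (rv l)

theorem sysAt_facts (a : Fin 9) : (sysAt a).length = 16 ∧ (sysAt a).Nodup ∧
    (∀ k ∈ sysAt a, k < 256) ∧
    ∀ b, a ≠ b → ((sysAt a).filter fun k => (sysAt b).contains k).length < 16 := by
  have h := List.all_eq_true.1 systems_check (a : ℕ) (List.mem_range.2 a.2)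
  simp only [Bool.and_eq_true, List.all_eq_true, List.mem_range, Nat.blt_eq, decide_eq_true_eq, Bool.or_eq_true] at h
  refine ⟨Nat.eq_of_beq_eq_true h.1.1.1, h.1.1.2, h.1.2, fun b hab => ?_⟩
  rcases h.2 (b : ℕ) b.2 with e | e
  · exact absurd (Fin.ext (Nat.eq_of_beq_eq_true e)) hab
  · exact e

theorem maps_one : Maps 1 1 := fun a k hk => ⟨k, hk, by rw [one_smul]; exact Cong.refl _⟩

theorem Maps.mul {g h : Co0} {σ τ : Equiv.Perm (Fin 9)} (hg : Maps g σ) (hh : Maps h τ) :
    Maps (g * h) (σ * τ) := by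
  intro a k hk
  obtain ⟨l, hl, hc⟩ := hh a k hk
  obtain ⟨m, hm, hc'⟩ := hg _ l hl
  exact ⟨m, hm, by rw [mul_smul]; exact (hc.smul g).trans hc'⟩

theorem Maps.pow {g : Co0} {σ : Equiv.Perm (Fin 9)} (hg : Maps g σ) : ∀ n : ℕ, Maps (g ^ n) (σ ^ n)
  | 0 => by rw [pow_zero, pow_zero]; exact maps_one
  | n + 1 => by rw [pow_succ, pow_succ]; exact (hg.pow n).mul hg

theorem Maps.unique {g : Co0} {σ τ : Equiv.Perm (Fin 9)} (hσ : Maps g σ) (hτ : Maps g τ) : σ = τ := by
  classical
  refine Equiv.ext fun a => ?_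
  by_contra hne
  obtain ⟨h1, h2, h3, -⟩ := sysAt_facts a
  obtain ⟨-, h5, h6, h7⟩ := sysAt_facts (σ a)
  have h8 := h7 (τ a) hne
  choose f hf hfc using fun k : {k // k ∈ (sysAt a).toFinset} => hσ a k.1 (List.mem_toFinset.1 k.2)
  have hmem : ∀ k, f k ∈ ((sysAt (σ a)).filter fun l => (sysAt (τ a)).contains l).toFinset := by
    intro k
    obtain ⟨l, hl, hlc⟩ := hτ a k.1 (List.mem_toFinset.1 k.2)
    have : f k = l := fixed.cong_inj (h6 _ (hf k)) ((sysAt_facts (τ a)).2.2.1 _ hl) ((hfc k).symm.trans hlc)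
    rw [List.mem_toFinset, List.mem_filter]
    exact ⟨hf k, by simpa [this] using hl⟩
  have hinj : Function.Injective fun k => (⟨f k, hmem k⟩ :
      {l // l ∈ ((sysAt (σ a)).filter fun l => (sysAt (τ a)).contains l).toFinset}) := by
    intro k k' e
    have e' := congrArg Subtype.val e
    simp only at e'
    have hc := ((hfc k).trans (e' ▸ (hfc k').symm)).smul g⁻¹
    rw [inv_smul_smul, inv_smul_smul] at hc
    exact Subtype.ext (fixed.cong_inj (h3 _ (List.mem_toFinset.1 k.2)) (h3 _ (List.mem_toFinset.1 k'.2)) hc)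
  have h9 := Fintype.card_le_of_injective _ hinj
  simp only [Fintype.card_coe] at h9
  rw [List.toFinset_card_of_nodup h2, h1, List.toFinset_card_of_nodup (h5.filter _)] at h9
  omega

/-- The permutation of the systems under a generator. -/
def gam (j : ℕ) : Equiv.Perm (Fin 9) :=
  ((ThreeData.swaps.getD j []).map fun e => Equiv.swap (Fin.ofNat 9 e.1) (Fin.ofNat 9 e.2)).prod

theorem gam_check : ∀ j : Fin 8, Equiv.Perm.sign (gam j) = 1 ∧
    ∀ a : Fin 9, ((gam j a : Fin 9) : ℕ) = (ThreeData.perms.getD j []).getD a 9 := by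
  decide +kernel

theorem gam_mem {j : ℕ} (hj : j < 8) : gam j ∈ alternatingGroup (Fin 9) :=
  Equiv.Perm.mem_alternatingGroup.2 (gam_check ⟨j, hj⟩).1

theorem gam_maps {j : ℕ} (hj : j < 8) : Maps (gEl j) (gam j) := by
  intro a k hk
  have h := List.all_eq_true.1 (List.all_eq_true.1 (List.all_eq_true.1 perms_check j (List.mem_range.2 hj)) (a : ℕ)
    (List.mem_range.2 a.2)) k hk
  rw [← (gam_check ⟨j, hj⟩).2 a] at h
  refine ⟨_, ?_, (gEl_act hj ((sysAt_facts a).2.2.1 k hk)).2⟩
  simpa [sysAt] using h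

theorem exists_maps (g : K) : ∃ σ : ↥(alternatingGroup (Fin 9)), Maps (g : Co0) σ := by
  have h := K_le_H g.2
  suffices ∀ x ∈ H, ∃ σ : ↥(alternatingGroup (Fin 9)), Maps x σ from this _ h
  intro x hx
  induction hx using Subgroup.closure_induction with
  | mem y hy =>
    obtain ⟨j, rfl⟩ := hy
    exact ⟨⟨_, gam_mem j.2⟩, gam_maps j.2⟩
  | one => exact ⟨1, maps_one⟩
  | mul a b _ _ iha ihb =>
    obtain ⟨σ, hσ⟩ := iha
    obtain ⟨τ, hτ⟩ := ihb
    exact ⟨σ * τ, hσ.mul hτ⟩
  | inv a _ iha =>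
    obtain ⟨σ, hσ⟩ := iha
    refine ⟨σ ^ (orderOf a - 1), ?_⟩
    rw [show a⁻¹ = a ^ (orderOf a - 1) from inv_eq_of_mul_eq_one_right (by
      rw [← pow_succ', Nat.sub_add_cancel (orderOf_pos a), pow_orderOf_eq_one])]
    exact hσ.pow _

/-- The action on the ten systems. -/
noncomputable def psi : K →* ↥(alternatingGroup (Fin 9)) :=
  MonoidHom.mk' (fun g => (exists_maps g).choose) fun g h => Subtype.ext
    ((exists_maps (g * h)).choose_spec.unique ((exists_maps g).choose_spec.mul (exists_maps h).choose_spec))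

theorem psi_eq {g : K} {σ : Equiv.Perm (Fin 9)} (h : Maps (g : Co0) σ) :
    (psi g : Equiv.Perm (Fin 9)) = σ :=
  (exists_maps g).choose_spec.unique h

theorem psi_faith (g : K) (hg : ∀ k < 2 ^ 8, Cong ((g : Co0) • rv k) (rv k)) : psi g = 1 :=
  Subtype.ext (psi_eq fun a k hk => ⟨k, hk, hg k ((sysAt_facts a).2.2.1 k hk)⟩)

/-- The permutation of the systems under a word. -/
def gamW : List ℕ → Equiv.Perm (Fin 9)
  | [] => 1
  | j :: w => gamW w * gam j

theorem gamW_maps : ∀ (w : List ℕ), (∀ j ∈ w, j < 8) → Maps (prodEl w) (gamW w)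
  | [], _ => maps_one
  | j :: w, h => (gamW_maps w fun i hi => h i (List.mem_cons_of_mem _ hi)).mul (gam_maps (h j List.mem_cons_self))

theorem alt_check : ((List.range 7).all fun n => (List.range (9 - n)).all fun i =>
    ((ThreeData.altWords.getD n []).getD i [8]).all (Nat.blt · 8) &&
      (List.finRange 9).all fun a => (!Nat.blt (a : ℕ) n ||
        Nat.beq ((gamW ((ThreeData.altWords.getD n []).getD i [8]) a : Fin 9) : ℕ) a) &&
      (!Nat.beq (a : ℕ) n ||
        Nat.beq ((gamW ((ThreeData.altWords.getD n []).getD i [8]) a : Fin 9) : ℕ) (n + i))) = true := by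
  decide +kernel

theorem gamW_mem : ∀ (w : List ℕ), (∀ j ∈ w, j < 8) → gamW w ∈ alternatingGroup (Fin 9)
  | [], _ => one_mem _
  | j :: w, h => mul_mem (gamW_mem w fun i hi => h i (List.mem_cons_of_mem _ hi)) (gam_mem (h j List.mem_cons_self))

/-- The image of the action, as permutations. -/
noncomputable def img : Subgroup (Equiv.Perm (Fin 9)) := psi.range.map (Subgroup.subtype _)

theorem gamW_img {w : List ℕ} (hw : ∀ j ∈ w, j < 8) : gamW w ∈ img :=
  ⟨psi ⟨prodEl w, H_le (prodEl_spec _ hw).1⟩, ⟨_, rfl⟩, psi_eq (gamW_maps _ hw)⟩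

theorem eq_one_of_fix {σ : Equiv.Perm (Fin 9)} (hs : Equiv.Perm.sign σ = 1) (h : ∀ a : Fin 9, (a : ℕ) < 7 → σ a = a) :
    σ = 1 := by
  have hmem : ∀ a : Fin 9, σ a = a ∨ (a = 7 ∧ σ a = 8) ∨ (a = 8 ∧ σ a = 7) := by
    intro a
    by_cases ha : (a : ℕ) < 7
    · exact Or.inl (h a ha)
    · have h1 : 7 ≤ ((σ a : Fin 9) : ℕ) := by
        by_contra hc
        have := σ.injective (h (σ a) (by omega))
        rw [this] at hc
        omega
      have : (a = 7 ∨ a = 8) ∧ (σ a = 7 ∨ σ a = 8) := by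
        constructor <;> simp only [Fin.ext_iff] <;> omega
      rcases this with ⟨rfl | rfl, e | e⟩
      exacts [Or.inl e, Or.inr (Or.inl ⟨rfl, e⟩), Or.inr (Or.inr ⟨rfl, e⟩), Or.inl e]
  by_cases h7 : σ 7 = 7
  · refine Equiv.ext fun a => ?_
    rcases hmem a with e | ⟨rfl, e⟩ | ⟨rfl, e⟩
    · exact e
    · exact h7
    · exact absurd (σ.injective (e.trans h7.symm)) (by decide)
  · exfalso
    have e7 : σ 7 = 8 := by
      rcases hmem 7 with e | ⟨-, e⟩ | ⟨e, -⟩
      exacts [absurd e h7, e, absurd e (by decide)]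
    have e : σ = Equiv.swap 7 8 := by
      refine Equiv.ext fun a => ?_
      rcases hmem a with e | ⟨rfl, e⟩ | ⟨rfl, e⟩
      · rw [e, Equiv.swap_apply_of_ne_of_ne (fun ha => by subst ha; exact h7 e)
          (fun ha => by subst ha; exact absurd (σ.injective (e7.trans e.symm)) (by decide))]
      · rw [e, Equiv.swap_apply_left]
      · rw [e, Equiv.swap_apply_right]
    rw [e, Equiv.Perm.sign_swap (by decide)] at hs
    exact absurd hs (by decide)

theorem mem_img : ∀ (d : ℕ), d ≤ 7 → ∀ σ : Equiv.Perm (Fin 9), Equiv.Perm.sign σ = 1 →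
    (∀ a : Fin 9, (a : ℕ) < 7 - d → σ a = a) → σ ∈ img := by
  intro d
  induction d with
  | zero =>
    intro _ σ hs h
    rw [eq_one_of_fix hs h]
    exact one_mem _
  | succ d ih =>
    intro hd σ hs h
    obtain ⟨n, hn⟩ : ∃ n, n = 7 - (d + 1) := ⟨_, rfl⟩
    have hge : n ≤ ((σ ⟨n, by omega⟩ : Fin 9) : ℕ) := by
      by_contra hc
      have e := σ.injective (h (σ ⟨n, by omega⟩) (by omega))
      rw [e] at hc
      exact hc le_rfl
    obtain ⟨i, hi⟩ : ∃ i, ((σ ⟨n, by omega⟩ : Fin 9) : ℕ) = n + i := ⟨_, (Nat.add_sub_cancel' hge).symm⟩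
    have hc := List.all_eq_true.1 (List.all_eq_true.1 alt_check n (List.mem_range.2 (by omega))) i
      (List.mem_range.2 (by have := (σ ⟨n, by omega⟩).2; omega))
    simp only [Bool.and_eq_true, List.all_eq_true, Nat.blt_eq, Bool.or_eq_true, Bool.not_eq_true'] at hc
    set w := (ThreeData.altWords.getD n []).getD i [8]
    have hfix : ∀ a : Fin 9, (a : ℕ) < n → gamW w a = a := fun a ha => by
      rcases (hc.2 a (List.mem_finRange a)).1 with e | e
      · exact absurd (show Nat.blt (a : ℕ) n = true by rw [Nat.blt_eq]; exact ha) (Bool.eq_false_iff.1 e)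
      · exact Fin.ext (Nat.eq_of_beq_eq_true e)
    have hbase : gamW w ⟨n, by omega⟩ = σ ⟨n, by omega⟩ := by
      rcases (hc.2 ⟨n, by omega⟩ (List.mem_finRange _)).2 with e | e
      · exact absurd (Nat.beq_refl n) (Bool.eq_false_iff.1 e)
      · exact Fin.ext ((Nat.eq_of_beq_eq_true e).trans hi.symm)
    have h' : (gamW w)⁻¹ * σ ∈ img := by
      refine ih (by omega) _ ?_ fun a ha => ?_
      · rw [map_mul, map_inv, hs, Equiv.Perm.mem_alternatingGroup.1 (gamW_mem w hc.1), inv_one, one_mul]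
      · rw [Equiv.Perm.mul_apply, Equiv.Perm.inv_eq_iff_eq]
        by_cases he : (a : ℕ) = n
        · have ea : a = ⟨n, by omega⟩ := Fin.ext he
          rw [ea]
          exact hbase.symm
        · rw [h a (by omega), hfix a (by omega)]
    simpa using mul_mem (gamW_img hc.1) h'

theorem psi_surj : Function.Surjective psi := by
  intro σ
  obtain ⟨y, ⟨g, rfl⟩, hy⟩ := mem_img 7 le_rfl σ (Equiv.Perm.mem_alternatingGroup.1 σ.2)
    (fun a ha => absurd ha (by omega))
  exact ⟨g, Subtype.ext hy⟩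

theorem card_gamma : Nat.card ↥(alternatingGroup (Fin 9)) = 181440 := by
  rw [nat_card_alternatingGroup, Nat.card_fin]; rfl

theorem card_mono_part : Nat.card ↥(monoSub.subgroupOf K) ≤ 8064 := by
  classical
  have hmem : ∀ g : ↥(monoSub.subgroupOf K), ∃ (n : Fin 24) (m : Fin 21) (i : Fin ThreeData.fixCode.length)
      (τ : Equiv.Perm GolayPt) (hτ : τ ∈ M24),
      τ = wordPerm (ThreeData.transWords.getD n [] ++ ThreeData.stabWords.getD m []) ∧
      ((g : K) : Co0) = monoEl τ hτ (Golay.toWord (Golay.comb ThreeData.fixCode[i]))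
        (Golay.toWord_comb_mem _) := by
    intro g
    obtain ⟨τ, hτ, c, hc, hg, hcz, hR⟩ := mono_comm g.2 (K_comm (g : K))
    obtain ⟨x, hx, rfl⟩ := fixed_word hc hR
    obtain ⟨i, hi, rfl⟩ := List.getElem_of_mem hx
    obtain ⟨n, hn, m, hm, he⟩ := cz_complete hτ hcz
    exact ⟨⟨n, hn⟩, ⟨m, hm⟩, ⟨i, hi⟩, τ, hτ, he, hg⟩
  choose a b c τ hτ hτp hac using hmem
  have hinj : Function.Injective fun g => (a g, b g, c g) := by
    intro g g' e
    simp only [Prod.mk.injEq] at e
    refine Subtype.ext (Subtype.ext ?_)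
    rw [hac g, hac g']
    exact monoEl_congr (by rw [hτp g, hτp g', e.1, e.2.1]) (by rw [e.2.2])
  refine (Nat.card_le_card_of_injective _ hinj).trans (le_of_eq ?_)
  rw [Nat.card_prod, Nat.card_prod, Nat.card_fin, Nat.card_fin, Nat.card_fin]
  rfl

theorem card_K_le : Nat.card K ≤ 1088640 := by
  classical
  choose f hf hflt hfc using fun g : K => K_frame g
  let F : K ⧸ monoSub.subgroupOf K → {k // k ∈ frames.toFinset} :=
    fun q => ⟨f q.out, List.mem_toFinset.2 (hf q.out)⟩
  have hinj : Function.Injective F := by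
    intro q q' e
    rw [← QuotientGroup.out_eq' q, ← QuotientGroup.out_eq' q', QuotientGroup.eq, Subgroup.mem_subgroupOf]
    refine classStab_one.le ?_
    rw [mem_classStab, Subgroup.coe_mul, InvMemClass.coe_inv, mul_smul]
    have h2 := hfc q'.out
    rw [← (show f q.out = f q'.out from congrArg Subtype.val e)] at h2
    have h3 := (h2.trans (hfc q.out).symm).smul (q.out : Co0)⁻¹
    rwa [inv_smul_smul] at h3
  have h1 := Nat.card_le_card_of_injective F hinj
  rw [Nat.card_eq_fintype_card (α := {k // k ∈ frames.toFinset}), Fintype.card_coe] at h1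
  have h2 : frames.toFinset.card ≤ 135 := by
    refine (List.toFinset_card_le _).trans (le_of_eq ?_)
    rw [frames, List.length_map, Nat.eq_of_beq_eq_true orbit_check.2.2]
  rw [← Subgroup.card_mul_index (monoSub.subgroupOf K), Subgroup.index_eq_card]
  calc _ ≤ 8064 * 135 := Nat.mul_le_mul card_mono_part (h1.trans h2)
    _ = 1088640 := by norm_num

theorem psi_ker (g : K) (hg : psi g = 1) : ∃ i : ℕ, (g : Co0) = tt ^ i ∨ (g : Co0) = tt ^ i * negEl := by
  classical
  have hn : negEl ∈ K := Subgroup.mem_centralizer_singleton_iff.2 (negEl_comm tt).symm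
  let f : Fin 3 × Bool → ↥psi.ker := fun a => ⟨⟨tt ^ (a.1 : ℕ) * (bif a.2 then negEl else 1),
    mul_mem (pow_mem (Subgroup.mem_centralizer_singleton_iff.2 rfl) _) (by cases a.2; exacts [one_mem _, hn])⟩, by
      rw [MonoidHom.mem_ker]
      refine psi_faith _ fun k hk => ?_
      show Cong ((tt ^ (a.1 : ℕ) * (bif a.2 then negEl else 1)) • rv k) _
      rw [mul_smul]
      cases a.2
      · rw [cond_false, one_smul]; exact fixed.pow_fix hk _
      · rw [cond_true, negEl_smul, smul_neg']; exact (cong_neg _).trans (fixed.pow_fix hk _)⟩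
  have hodd : ∀ {n : ℕ}, tt ^ n ≠ negEl := fun {n} e => by
    have h := congrArg (fun g : Co0 => g ^ 3) e
    simp only [← pow_mul, mul_comm n 3] at h
    rw [pow_mul, fixed.pow, one_pow, show 3 = 2 * 1 + 1 from rfl, pow_succ, pow_mul,
      show negEl ^ 2 = (1 : Co0) by rw [pow_two, sq_negEl], one_pow, one_mul] at h
    have h8 := congrArg (fun g : Co0 => ((g • eightVec none : leechLattice) : GolayPt → ℤ) none) h
    simp [negEl_smul, coe_eightVec] at h8
  have hinj : Function.Injective f := by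
    rintro ⟨i, x⟩ ⟨j, y⟩ h
    have h' : tt ^ (i : ℕ) * (bif x then negEl else 1) = tt ^ (j : ℕ) * (bif y then negEl else 1) :=
      congrArg (fun a : ↥psi.ker => ((a : K) : Co0)) h
    have hne : ∀ a c : ℕ, a < 3 → c < 3 → tt ^ a = tt ^ c → a = c := fun a c ha hc e =>
      pow_injOn_Iio_orderOf (by rw [Set.mem_Iio, tt_ord]; exact ha) (by rw [Set.mem_Iio, tt_ord]; exact hc) e
    have hbad : ∀ a c : ℕ, tt ^ a * negEl ≠ tt ^ c := fun a c e => by
      refine hodd (n := c + 2 * a) ?_
      rw [pow_add, ← e, mul_assoc, ← negEl_comm, ← mul_assoc, ← pow_add, show a + 2 * a = 3 * a by ring,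
        pow_mul, fixed.pow, one_pow, one_mul]
    cases x <;> cases y <;> simp only [cond_true, cond_false, mul_one] at h'
    · rw [Fin.ext (hne _ _ i.2 j.2 h')]
    · exact absurd h'.symm (hbad _ _)
    · exact absurd h' (hbad _ _)
    · rw [Fin.ext (hne _ _ i.2 j.2 (mul_right_cancel h'))]
  have hcard : Nat.card ↥psi.ker ≤ Nat.card (Fin 3 × Bool) := by
    have h := Subgroup.card_mul_index psi.ker
    rw [Subgroup.index_ker, MonoidHom.range_eq_top.2 psi_surj, Subgroup.card_top] at h
    have hK := card_K_le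
    rw [card_gamma] at h
    rw [Nat.card_prod, Nat.card_fin, Nat.card_eq_fintype_card (α := Bool), Fintype.card_bool]
    omega
  obtain ⟨⟨i, x⟩, hx⟩ := (hinj.bijective_of_nat_card_le hcard).2 ⟨g, hg⟩
  refine ⟨i, ?_⟩
  have h' : tt ^ (i : ℕ) * (bif x then negEl else 1) = (g : Co0) :=
    congrArg (fun a : ↥psi.ker => ((a : K) : Co0)) hx
  cases x
  · exact Or.inl (by rw [← h', cond_false, mul_one])
  · exact Or.inr (by rw [← h', cond_true])

theorem psi_core (P : Subgroup ↥(alternatingGroup (Fin 9))) (hn : P.Normal) (hP : IsPGroup 2 P) : P = ⊥ := by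
  haveI : Fact (Nat.Prime 2) := ⟨Nat.prime_two⟩
  haveI : IsSimpleGroup ↥(alternatingGroup (Fin 9)) := alternatingGroup.isSimpleGroup (by simp)
  rcases IsSimpleGroup.eq_bot_or_eq_top_of_normal P hn with h | h
  · exact h
  · exfalso
    rw [h] at hP
    obtain ⟨n, hn⟩ := hP.exists_card_eq
    rw [Subgroup.card_top, card_gamma] at hn
    have h3 : 3 ∣ 2 ^ n := hn ▸ by norm_num
    exact absurd (Nat.prime_three.dvd_of_dvd_pow h3) (by norm_num)

theorem action : Action tt 8 rv psi where
  surj := psi_surj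
  ker := psi_ker
  faith := psi_faith
  core := psi_core

end CfsgLib.MonsterType.Three
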