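import Cfsg.Agent.Lib.MonsterType.ThreeData
import Cfsg.Agent.Lib.MonsterType.ThreeCerts
import Cfsg.Agent.Lib.MonsterType.OctadDeduce

/-! The candidates for elements centralizing the permutation of order three. -/

set_option autoImplicit false

namespace CfsgLib.MonsterType.Three

open Cfsg CfsgLib

/-- The orbit of a point under the permutation. -/
def cyc (i : ℕ) : List ℕ := (List.range 3).map fun j => (Leech.Trans.img ThreeData.tcode)^[j] i

/-- The possible images of the second base point. -/
def bList : List ℕ := (List.range 24).filter fun j => !(cyc 23).contains j

/-- The possible images of the third base point. -/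
def cList (j : ℕ) : List ℕ := (List.range 24).filter fun k => !(cyc 23).contains k && !(cyc j).contains k

/-- The values forced by the images of the base points. -/
def start (j k : ℕ) : List (ℕ × ℕ) :=
  List.zip (cyc 23 ++ cyc 22 ++ cyc 20) (cyc 23 ++ cyc j ++ cyc k)

/-- The checks for one image of the second base point. -/
def blockB (n : ℕ) : Bool :=
  Nat.beq (cList (bList.getD n 0)).length 18 && (List.range 18).all fun m =>
    Deduce.run (ThreeData.stab.getD ((ThreeData.certs.getD n []).getD m (21, [])).1 0)
      ((ThreeData.certs.getD n []).getD m (21, [])).2 (start (bList.getD n 0) ((cList (bList.getD n 0)).getD m 0))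

end CfsgLib.MonsterType.Three
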