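import Cfsg.Agent.Lib.MonsterType.ThreeRows
import Mathlib.Tactic.IntervalCases

/-! Kernel checks of the table of fixed classes. -/

set_option autoImplicit false

namespace CfsgLib.MonsterType.Three

open Cfsg CfsgLib CfsgLib.Leech
open CfsgLib.Leech.Orbits (vecOf eqB)

/-- The checks on a block of rows. -/
def rowsB (b : ℕ) : Bool := (List.range 32).all fun i => rowB ThreeData.tcode row (32 * b + i)

theorem rows_0 : rowsB 0 = true := by decide +kernel

theorem rows_1 : rowsB 1 = true := by decide +kernel

theorem rows_2 : rowsB 2 = true := by decide +kernel

theorem rows_3 : rowsB 3 = true := by decide +kernel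

theorem rows_4 : rowsB 4 = true := by decide +kernel

theorem rows_5 : rowsB 5 = true := by decide +kernel

theorem rows_6 : rowsB 6 = true := by decide +kernel

theorem rows_7 : rowsB 7 = true := by decide +kernel

theorem top_0 : ((List.range (2 ^ 0)).all fun k => topB row 0 k) = true := by decide +kernel

theorem top_1 : ((List.range (2 ^ 1)).all fun k => topB row 1 k) = true := by decide +kernel

theorem top_2 : ((List.range (2 ^ 2)).all fun k => topB row 2 k) = true := by decide +kernel

theorem top_3 : ((List.range (2 ^ 3)).all fun k => topB row 3 k) = true := by decide +kernel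

theorem top_4 : ((List.range (2 ^ 4)).all fun k => topB row 4 k) = true := by decide +kernel

theorem top_5 : ((List.range (2 ^ 5)).all fun k => topB row 5 k) = true := by decide +kernel

theorem top_6 : ((List.range (2 ^ 6)).all fun k => topB row 6 k) = true := by decide +kernel

theorem top_7 : ((List.range (2 ^ 7)).all fun k => topB row 7 k) = true := by decide +kernel

theorem avg_check : ((List.range 59).all fun k => avgB 3 ThreeData.tcode 8 row ThreeData.avg k) = true := by
  decide +kernel

theorem power_check : (Trans.okT ThreeData.tcode && eqW (List.replicate 3 tS) []) = true := by decide +kernel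

theorem rows_check : ∀ k < 2 ^ 8, rowB ThreeData.tcode row k = true := by
  intro k hk
  have h : rowsB (k / 32) = true := by
    have : k / 32 < 8 := by omega
    interval_cases k / 32
    exacts [rows_0, rows_1, rows_2, rows_3, rows_4, rows_5, rows_6, rows_7]
  have := List.all_eq_true.1 h (k % 32) (List.mem_range.2 (Nat.mod_lt _ (by norm_num)))
  rwa [Nat.div_add_mod] at this

theorem top_check : ∀ n < 8, ∀ k < 2 ^ n, topB row n k = true := by
  intro n hn k hk
  have h : ((List.range (2 ^ n)).all fun k => topB row n k) = true := by
    interval_cases n
    exacts [top_0, top_1, top_2, top_3, top_4, top_5, top_6, top_7]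
  exact List.all_eq_true.1 h k (List.mem_range.2 hk)

theorem avg_spec : ∀ k < 59, avgB 3 ThreeData.tcode 8 row ThreeData.avg k = true := fun k hk =>
  List.all_eq_true.1 avg_check k (List.mem_range.2 hk)

end CfsgLib.MonsterType.Three
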