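/-! Tables for the fixed classes of an element of order three without fixed points. -/

namespace CfsgLib.MonsterType.ThreeData

/-- The permutation. -/
def tcode : Nat :=
  151978796871488228145627175409997999

/-- Shortest vectors of the fixed classes, part 0. -/
def reps0 : List (List Int) :=
  [[0, 0, 0, 0, 0, 0, 0, 0, 0, 0, 0, 0, 0, 0, 0, 0, 0, 0, 0, 0, 0, 0, 0, 0],
    [0, 0, 0, 0, 0, 0, 0, 0, 0, 0, 0, 0, 0, 0, 0, 0, 0, 0, 0, 0, 0, 0, 0, 8],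
    [0, 0, 0, 0, -4, 0, 0, 0, -4, 0, 0, 0, 4, 0, 0, 0, 0, 0, 0, 0, 0, 0, 0, -4],
    [0, 0, 0, 0, 4, 0, 0, 0, 4, 0, 0, 0, -4, 0, 0, 0, 0, 0, 0, 0, 0, 0, 0, -4],
    [-1, -1, -1, 1, -1, -1, 1, -1, -3, 1, 1, 1, -1, -3, 1, -1, -1, -3, 1, -1, 1, -1, 3, -3],
    [-1, 3, -1, 1, -1, 3, 1, -1, 1, 1, 1, 1, 3, 1, 1, -1, -1, 1, 1, -1, 1, -1, -1, 1],
    [-3, 1, 1, -1, 1, 1, -1, -3, -1, -1, -1, -1, 1, -1, -1, -3, 1, -1, -1, 1, -1, 1, 1, -1],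
    [-1, 3, -1, -3, -1, -1, -3, -1, 1, 1, 1, 1, -1, 1, 1, -1, -1, -3, 1, -1, -3, -1, -1, 1],
    [0, 0, 0, -4, 0, 0, 0, 0, 0, 0, 0, 0, 0, 0, 0, 4, -4, -4, 0, 0, 0, 0, 0, 0],
    [0, 0, 0, -4, 0, 0, 0, 0, 0, 0, 0, 0, 0, 0, 0, -4, -4, -4, 0, 0, 0, 0, 0, 0],
    [0, 0, 4, 0, 0, 0, -4, 0, 0, -4, 0, 0, 0, 0, 0, 0, 0, 0, 0, 4, 0, 0, 0, 0],
    [0, 0, 4, 0, 0, 0, -4, 0, 0, -4, 0, 0, 0, 0, 0, 0, 0, 0, 0, -4, 0, 0, 0, 0],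
    [-1, -1, -1, 1, 3, -1, 1, -1, 1, 1, 1, 1, -1, 1, 1, -1, 3, 1, 1, 3, 1, -1, -1, 1],
    [1, 1, 1, -1, -3, 1, -1, 1, -1, -1, -1, -1, 1, -1, -1, 1, -3, -1, -1, 5, -1, 1, 1, -1],
    [-1, -1, -1, 1, -1, -1, -3, 3, -3, -3, 1, 1, -1, 1, -3, -1, -1, 1, 1, -1, 1, -1, -1, 1],
    [-1, -1, 3, 1, -1, -1, 1, -1, 1, 1, 1, 1, -1, 1, 1, -1, -1, 1, 1, -1, 1, 3, 3, 1]]

/-- Shortest vectors of the fixed classes, part 1. -/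
def reps1 : List (List Int) :=
  [[0, 0, -4, 0, 0, 0, 0, -4, 0, 0, 0, 4, 0, 0, 0, 0, 0, 0, 0, -4, 0, 0, 0, 0],
    [0, 0, 4, 0, 0, 0, 0, 4, 0, 0, 0, -4, 0, 0, 0, 0, 0, 0, 0, -4, 0, 0, 0, 0],
    [0, 0, 0, 0, 0, 0, -4, 0, 0, 0, 0, -4, 0, 4, 0, 0, 0, 0, 0, 4, 0, 0, 0, 0],
    [0, -4, 0, -4, 0, 0, 0, 0, 0, 0, 0, 0, 0, 0, 0, 4, 0, 0, 0, 0, 0, -4, 0, 0],
    [1, 1, 1, -1, 1, 1, -1, 1, 3, -1, -1, -5, 1, -1, 3, 1, 1, -1, -1, 1, -1, 1, 1, -1],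
    [-1, -1, -1, 1, -1, -1, 1, -1, -3, 1, 1, -3, -1, 1, -3, -1, -1, 1, 1, -1, 1, -1, -1, 1],
    [-1, -1, -1, 1, -1, -1, -3, -1, 1, 1, 1, 1, -1, 1, 1, -1, -1, 1, -3, -1, -3, -1, -1, 1],
    [3, -1, -1, -3, 3, -1, 1, -1, 1, -3, -3, 1, -1, 1, 1, -1, -1, 1, 1, -1, 1, -1, -1, 1],
    [-4, 0, 0, 0, 4, 0, 0, 0, 0, 0, 0, 0, 4, 0, 0, 0, 0, 0, 0, 0, -4, 0, 0, 0],
    [4, 0, 0, 0, 4, 0, 0, 0, 0, 0, 0, 0, -4, 0, 0, 0, 0, 0, 0, 0, 4, 0, 0, 0],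
    [0, 0, 0, 0, -4, 0, 0, 0, 0, 0, -4, 0, 4, 0, 0, 0, 0, 0, 0, 0, 0, 0, -4, 0],
    [-4, 0, 0, 0, 0, 0, 0, 0, 4, 0, 0, 0, 0, 0, 0, 0, 0, 0, 0, 0, -4, 0, 0, 4],
    [-1, -1, -1, 1, -1, -1, 1, -1, 1, 1, -3, 1, -1, -3, 1, -1, -1, -3, 1, -1, 1, -1, -1, 1],
    [3, -1, -1, -3, -1, -1, 1, 3, 1, 1, 1, 1, -1, 1, -3, -1, -1, 1, -3, -1, 1, -1, -1, 1],
    [-1, -1, -1, -3, -1, -1, 1, -1, 1, -3, 1, 1, -1, 1, 1, -1, -1, 1, 1, -1, 1, -1, -1, 5],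
    [-1, -1, -1, -3, -1, -1, 1, -1, 1, -3, 1, 1, -1, 1, 1, -1, -1, 1, 1, -1, 1, -1, -1, -3]]

/-- Shortest vectors of the fixed classes, part 2. -/
def reps2 : List (List Int) :=
  [[1, 1, -1, -3, -1, 1, -1, 1, -1, -3, 1, -1, 1, 1, -1, 1, -1, 1, -1, -1, -1, -1, -1, 5],
    [-1, -1, 1, 3, 1, -1, 1, -1, 1, 3, -1, 1, -1, -1, 1, -1, 1, -1, 1, 1, 1, 1, 1, 3],
    [-1, -1, 1, -1, 1, -1, 1, -1, 1, -1, 3, 1, -1, 3, 1, -1, 1, 3, 1, 1, 1, 1, 1, -1],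
    [-1, -1, 1, -1, -3, -1, -3, -1, 1, -1, -1, 1, -1, -1, 1, -1, 1, -1, -3, 1, 1, 1, -3, 3],
    [0, 0, 2, 2, 2, 0, 0, 0, 4, 2, -2, 0, 0, 2, 0, 0, 2, 2, 0, 2, 0, 2, -2, -2],
    [0, 0, 2, 2, 2, 0, 0, 0, -4, 2, -2, 0, 0, 2, 0, 0, 2, 2, 0, 2, 0, 2, -2, -2],
    [0, 0, 2, -2, 2, 0, 0, 0, 4, -2, 2, 0, 0, -2, 0, 0, 2, -2, 0, 2, 0, 2, -2, 2],
    [0, 0, -2, -2, 2, 0, 0, 0, 0, 2, -2, -4, 0, 2, 0, 0, 2, -2, 0, 2, 0, 2, 2, -2],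
    [1, 1, 3, 1, -1, 1, -1, 1, 3, 1, -3, -1, 1, 1, -1, 1, -1, 1, -1, -1, -1, 3, -1, -3],
    [-1, -1, 1, -1, 1, -1, -3, -1, 1, -1, -1, 1, -1, -1, 1, -1, 1, -1, -3, 1, -3, 1, 1, -1],
    [-1, -1, 1, -1, 1, -1, 1, -1, -3, -1, -1, -3, -1, -1, -3, -1, 1, -1, 1, 1, 1, 1, 1, -1],
    [-1, -1, 1, -1, 1, -1, 1, 3, 1, 3, 3, 1, -1, -1, 1, -1, 1, 3, 1, -3, 1, 1, 1, -1],
    [-2, 2, 0, 0, 0, 2, -2, -2, 2, 0, 0, 2, 2, 0, 2, -2, 0, 0, -2, 0, -2, 0, 0, 0],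
    [0, 0, -2, -2, 2, 0, 0, 0, 0, -2, 2, 0, 0, 2, 0, 0, 2, 2, 0, 2, 0, -2, -2, -2],
    [0, 0, -2, 2, 2, 0, 0, 0, 0, 2, -2, 0, 0, -2, 0, 0, 2, -2, 0, 2, 0, -2, -2, 2],
    [-2, 2, 0, 0, 0, 2, 2, -2, -2, 0, 0, -2, 2, 0, -2, -2, 0, 0, 2, 0, 2, 0, 0, 0]]

/-- Shortest vectors of the fixed classes, part 3. -/
def reps3 : List (List Int) :=
  [[-1, -1, 1, -1, -3, -1, 1, 3, 1, -1, 3, 1, -1, -1, 1, 3, 1, -1, 1, 1, 1, 1, 1, 3],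
    [-1, -1, -3, -1, 1, -1, 1, -1, 1, -1, -1, 1, -1, -1, 1, -1, 1, -1, 1, 1, 1, -3, -3, -1],
    [-1, -1, 1, -1, -3, -1, 1, -1, 1, -1, -1, 1, -1, -1, 1, -1, -3, -1, 1, -3, 1, 1, 1, -1],
    [3, -1, 1, 3, 1, -1, 1, -1, 1, 3, -1, 1, 3, -1, 1, -1, 1, -1, 1, 1, 1, 1, -3, -1],
    [0, 0, 2, 2, -2, 0, 0, 0, -4, 2, 2, 0, 0, -2, 0, 0, -2, -2, 0, -2, 0, 2, -2, -2],
    [0, 0, 2, 2, 2, 0, 0, 4, 0, -2, 2, 0, 0, -2, 0, 0, 2, 2, 0, -2, 0, 2, 2, 2],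
    [0, 0, -2, 2, 2, 0, 0, 0, -4, 2, 2, 0, 0, -2, 0, 0, 2, -2, 0, 2, 0, -2, 2, -2],
    [0, 0, 2, -2, 2, 0, 0, 4, 0, 2, -2, 0, 0, 2, 0, 0, 2, -2, 0, -2, 0, 2, 2, -2],
    [1, -3, -1, -3, -1, 1, 3, 1, -1, 1, 1, -1, 1, 1, -1, 1, -1, -3, -1, -1, 3, -1, -1, 1],
    [-3, 1, -1, 1, -1, 1, -1, -3, -1, 1, 1, -1, 1, 1, -1, -3, -1, 1, -1, -1, -1, -1, -1, 1],
    [-1, 3, 1, -1, 1, 3, 1, -1, 1, -1, -1, 1, 3, -1, 1, -1, 1, -1, 1, 1, 1, 1, 1, -1],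
    [1, 1, -1, 1, -1, 1, -1, 1, 3, 1, 1, -1, 1, -3, -1, 1, -1, -3, -1, -1, -1, -1, 3, -3],
    [-2, -2, 0, 0, 0, -2, -2, -2, -2, 0, 0, -2, -2, 0, -2, -2, 0, 0, -2, 0, -2, 0, 0, 0],
    [0, 0, -2, -2, -2, 0, 0, 0, 0, -2, -2, 0, 0, -2, 0, 0, -2, -2, 0, -2, 0, -2, -2, -2],
    [-2, -2, 0, 0, 0, -2, 2, -2, 2, 0, 0, 2, -2, 0, 2, -2, 0, 0, 2, 0, 2, 0, 0, 0],
    [0, 0, -2, 2, -2, 0, 0, 0, 0, 2, 2, 0, 0, 2, 0, 0, -2, 2, 0, -2, 0, -2, -2, 2]]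

/-- Shortest vectors of the fixed classes, part 4. -/
def reps4 : List (List Int) :=
  [[1, -1, -1, -1, 1, -1, 1, -3, -1, 3, -3, -1, -1, 1, -1, 1, 1, -3, 1, -3, 1, -1, -1, -1],
    [-1, 1, 1, 1, -1, 1, -1, -1, -3, 1, -1, -3, 1, -1, -3, -1, -1, -1, -1, -1, -1, 1, 1, 1],
    [-1, 1, -3, 1, -1, 1, -1, -1, -3, 1, 3, 1, 1, -1, 1, -1, -1, -1, -1, -1, -1, -3, 1, -3],
    [-1, 1, 1, 1, -1, 1, 3, -1, 1, 1, -1, 1, 1, -1, 1, -1, -1, -1, 3, -1, 3, 1, 1, 1],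
    [2, 0, 0, 2, -2, -4, 0, 2, -2, -2, 0, 2, 0, 0, -2, 2, -2, 0, 0, 2, 0, 0, 0, 2],
    [2, 0, 0, -2, -2, 0, 0, -2, 2, 2, 0, 2, 0, 4, 2, 2, -2, 0, 0, 2, 0, 0, 0, -2],
    [0, -2, 2, 0, 0, -2, 2, 0, 0, 0, -2, 0, -2, -2, 0, 0, 0, -2, 2, 0, 2, 2, 2, 0],
    [-2, 0, 0, -2, 2, 0, 0, -2, 2, -2, 0, 2, 0, 0, 2, -2, 2, 0, 0, 2, 0, 0, 0, -2],
    [1, -1, -1, -1, -3, -1, -3, 1, -1, -1, 1, -1, -1, 1, -1, 1, 1, 1, -3, 1, 1, -1, 3, 3],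
    [-1, 1, 1, 1, -1, 1, -1, -1, 1, 1, 3, 1, 1, 3, 1, -1, -1, 3, -1, -1, -1, 1, 1, 1],
    [-1, 1, 1, -3, -1, 1, -1, -1, 1, -3, -1, 1, 1, -1, 1, -1, -1, -1, -1, -1, -1, 1, 1, 5],
    [-1, 1, 1, -3, -1, 1, -1, -1, 1, -3, -1, 1, 1, -1, 1, -1, -1, -1, -1, -1, -1, 1, 1, -3],
    [0, -2, 2, 0, 0, -2, -2, 0, 0, 0, 2, 0, -2, 2, 0, 0, 0, 2, -2, 0, -2, 2, 2, 0],
    [-2, 0, 0, 2, 2, 0, 0, -2, -2, 2, 0, -2, 0, 0, -2, -2, 2, 0, 0, 2, 0, 0, 0, 2],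
    [2, 0, 0, 2, 2, 0, 0, 2, -2, -2, 0, -2, 0, 0, 2, -2, 2, 0, -4, 2, 0, 0, 0, -2],
    [0, -2, 2, 4, 0, 2, 2, 0, 0, 0, 2, 0, 2, 2, 0, 0, 0, -2, -2, 0, 2, 2, 2, 0]]

/-- Shortest vectors of the fixed classes, part 5. -/
def reps5 : List (List Int) :=
  [[-1, -3, 1, 1, -1, -3, -1, -1, 1, 1, -1, 1, -3, -1, 1, -1, -1, -1, -1, -1, -1, 1, 1, 1],
    [1, -1, -1, -1, -3, -1, -3, 1, 3, -1, -3, -1, -1, 1, -1, 1, 1, 1, -3, 1, 1, -1, -1, -1],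
    [-3, -1, -1, -1, 1, -1, 1, -3, -1, -1, 1, -1, -1, 1, -1, -3, 1, 1, 1, 1, 1, -1, -1, -1],
    [1, -1, -1, 3, 1, 3, 1, 1, -1, -1, 1, -1, 3, 1, 3, 1, -3, 1, 1, 1, 1, -1, -1, -1],
    [0, -2, -2, 0, 0, -2, 2, 0, 0, 0, 2, 0, -2, 2, 0, 0, 0, 2, 2, 0, 2, -2, -2, 0],
    [-2, 0, 0, 2, -2, 0, 0, -2, 2, 2, 0, 2, 0, 0, 2, -2, -2, 0, 0, -2, 0, 0, 0, 2],
    [-2, 0, 0, 2, 2, 0, 0, 2, 2, 2, 0, -2, 0, 0, -2, 2, -2, 0, 0, -2, 0, 0, -4, 2],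
    [2, 4, 0, 2, 2, 0, 0, 2, -2, -2, 0, -2, 0, 0, 2, 2, -2, 0, 0, 2, 0, 0, 0, -2],
    [-1, 1, 1, 1, 3, 1, -1, -1, 1, 1, -1, 1, 1, -1, 1, -1, 3, -1, -1, 3, -1, 1, 1, 1],
    [1, -1, -1, -1, 5, -1, 1, 1, -1, -1, 1, -1, -1, 1, -1, 1, -3, 1, 1, -3, 1, -1, -1, -1],
    [-1, 1, -3, 1, -1, 1, -1, -1, 1, 1, -1, 1, 1, -1, 1, -1, -1, -1, -1, -1, -1, -3, -3, 1],
    [-1, 1, 1, 1, -1, 1, 3, 3, -3, -3, -1, 1, 1, -1, -3, -1, -1, -1, -1, -1, -1, 1, 1, 1],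
    [2, 0, 0, 2, -2, 0, 0, -2, 2, 2, 0, -2, 0, 0, -2, -2, 2, 0, 0, 2, 0, 0, -4, 2],
    [-2, 0, 0, 2, 2, 0, 0, -2, 2, -2, 0, 2, 0, 0, -2, 2, 2, 0, 4, 2, 0, 0, 0, -2],
    [-2, 0, 0, -2, -2, 0, 0, -2, -2, -2, 0, -2, 0, 0, -2, -2, -2, 0, 0, -2, 0, 0, 0, -2],
    [0, -2, -2, 0, 0, -2, -2, 0, 0, 0, -2, 0, -2, -2, 0, 0, 0, -2, -2, 0, -2, -2, -2, 0]]

/-- Shortest vectors of the fixed classes, part 6. -/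
def reps6 : List (List Int) :=
  [[0, -2, 0, -2, -2, -2, -2, 0, 0, -2, 4, 0, 2, 0, 0, 0, -2, 0, -2, -2, 2, 0, 0, 2],
    [0, -2, 0, -2, 2, 2, 2, 0, 0, 2, 0, 0, 2, 0, 0, 0, 2, 4, -2, 2, 2, 0, 0, 2],
    [0, -2, 0, 2, 2, -2, -2, 0, 0, 2, 0, 0, -2, 0, 0, 0, 2, 0, -2, 2, -2, 0, 0, 2],
    [-2, 0, 2, 0, 0, 0, 0, -2, -2, 0, 2, -2, 0, 2, -2, -2, 0, 2, 0, 0, 0, 2, 2, 0],
    [1, -1, 1, -3, 3, -1, 1, 1, 3, -3, -1, -1, 3, -1, -1, 1, -1, -1, 1, -1, 1, 1, 1, 1],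
    [-1, 1, -1, -1, 1, 1, -1, -1, 1, -1, -3, 1, 1, -3, 1, -1, 1, -3, -1, 1, -1, -1, -1, -1],
    [1, -1, 1, 5, -1, -1, 1, 1, -1, -3, -1, -1, -1, -1, -1, 1, -1, -1, 1, -1, 1, 1, 1, -3],
    [-1, 1, -1, 3, 1, 1, -1, -1, 1, 3, 1, 1, 1, 1, 1, -1, 1, 1, -1, 1, -1, -1, -1, 3],
    [0, 2, 0, -2, 2, 2, -2, 0, 0, -2, -4, 0, -2, 0, 0, 0, 2, 0, -2, 2, 2, 0, 0, 2],
    [0, 2, 0, -2, 2, 2, -2, 0, 0, -2, 4, 0, -2, 0, 0, 0, 2, 0, -2, 2, 2, 0, 0, 2],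
    [-2, 0, 2, 0, 0, 0, 0, -2, 2, 0, -2, 2, 0, -2, 2, -2, 0, -2, 0, 0, 0, 2, 2, 0],
    [0, -2, 0, -2, 2, -2, 2, 0, 0, -2, 0, 0, -2, 0, 0, 0, 2, 0, 2, 2, 2, 0, 0, -2],
    [-1, 1, -1, -1, 1, 1, -1, -1, -3, -1, 1, -3, 1, 1, -3, -1, 1, 1, -1, 1, -1, -1, -1, -1],
    [-1, 1, -1, -1, 1, 1, -1, 3, 1, 3, -3, 1, 1, 1, 1, -1, 1, -3, -1, -3, -1, -1, -1, -1],
    [-1, 1, -1, -1, 1, 1, 3, -1, 1, -1, 1, 1, 1, 1, 1, -1, 1, 1, 3, 1, 3, -1, -1, -1],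
    [1, -1, -3, 1, -1, -1, 1, 1, 3, 1, 3, -1, -1, -1, -1, 1, -1, -1, 1, -1, 1, -3, 1, -3]]

/-- Shortest vectors of the fixed classes, part 7. -/
def reps7 : List (List Int) :=
  [[-2, 0, -2, 0, 0, 0, 0, -2, -2, 0, -2, -2, 0, -2, -2, -2, 0, -2, 0, 0, 0, -2, -2, 0],
    [0, -2, 0, -2, -2, -2, -2, 0, 0, -2, 0, 0, -2, 0, 0, 0, -2, 0, -2, -2, -2, 0, 0, -2],
    [0, -2, 0, 2, 2, -2, -2, 0, 0, 2, 4, 0, 2, 0, 0, 0, 2, 0, -2, 2, 2, 0, 0, -2],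
    [-2, 0, 2, 0, 0, 0, 0, -2, -2, 0, 2, -2, 0, 2, 2, 2, 4, 2, 0, 0, 0, -2, 2, 0],
    [-1, 1, -1, -1, -3, 1, -1, -1, 1, -1, 1, 1, 1, 1, 1, -1, -3, 1, -1, -3, -1, -1, -1, -1],
    [-1, 1, -1, -1, -3, 1, -1, -1, 1, -1, 1, 1, 1, 1, 1, -1, -3, 1, -1, 5, -1, -1, -1, -1],
    [-1, 1, 3, -1, 1, 1, -1, -1, 1, -1, 1, 1, 1, 1, 1, -1, 1, 1, -1, 1, -1, 3, 3, -1],
    [1, -1, 1, 1, 3, -1, 1, -3, -1, 1, 3, -1, -1, -1, -1, -3, -1, -1, 1, -1, 1, 1, 1, -3],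
    [-2, 0, -2, 0, 0, 0, 0, -2, 2, 0, 2, 2, 0, 2, 2, -2, 0, 2, 0, 0, 0, -2, -2, 0],
    [0, -2, 0, 2, -2, -2, 2, 0, 0, 2, 0, 0, -2, 0, 0, 0, -2, 0, 2, -2, 2, 0, 0, 2],
    [0, -2, 0, -2, 2, -2, 2, 0, 0, -2, -4, 0, 2, 0, 0, 0, 2, 0, 2, 2, -2, 0, 0, 2],
    [2, 0, -2, 0, 0, 0, 0, 2, -2, 0, 2, 2, 0, -2, 2, 2, 0, -2, 0, 0, 0, -2, 2, -4],
    [1, -1, 1, 1, -1, -1, 1, 1, 3, 1, -1, -1, -1, 3, -1, 1, -1, 3, 1, -1, 1, 1, -3, -3],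
    [-1, -3, -1, -1, 1, -3, -1, -1, 1, -1, 1, 1, -3, 1, 1, -1, 1, 1, -1, 1, -1, -1, -1, -1],
    [1, 3, 1, -3, -1, -1, -3, 1, -1, 1, -1, -1, -1, -1, -1, 1, -1, 3, 1, -1, -3, 1, 1, 1],
    [-3, -1, 1, 1, -1, -1, 1, -3, -1, 1, -1, -1, -1, -1, -1, -3, -1, -1, 1, -1, 1, 1, 1, 1]]

/-- Shortest vectors of the fixed classes, part 8. -/
def reps8 : List (List Int) :=
  [[-1, 1, -1, 1, 1, 1, 1, -1, 3, 1, -1, -1, 1, 3, -1, -1, 1, 3, 1, 1, 1, -1, 3, -3],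
    [-1, -3, -1, 1, 1, -3, 1, -1, -1, 1, -1, -1, -3, -1, -1, -1, 1, -1, 1, 1, 1, -1, -1, 1],
    [-1, -3, -1, -3, 1, 1, -3, -1, -1, 1, -1, -1, 1, -1, -1, -1, 1, 3, 1, 1, -3, -1, -1, 1],
    [-3, -1, 1, -1, -1, -1, -1, -3, 1, -1, 1, 1, -1, 1, 1, -3, -1, 1, -1, -1, -1, 1, 1, -1],
    [-2, 0, -2, 2, 0, 0, 2, -2, 0, 2, 0, 0, 0, 0, 0, -2, 0, 0, 2, 0, 2, -2, -2, 2],
    [0, -2, 0, 0, -2, -2, 0, 0, 2, 0, 2, 2, -2, 2, 2, 0, -2, 2, 0, -2, 0, 0, 0, 0],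
    [0, 2, 0, 0, 2, 2, 0, 0, 2, 0, -2, -2, 2, 2, -2, 0, -2, 2, 0, -2, -4, 0, 0, 0],
    [-2, -4, 2, 2, 0, 0, 2, -2, 0, -2, 0, 0, 0, 0, 0, 2, 0, 0, 2, 0, 2, -2, 2, -2],
    [-1, 1, -1, 1, -3, 1, 1, -1, -1, 1, -1, -1, 1, -1, -1, -1, -3, -1, 1, -3, 1, -1, -1, 1],
    [-1, 1, -1, 1, 5, 1, 1, -1, -1, 1, -1, -1, 1, -1, -1, -1, -3, -1, 1, -3, 1, -1, -1, 1],
    [-1, 1, 3, 1, 1, 1, 1, -1, -1, 1, -1, -1, 1, -1, -1, -1, 1, -1, 1, 1, 1, 3, 3, 1],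
    [1, -1, 1, -1, 3, -1, -1, -3, 1, -1, -3, 1, -1, 1, 1, -3, -1, 1, -1, -1, -1, 1, 1, 3],
    [-2, 0, -2, -2, 0, 0, -2, -2, 0, -2, 0, 0, 0, 0, 0, -2, 0, 0, -2, 0, -2, -2, -2, -2],
    [0, -2, 0, 0, -2, -2, 0, 0, -2, 0, -2, -2, -2, -2, -2, 0, -2, -2, 0, -2, 0, 0, 0, 0],
    [0, -2, 0, 0, -2, -2, 0, 0, 2, 0, -2, -2, -2, 2, -2, 0, 2, 2, 0, 2, -4, 0, 0, 0],
    [-2, -4, 2, -2, 0, 0, -2, -2, 0, 2, 0, 0, 0, 0, 0, 2, 0, 0, -2, 0, -2, -2, 2, 2]]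

/-- Shortest vectors of the fixed classes, part 9. -/
def reps9 : List (List Int) :=
  [[-1, 1, -1, 1, 1, 1, 1, 3, -1, -3, 3, -1, 1, -1, -1, -1, 1, 3, 1, -3, 1, -1, -1, 1],
    [-1, 1, -1, 1, 1, 1, 1, -1, 3, 1, -1, 3, 1, -1, 3, -1, 1, -1, 1, 1, 1, -1, -1, 1],
    [3, 1, -1, -3, -3, 1, 1, -1, -1, -3, 3, -1, 1, -1, -1, -1, 1, -1, 1, 1, 1, -1, -1, 1],
    [-1, 1, -1, 1, 1, 1, -3, -1, -1, 1, -1, -1, 1, -1, -1, -1, 1, -1, -3, 1, -3, -1, -1, 1],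
    [0, -2, 0, 0, 2, -2, 0, 0, 2, 0, -2, 2, -2, -2, 2, 0, 2, -2, 0, 2, 0, 0, 0, 0],
    [-2, 0, 2, -2, 0, 0, 2, -2, 0, -2, 0, 0, 0, 0, 0, -2, 0, 0, 2, 0, 2, 2, 2, -2],
    [0, -2, 0, 0, -2, -2, 0, 0, -2, 0, -2, 2, 2, -2, 2, 0, 2, -2, 0, 2, 0, 0, 0, -4],
    [0, 2, 0, 0, -2, 2, 0, 0, 2, 0, 2, -2, 2, -2, -2, 0, 2, -2, 0, 2, -4, 0, 0, 0],
    [-1, 1, -1, 1, 1, 1, 1, -1, -1, 1, 3, -1, 1, 3, -1, -1, 1, 3, 1, 1, 1, -1, -1, 1],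
    [1, -1, 1, 3, 3, -1, -1, 1, -3, 3, 1, 1, 3, 1, 1, 1, -1, 1, -1, -1, -1, 1, 1, -1],
    [-1, 1, -1, -3, 1, 1, 1, -1, -1, -3, -1, -1, 1, -1, -1, -1, 1, -1, 1, 1, 1, -1, -1, -3],
    [-1, 1, -1, 1, 1, 1, 1, -1, 3, 1, 3, -1, 1, -1, -1, -1, -3, -1, 1, -3, -3, -1, -1, 1],
    [-2, 0, 2, 2, 0, 0, -2, -2, 0, 2, 0, 0, 0, 0, 0, -2, 0, 0, -2, 0, -2, 2, 2, 2],
    [0, -2, 0, 0, 2, -2, 0, 0, -2, 0, 2, -2, -2, 2, -2, 0, 2, 2, 0, 2, 0, 0, 0, 0],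
    [0, -2, 0, 0, 2, -2, 0, 0, 2, 0, 2, -2, -2, -2, -2, 0, -2, -2, 0, -2, -4, 0, 0, 0],
    [0, -2, 0, 0, 2, 2, 0, 0, -2, 4, 2, 2, -2, 2, -2, 0, 2, 2, 0, -2, 0, 0, 0, 0]]

/-- Shortest vectors of the fixed classes, part 10. -/
def reps10 : List (List Int) :=
  [[0, -2, -2, -2, 0, -2, 0, 0, -2, -2, 0, -2, -2, 0, -2, 0, 0, 0, 0, 0, 0, -2, -2, -2],
    [-2, 0, 0, 0, -2, 0, -2, -2, 0, 0, -2, 0, 0, -2, 0, -2, -2, -2, -2, -2, -2, 0, 0, 0],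
    [0, -2, -2, 2, 0, -2, 0, 0, -2, 2, 0, 2, 2, 0, 2, 0, 0, 0, 0, 0, -4, -2, 2, 2],
    [4, 2, -2, -2, 0, 2, 0, 0, 2, -2, 0, 2, -2, 0, 2, 0, 0, 0, 0, 0, 0, -2, 2, 2],
    [-1, 1, 1, -1, 3, 1, 1, 3, -1, -1, -3, -1, 1, 1, -1, 3, -1, 1, 1, -1, 1, 1, 1, 3],
    [-1, 1, -3, -1, -1, 1, 1, -1, -1, -1, 1, -1, 1, 1, -1, -1, -1, 1, 1, -1, 1, -3, -3, -1],
    [1, -1, -1, 1, -3, -1, -1, 1, 1, 1, -1, 1, -1, -1, 1, 1, -3, -1, -1, 5, -1, -1, -1, 1],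
    [-1, 1, 1, -1, 3, 1, 1, -1, -1, -1, 1, -1, 1, 1, -1, -1, 3, 1, 1, 3, 1, 1, 1, -1],
    [-2, 0, 0, 0, 2, 0, 2, -2, 0, 0, -2, 0, 0, -2, -4, -2, -2, 2, -2, 2, 2, 0, 0, 0],
    [0, -2, 2, 2, 0, -2, 0, 0, 2, 2, -4, -2, -2, 0, -2, 0, 0, 0, 0, 0, 0, 2, -2, -2],
    [-2, 0, 0, 0, -2, 0, 2, -2, 0, 0, 2, 0, 0, 2, 0, -2, -2, 2, 2, -2, 2, 0, 0, 0],
    [0, -2, -2, 2, 0, -2, 0, 0, 2, 2, 0, 2, -2, 0, 2, 0, 0, 0, 0, 0, 0, -2, -2, 2],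
    [-1, -3, 1, -1, -1, 1, 1, -1, -1, -1, -3, -1, 1, -3, -1, -1, 3, 1, 1, -1, 1, -3, 1, -1],
    [-3, -1, -1, 1, 1, -1, -1, -3, 1, 1, -1, 1, -1, -1, 1, -3, 1, -1, -1, 1, -1, -1, -1, 1],
    [1, -1, -1, 1, 1, -1, -1, 1, -3, 1, -1, 1, -1, 3, 1, 1, 1, 3, -1, 1, -1, -1, 3, -3],
    [-1, -3, 1, -1, -1, -3, 1, -1, -1, -1, 1, -1, -3, 1, -1, -1, -1, 1, 1, -1, 1, 1, 1, -1]]

/-- Shortest vectors of the fixed classes, part 11. -/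
def reps11 : List (List Int) :=
  [[0, -2, 2, 2, 0, -2, 0, 0, -2, 2, 0, -2, -2, 0, -2, 0, 0, 0, 0, 0, 0, 2, 2, 2],
    [-2, 0, 0, 0, 2, 0, -2, -2, 0, 0, 2, 0, 0, 2, 0, -2, 2, 2, -2, 2, -2, 0, 0, 0],
    [0, -2, 2, -2, 0, -2, 0, 0, -2, -2, 0, 2, 2, 0, 2, 0, 0, 0, 0, 0, -4, 2, -2, -2],
    [0, 2, -2, 2, 0, -2, 0, 4, 2, -2, 0, 2, 2, 0, 2, 0, 0, 0, 0, 0, 0, 2, 2, 2],
    [1, -1, -1, -3, 1, -1, -1, 1, 1, -3, -1, 1, -1, -1, 1, 1, 1, -1, -1, 1, -1, -1, -1, 5],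
    [-1, 1, 1, 3, -1, 1, 1, -1, -1, 3, 1, -1, 1, 1, -1, -1, -1, 1, 1, -1, 1, 1, 1, 3],
    [-1, 1, 1, 3, 3, 1, 1, -1, 3, 3, 1, -1, -3, 1, -1, -1, -1, 1, 1, -1, 1, 1, 1, -1],
    [-1, 1, 1, -1, -1, 1, 1, -1, -1, -1, -3, -1, 1, -3, -1, -1, -1, -3, 1, -1, 1, 1, 1, -1],
    [2, 0, 0, 0, 2, 0, -2, -2, 0, 0, -2, 0, -4, -2, 0, -2, -2, -2, -2, -2, 2, 0, 0, 0],
    [0, 2, 2, -2, 0, -2, 4, 0, 2, -2, 0, -2, 2, 0, 2, 0, 0, 0, 0, 0, 0, -2, -2, -2],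
    [0, -2, 2, -2, 0, -2, 0, 0, 2, -2, 0, 2, -2, 0, 2, 0, 0, 0, 0, 0, 0, 2, 2, -2],
    [-2, 0, 0, 0, 2, 0, 2, -2, 0, 0, -2, 0, 0, -2, 0, -2, 2, -2, 2, 2, 2, 0, 0, 0],
    [1, -1, -1, -3, 1, -1, -1, -3, 1, 1, -1, 1, -1, 3, 1, 1, 1, -1, -1, -3, -1, -1, -1, -3],
    [-1, 1, 1, -1, -1, 1, -3, -1, -1, -1, 1, -1, 1, 1, -1, -1, -1, 1, -3, -1, -3, 1, 1, -1],
    [-1, 1, -3, -1, -1, 1, 1, 3, -1, -1, 1, -1, 1, -3, -1, -1, -1, 1, -3, -1, -3, 1, 1, -1],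
    [-1, 1, 1, -1, -1, 1, 1, -1, 3, -1, 1, 3, 1, 1, 3, -1, -1, 1, 1, -1, 1, 1, 1, -1]]

/-- Shortest vectors of the fixed classes, part 12. -/
def reps12 : List (List Int) :=
  [[-2, 2, 4, -2, 0, -2, 0, 2, 0, 2, 2, 0, 2, 2, 0, -2, 0, 2, 0, 0, 0, 0, 0, -2],
    [0, 0, -2, 0, -2, 0, -2, -4, 2, 0, 0, -2, 0, 0, 2, 0, -2, 0, -2, 2, -2, 2, 2, 0],
    [0, 0, 2, 0, -2, 0, 2, 0, 2, 0, 0, -2, 0, 4, 2, 0, -2, 0, -2, 2, -2, 2, 2, 0],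
    [0, 0, 2, 0, -2, 0, 2, 0, 2, 0, 0, -2, 0, -4, 2, 0, -2, 0, -2, 2, -2, 2, 2, 0],
    [-1, -1, 1, 1, -3, -1, -1, -1, -1, 1, 1, -1, -1, 1, -1, -1, -3, 1, -1, -3, -1, 1, 1, 1],
    [-1, -1, 1, 1, 1, 3, -1, -1, -1, 1, 1, -1, 3, 1, 3, -1, 1, 1, 3, 1, -1, -3, 1, 1],
    [1, 1, -1, -1, 3, 1, 1, -3, 1, -1, 3, 1, 1, -1, 1, -3, -1, -1, 1, -1, 1, -1, -1, 3],
    [-1, -1, -3, 1, 1, -1, -1, -1, -1, 1, 1, -1, -1, 1, -1, -1, 1, 1, -1, 1, -1, -3, -3, 1],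
    [-2, -2, 0, 2, 0, -2, 0, -2, 0, 2, 2, 0, -2, 2, 0, -2, 0, 2, 0, 0, 0, 0, 0, 2],
    [0, 0, -2, 0, -2, 0, 2, 0, 2, 0, 0, 2, 0, 0, 2, 0, -2, 0, 2, -2, 2, -2, -2, 0],
    [-2, -2, 0, -2, 0, -2, 0, -2, 0, -2, -2, 0, -2, -2, 0, -2, 0, -2, 0, 0, 0, 0, 0, -2],
    [0, 0, -2, 0, -2, 0, -2, 0, -2, 0, 0, -2, 0, 0, -2, 0, -2, 0, -2, -2, -2, -2, -2, 0],
    [-1, 3, 1, 1, 1, 3, -1, -1, -1, 1, 1, -1, 3, 1, -1, -1, 1, 1, -1, 1, -1, 1, 1, 1],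
    [1, 1, -1, -1, -1, 1, 1, 1, -3, -1, -1, 1, 1, 3, 1, 1, -1, 3, 1, -1, 1, -1, 3, 3],
    [1, -3, -1, 3, -1, 1, -3, 1, 1, -1, -1, 1, 1, -1, 1, 1, -1, 3, 1, -1, -3, -1, -1, -1],
    [-3, 1, -1, -1, -1, 1, 1, -3, 1, -1, -1, 1, 1, -1, 1, -3, -1, -1, 1, -1, 1, -1, -1, -1]]

/-- Shortest vectors of the fixed classes, part 13. -/
def reps13 : List (List Int) :=
  [[-2, 2, 0, 2, 0, 2, 0, -2, 0, 2, -2, 0, 2, -2, 0, -2, 0, -2, 0, 0, 0, 0, 0, 2],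
    [0, 0, -2, 0, 2, 0, 2, 0, -2, 0, 0, -2, 0, 0, -2, 0, 2, 0, 2, 2, 2, -2, -2, 0],
    [0, 0, -2, 0, 2, 0, -2, 0, 2, 0, 0, 2, 0, 0, 2, 0, 2, 0, -2, 2, -2, -2, -2, 0],
    [-2, 2, 0, -2, 0, 2, 0, -2, 0, -2, 2, 0, 2, 2, 0, -2, 0, 2, 0, 0, 0, 0, 0, -2],
    [1, 1, -1, -1, -1, 1, 1, 1, 1, -1, -5, 1, 1, 3, 1, 1, -1, 3, 1, -1, 1, -1, -1, -1],
    [-1, -1, 1, 1, 1, -1, -1, -1, -1, 1, -3, -1, -1, -3, -1, -1, 1, -3, -1, 1, -1, 1, 1, 1],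
    [-1, -1, 1, -3, 1, -1, -1, -1, -1, -3, 1, -1, -1, 1, -1, -1, 1, 1, -1, 1, -1, 1, 1, -3],
    [-1, -1, 1, 5, 1, -1, -1, -1, -1, -3, 1, -1, -1, 1, -1, -1, 1, 1, -1, 1, -1, 1, 1, -3],
    [0, 0, 2, 0, -2, 0, 2, 0, -2, 0, 4, 2, 0, 0, 2, 0, 2, 0, 2, 2, -2, 2, 2, 0],
    [0, 0, -2, 0, -2, 0, 2, 0, -2, 0, 0, 2, 0, 4, -2, 0, -2, 0, -2, 2, -2, -2, -2, 0],
    [0, 0, 2, 0, 2, 0, 2, 0, -2, 0, 0, 2, 0, 4, -2, 0, 2, 0, -2, -2, -2, 2, 2, 0],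
    [2, -2, 0, 2, 0, -2, 0, -2, 0, 2, 2, 0, 2, 2, 0, -2, 0, 2, 0, 0, 0, 0, 4, -2],
    [1, 1, -1, -1, -1, 1, 1, -3, 1, 3, 3, 1, 1, -1, 1, 1, -1, 3, 1, 3, 1, -1, -1, -1],
    [-1, -1, 1, 1, 1, -1, -1, -1, 3, 1, 1, 3, -1, 1, 3, -1, 1, 1, -1, 1, -1, 1, 1, 1],
    [-1, -1, 1, 1, 1, -1, 3, -1, -1, 1, 1, -1, -1, 1, -1, -1, 1, 1, 3, 1, 3, 1, 1, 1],
    [1, 1, -1, -1, -1, 1, 1, 1, 1, 3, -1, 1, 1, -1, 1, -3, 3, 3, 1, -1, 1, -1, -1, 3]]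

/-- Shortest vectors of the fixed classes, part 14. -/
def reps14 : List (List Int) :=
  [[-1, -1, -1, -1, -1, -1, -1, -1, 3, -1, -1, 3, -1, -1, 3, -1, -1, -1, -1, -1, -1, -1, -1, -1],
    [-1, -1, -1, -1, 3, 3, 3, 3, -1, -1, -1, -1, -1, -1, -1, -1, 3, -1, -1, -1, -1, -1, -1, -1],
    [3, -1, -1, -1, -1, -1, -1, 3, -1, -1, -1, -1, -1, -1, 3, -1, 3, -1, -1, -1, -1, 3, -1, -1],
    [-1, -1, -1, -1, -1, -1, 3, -1, -1, -1, -1, -1, -1, -1, -1, -1, -1, -1, 3, -1, 3, -1, -1, -1],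
    [0, 0, 0, 2, 0, 0, 2, 0, 2, 2, -2, 2, 4, 2, 2, 0, 0, 2, 2, 0, -2, 0, 0, -2],
    [2, 2, 2, 0, -2, -2, 0, -2, 0, 4, 0, 0, 2, 0, 0, 2, -2, 0, 0, -2, 0, -2, -2, 0],
    [2, -2, 2, 0, -2, -2, 0, -2, 4, 0, 0, 0, -2, 0, 0, -2, 2, 0, 0, 2, 0, 2, -2, 0],
    [2, -2, 2, 0, -2, -2, 0, -2, -4, 0, 0, 0, -2, 0, 0, -2, 2, 0, 0, 2, 0, 2, -2, 0],
    [3, -1, -1, -1, -1, -1, -1, -1, 3, -1, -1, -1, -1, -1, -1, -1, 3, -1, -1, 3, -1, -1, 3, -1],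
    [-1, -1, -1, -1, -1, -1, -1, -1, -1, -1, 3, -1, -1, 3, -1, -1, -1, 3, -1, -1, -1, -1, -1, -1],
    [-1, -1, -1, 3, -1, -1, -1, -1, -1, 3, -1, -1, -1, -1, -1, -1, -1, -1, -1, -1, -1, -1, -1, 3],
    [-1, -1, -1, 3, -1, -1, -1, -1, -1, 3, -1, -1, -1, -1, -1, -1, -1, -1, -1, -1, -1, -1, -1, -5],
    [2, 2, 2, 0, -2, 2, 0, -2, 0, 0, 0, 0, -2, 0, 0, -2, -2, 0, 0, -2, 0, 2, -2, 4],
    [2, 2, -2, 0, -2, 2, 0, -2, 4, 0, 0, 0, 2, 0, 0, -2, 2, 0, 0, 2, 0, -2, 2, 0],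
    [0, 0, 0, 2, 0, 0, 2, 0, -2, 2, -2, -2, 0, -2, 2, 0, -4, 2, -2, 0, 2, 0, 0, 2],
    [-2, 2, 2, 0, 2, -2, 0, 2, 0, -4, 0, 0, 2, 0, 0, -2, 2, 0, 0, 2, 0, -2, -2, 0]]

/-- Shortest vectors of the fixed classes, part 15. -/
def reps15 : List (List Int) :=
  [[1, 1, 1, 1, 1, 1, 1, 1, -3, 1, 1, 1, 1, -3, 1, 1, 1, -3, 1, 1, 1, 1, -3, -3],
    [-1, 3, -1, -1, -1, 3, -1, -1, -1, -1, -1, -1, 3, -1, -1, -1, -1, -1, -1, -1, -1, -1, -1, -1],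
    [-3, 1, 1, 1, 1, 1, 1, -3, 1, 1, 1, 1, 1, 1, 1, -3, 1, 1, 1, 1, 1, 1, 1, 1],
    [1, -3, 1, 1, -3, -3, 1, 1, -3, 1, 1, 1, 1, 1, 1, 1, 1, 1, 1, 1, 1, 1, 1, -3],
    [0, 0, 0, -2, 0, 0, -2, 0, -2, -2, -2, -2, 0, -2, -2, 0, 0, -2, -2, 0, -2, 0, 0, -2],
    [-2, -2, -2, 0, -2, -2, 0, -2, 0, 0, 0, 0, -2, 0, 0, -2, -2, 0, 0, -2, 0, -2, -2, 0],
    [0, 0, 0, -2, 0, 0, 2, 0, 2, -2, -2, 2, 0, -2, 2, 0, 0, -2, 2, 0, 2, 0, 0, -2],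
    [-2, -2, 2, 0, 2, -2, 0, -2, 0, 0, 0, 0, -2, 0, 0, -2, 2, 0, 0, 2, 0, 2, 2, 0],
    [-1, -1, -1, -1, 3, -1, -1, -1, -1, -1, -1, -1, -1, -1, -1, -1, 3, -1, -1, 3, -1, -1, -1, -1],
    [-3, 1, 1, -3, 1, 1, 1, 1, 1, -3, 1, 1, -3, 1, 1, 1, 1, 1, 1, 1, 1, 1, -3, 1],
    [-3, 1, 1, -3, 1, 1, 1, -3, 1, 1, 1, 1, 1, 1, 1, 1, -3, -3, 1, 1, 1, 1, 1, 1],
    [-1, -1, 3, -1, -1, -1, -1, -1, -1, -1, -1, -1, -1, -1, -1, -1, -1, -1, -1, -1, -1, 3, 3, -1],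
    [0, 0, 0, -2, 0, 0, -2, 0, 2, -2, 2, 2, 0, 2, 2, 0, 0, 2, -2, 0, -2, 0, 0, -2],
    [-2, 2, -2, 0, 2, 2, 0, -2, 0, 0, 0, 0, 2, 0, 0, -2, 2, 0, 0, 2, 0, -2, -2, 0],
    [-2, 2, 2, 0, -2, 2, 0, -2, 0, 0, 0, 0, 2, 0, 0, -2, -2, 0, 0, -2, 0, 2, 2, 0],
    [0, 0, 0, -2, 0, 0, 2, 0, -2, -2, 2, -2, 0, 2, -2, 0, 0, 2, 2, 0, 2, 0, 0, -2]]

/-- Shortest vectors of the fixed classes. -/
def repBlocks : List (List (List Int)) :=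
  [reps0, reps1, reps2, reps3, reps4, reps5, reps6, reps7, reps8, reps9, reps10, reps11, reps12, reps13, reps14, reps15]

/-- The classes of the averaged generators. -/
def avg : List Nat :=
  [1, 120, 211, 98, 97, 171, 71, 157, 106, 246, 1, 77, 235, 25, 26, 16, 1, 19, 26, 8, 25, 11, 1, 2, 11, 26, 2, 11, 25, 19, 2, 8, 19, 8, 16, 16, 24, 27, 17, 0, 18, 27, 9, 24, 10, 0, 3, 10, 27, 3, 10, 24, 18, 3, 9, 18, 9, 17, 17]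

/-- Generators of the centralizer among the permutations. -/
def permGens : List Nat :=
  [382949019294245203145113000277163717, 893869528009457704690525153059213550]

/-- Generators. -/
def gens : List (List (Option (Nat × Nat))) :=
  [[some (382949019294245203145113000277163717, 0)],
    [some (893869528009457704690525153059213550, 0)],
    [some (984818244535754528103549039458486304, 3378)],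
    [some (984818244535754528103549039458486304, 2531)],
    [some (984818244535754528103549039458486304, 3461)],
    [some (984818244535754528103549039458486304, 1707)],
    [some (839413438381939413615922100883796680, 1773), none, some (375917197980419934809335036120698976, 0), some (984818244535754528103549039458486304, 1311)],
    [some (506471417990085424090152334025379531, 2083), none, some (931502048372439337428082079075305504, 3071), none, some (725969081213909633546180916395843264, 135), none, some (645576746803292616461389131911022720, 208), none, some (443214553870494979500989190050597424, 3836), none, some (711802814460809876045267084316314656, 0), some (984818244535754528103549039458486304, 1155)]]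

/-- Images of the basis classes. -/
def cols : List (List Nat) :=
  [[1, 8, 7, 11, 26, 102, 35, 172], [1, 16, 64, 26, 19, 117, 172, 43], [1, 3, 128, 8, 16, 180, 220, 4], [1, 2, 59, 9, 16, 30, 109, 174], [1, 3, 124, 8, 17, 74, 43, 240], [1, 2, 205, 9, 17, 235, 144, 81], [2, 25, 104, 3, 18, 243, 20, 86], [4, 32, 164, 83, 225, 66, 8, 142]]

/-- The nine subspaces. -/
def systems : List (List Nat) :=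
  [[0, 1, 2, 3, 8, 9, 10, 11, 16, 17, 18, 19, 24, 25, 26, 27],
    [0, 4, 32, 36, 83, 87, 115, 119, 146, 150, 178, 182, 193, 197, 225, 229],
    [0, 7, 48, 55, 81, 86, 97, 102, 137, 142, 185, 190, 216, 223, 232, 239],
    [0, 13, 38, 43, 66, 79, 100, 105, 130, 143, 164, 169, 192, 205, 230, 235],
    [0, 14, 54, 56, 68, 74, 114, 124, 144, 158, 166, 168, 212, 218, 226, 236],
    [0, 20, 39, 51, 72, 92, 111, 123, 139, 159, 172, 184, 195, 215, 228, 240],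
    [0, 23, 35, 52, 78, 89, 109, 122, 128, 151, 163, 180, 206, 217, 237, 250],
    [0, 29, 40, 53, 64, 93, 104, 117, 134, 155, 174, 179, 198, 219, 238, 243],
    [0, 30, 37, 59, 69, 91, 96, 126, 135, 153, 162, 188, 194, 220, 231, 249]]

/-- Action on the subspaces. -/
def perms : List (List Nat) :=
  [[0, 2, 4, 3, 1, 7, 5, 6, 8], [0, 7, 2, 8, 4, 1, 3, 5, 6], [0, 6, 3, 2, 5, 4, 1, 8, 7], [0, 8, 4, 5, 2, 3, 7, 6, 1], [0, 4, 8, 7, 1, 6, 5, 3, 2], [0, 3, 6, 1, 7, 8, 2, 4, 5], [0, 7, 1, 3, 4, 6, 2, 5, 8], [1, 3, 6, 7, 5, 8, 2, 0, 4]]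

/-- Decomposition of the action. -/
def swaps : List (List (Nat × Nat)) :=
  [[(1, 2), (2, 4), (5, 7), (6, 7)], [(1, 7), (3, 8), (5, 7), (6, 8)], [(1, 6), (2, 3), (4, 5), (7, 8)], [(1, 8), (2, 4), (3, 5), (6, 7)], [(1, 4), (2, 8), (3, 7), (5, 6)], [(1, 3), (2, 6), (4, 7), (5, 8)], [(1, 7), (2, 7), (5, 6), (6, 7)], [(0, 1), (1, 3), (2, 6), (3, 7), (4, 5), (5, 8)]]

/-- Words for the successive stabilisers. -/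
def altWords : List (List (List Nat)) :=
  [[[], [7], [7, 0], [7, 5], [7, 4], [7, 1, 1], [7, 2], [7, 1], [7, 3]],
    [[], [0], [5], [4], [1, 1], [2], [1], [3]],
    [[], [2, 6, 6], [0, 6], [1, 0, 2], [5, 6, 5], [1, 6, 1], [4, 0]],
    [[], [3, 6, 6, 3], [0, 3, 6, 0], [4, 6, 4], [3, 6, 3], [0, 1, 0, 0]],
    [[], [7, 7, 7, 7], [0, 2, 6, 5], [0, 0, 2, 6, 5, 6], [2, 3, 7, 1, 7]],
    [[], [6, 2, 3, 6, 2, 3], [3, 7, 7, 4, 7, 6], [1, 5, 6, 7, 6, 7, 6]],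
    [[], [0, 1, 6, 6, 2, 4, 6], [1, 0, 2, 4, 6, 6, 0]]]

/-- Words reaching the frame classes. -/
def orbit : List (Nat × List Nat) :=
  [(1, []), (2, [6]), (3, [6, 2]), (4, [7]), (7, [7, 0]), (8, [6, 0]), (9, [6, 0, 3]), (10, [6, 0, 0, 2]), (11, [6, 0, 0]), (13, [6, 7, 1, 4]), (14, [7, 0, 0]), (16, [6, 1]), (17, [6, 1, 4]), (18, [6, 1, 6]), (19, [6, 1, 1]), (20, [7, 1, 6]), (23, [6, 0, 1, 7, 2]), (24, [6, 6, 3]), (25, [6, 6]), (26, [6, 0, 1]), (27, [6, 2, 6]), (29, [6, 0, 7, 6]), (30, [6, 7, 3]), (32, [6, 7]), (35, [7, 1, 0]), (36, [6, 2, 7]), (37, [6, 2, 7, 3]), (38, [6, 2, 7, 5]), (39, [7, 6, 0, 0]), (40, [6, 7, 7, 4]), (43, [7, 1, 4]), (48, [7, 7, 2]), (51, [7, 3, 6, 5]), (52, [6, 2, 7, 2]), (53, [6, 2, 7, 1]), (54, [6, 2, 7, 4]), (55, [6, 0, 3, 7, 0]), (56,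 [7, 0, 3]), (59, [7, 3]), (64, [7, 1]), (66, [6, 7, 7]), (68, [7, 1, 5, 6]), (69, [7, 1, 6, 7]), (72, [7, 1, 0, 4]), (74, [6, 7, 4]), (78, [7, 6, 0]), (79, [7, 0, 2, 6]), (81, [7, 0, 1]), (83, [6, 0, 7]), (86, [7, 2, 6]), (87, [6, 0, 3, 7]), (89, [6, 7, 1, 0]), (91, [7, 0, 4, 0]), (92, [7, 4, 7]), (93, [7, 6, 0, 3]), (96, [7, 6, 2]), (97, [6, 2, 7, 0]), (100, [6, 6, 7, 5]), (102, [6, 7, 0]), (104, [7, 6]), (105, [7, 6, 4]), (109, [7, 1, 3]), (111, [6, 7, 7, 3]), (114, [7, 6, 5]), (115, [7, 0, 6]), (117, [6, 7, 1]), (119, [7, 7, 5]), (122, [7, 6, 3]), (123, [6, 7, 4, 7]), (124, [7, 4]), (126, [7, 0, 4]), (128, [7, 2]), (130, [7, 0, 2]), (134, [7, 4, 6, 5]), (135, [7, 0, 4, 6]), (137, [6, 7, 0, 1]), (139, [7, 7, 3]), (142, [7, 2, 7]), (143, [7, 0, 6, 7]), (144, [7,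 1, 5]), (146, [6, 0, 1, 7]), (150, [6, 2, 6, 7]), (151, [7, 2, 7, 5]), (153, [6, 6, 7, 3]), (155, [6, 2, 7, 6]), (158, [7, 4, 6]), (159, [6, 7, 1, 6]), (162, [7, 3, 6, 6]), (163, [7, 2, 4, 6]), (164, [7, 7]), (166, [6, 7, 1, 5]), (168, [7, 2, 7, 0]), (169, [6, 6, 7, 7]), (172, [7, 1, 1]), (174, [7, 2, 3]), (178, [6, 6, 3, 7]), (179, [6, 1, 7, 6]), (180, [6, 7, 2]), (182, [6, 6, 7]), (184, [6, 7, 6, 6]), (185, [7, 1, 3, 7]), (188, [6, 7, 7, 1]), (190, [7, 0, 1, 1]), (192, [6, 1, 7, 7]), (193, [6, 1, 6, 7]), (194, [7, 6, 1, 5]), (195, [7, 6, 1]), (197, [6, 1, 1, 7]), (198, [7, 7, 4]), (205, [7, 5]), (206, [7, 0, 5]), (212, [7, 3, 7]), (215, [6, 7, 2, 0]), (216, [7, 6, 3, 7]), (217, [7, 6, 1, 4]), (218, [7, 6, 1, 2]), (219, [7, 0, 6, 1]), (220, [7, 1, 2]), (223, [6,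 6, 7, 0]), (225, [6, 1, 7]), (226, [7, 0, 3, 6]), (228, [7, 6, 6]), (229, [6, 1, 4, 7]), (230, [6, 2, 7, 7]), (231, [7, 6, 2, 6]), (232, [6, 1, 7, 0]), (235, [6, 7, 5]), (236, [7, 6, 5, 6]), (237, [7, 0, 1, 7]), (238, [7, 0, 6, 6]), (239, [7, 2, 6, 1]), (240, [7, 2, 4]), (243, [6, 7, 6]), (249, [7, 3, 6]), (250, [6, 7, 6, 0])]

/-- Words moving the base point. -/
def transWords : List (List Nat) :=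
  [[0, 1], [0, 0, 1, 0], [1, 0, 0], [0, 0], [1, 1, 0, 0], [0, 0, 1], [0, 1, 0, 1, 0], [0, 1, 0], [1, 0, 1, 0], [0], [1, 0, 0, 1, 0, 1], [1, 0, 1, 0, 0], [0, 0, 1, 0, 0], [0, 0, 1, 0, 1], [1, 0, 1], [0, 1, 0, 0], [1, 1, 0], [0, 0, 1, 0, 1, 0], [1, 0, 1, 0, 1], [1, 1], [0, 1, 0, 1], [1], [1, 0], []]

/-- The stabiliser of the base point in the centralizer. -/
def stab : List Nat :=
  [984818244535754528103549039458486304, 969068417336851149210420934869104128, 966340412450421940798097659095264832, 971025968244667339551621199492650436, 956001491313732296942836150050070052, 984805249257812951641962795143105092, 961224490321917030003656394927098920, 982087169250936461719447999367715304, 984807606954437971229503886016481832, 961252107991798599547225595881573866, 971000175730130943708630826539390538,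 966360776387622313224325657864023722, 966363553166331099521856031745486348, 982079443252144350697310596771191340, 956004545038045710719401868468002476, 969063204452450306181021440413905972, 956019207298433936927275395848445396, 961239605334206301031867730582687412, 969058333808914166585241413573785046, 971010989285224065908477415894652406, 982074728008183929586557541949741590]

/-- Words for it. -/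
def stabWords : List (List Nat) :=
  [[], [0, 0, 1, 0, 1, 1, 0, 1, 0, 1, 1, 0], [0, 0, 1, 0, 1, 0, 1, 1, 0, 1], [0, 0, 1, 0, 1, 1], [0, 1, 1, 0, 0, 1, 0, 0, 1, 0, 0], [0, 1, 0, 1, 1, 0, 1, 0, 1, 1, 0, 0], [1, 0, 1, 1, 0, 1, 0, 1, 1], [0, 0, 1, 1, 0, 1, 1, 0, 1, 0], [0, 1, 0, 1, 0, 1, 1, 0, 1, 0], [0, 1, 0, 1, 1, 0], [1, 1, 0, 1, 1, 0, 1], [1, 0, 0, 1, 1, 0], [1, 1, 0, 0, 1, 0, 1, 0, 0, 1], [0, 0, 1, 0, 0, 1, 1, 0, 0], [1, 0, 1, 0, 1, 0, 0, 1, 0, 1, 0, 1], [1, 0, 1, 0, 1, 1, 0, 1, 0, 0], [0, 1, 0, 0, 1, 1], [1, 1, 0, 0, 1, 0, 0, 1], [0, 1, 1, 0, 1, 1, 0, 1, 0, 0], [1, 0, 0, 1, 0, 0, 1, 0, 0, 1, 0], [1, 0, 1, 1, 0, 0]]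

/-- Invariant words of the code. -/
def fixCode : List Nat :=
  [0, 183, 634, 717, 1126, 1233, 1564, 1707, 2388, 2531, 2862, 2969, 3378, 3461, 3912, 4095]

/-- Generators of the invariant words. -/
def signGens : List Nat :=
  [3378, 2531, 3461, 1707]

end CfsgLib.MonsterType.ThreeData
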