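import Cfsg.Agent.Lib.MonsterType.Three
import Cfsg.Agent.Lib.MonsterType.NormalThree
import Cfsg.Agent.Lib.MonsterType.Cent

/-! The centralizer of a subgroup of order three of the joint centralizer that is not central in a Sylow
3-subgroup. -/

set_option autoImplicit false
set_option linter.style.haveILetI false

namespace CfsgLib.MonsterType.Three

open Cfsg CfsgLib CfsgLib.Leech CfsgLib.MonsterQ CfsgLib.MonsterType
open CfsgLib.Comp

variable {G : Type*} [Group G]

theorem perm_check : (M24Elt.good M24Elt.ClassData.rep3_0 && (List.range 24).all fun i =>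
    Nat.beq (PermCode.get M24Elt.ClassData.rep3_0 i) (Trans.img ThreeData.tcode i)) = true := by
  decide +kernel

theorem perm_eq : R = M24Elt.pm M24Elt.ClassData.rep3_0 := by
  have hp := perm_check
  simp only [Bool.and_eq_true, List.all_eq_true, List.mem_range] at hp
  refine Equiv.ext fun p => Golay.bit_injective ?_
  rw [M24Elt.bit_pm (M24Elt.good_ok hp.1), Nat.eq_of_beq_eq_true (hp.2 _ (Golay.bit_lt p)), R,
    Trans.tblPerm_apply okT_tcode, Trans.tblFun, Golay.bit_pt (img_lt okT_tcode (Golay.bit_lt p))]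

/-- The element, the conjugate `s`, and their coordinates. -/
structure Setup (z s : G) (Q Y : Subgroup G) (π : ↥(Subgroup.centralizer ({z} : Set G)) →* Spor.Co1)
    (θ : leechLattice → G) (b : G) : Prop where
  data : CentData z Q π θ b 3 8 tt rv
  ne : s ≠ z
  cls : Cls z θ s (eightVec none)
  eqY : Y = Subgroup.zpowers b
  exch : ∃ n : G, n * b = b * n ∧ n * z * n⁻¹ = s

theorem exists_setup [Finite G] {z : G} {Q : Subgroup ↥(Subgroup.centralizer ({z} : Set G))} [Q.Normal]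
    (hM : Cfsg.IsOfMonsterType z Q) {s : G}
    (hsQ : ∃ hsc : s ∈ Subgroup.centralizer ({z} : Set G), (⟨s, hsc⟩ : Subgroup.centralizer ({z} : Set G)) ∈ Q)
    (hs : IsConj z s) (hs1 : s ≠ z) {Y : Subgroup G} (hY : Y ≤ Subgroup.centralizer ({z, s} : Set G))
    (hY3 : Nat.card Y = 3)
    (hnc : ∀ P : Sylow 3 ↥(Subgroup.centralizer ({z, s} : Set G)),
      ¬ Y.subgroupOf (Subgroup.centralizer ({z, s} : Set G)) ≤
        (Subgroup.center ↥(P : Subgroup ↥(Subgroup.centralizer ({z, s} : Set G)))).map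
          (P : Subgroup ↥(Subgroup.centralizer ({z, s} : Set G))).subtype) :
    ∃ (Q' : Subgroup G) (π : ↥(Subgroup.centralizer ({z} : Set G)) →* Spor.Co1) (θ : leechLattice → G) (b : G),
      Setup z s Q' Y π θ b := by
  classical
  haveI : Fact (Nat.Prime 3) := ⟨Nat.prime_three⟩
  obtain ⟨e, θ₀, H₀⟩ := of_monsterType hM
  have hsQ' := mem_map_of_exists hsQ
  obtain ⟨π₁, θ₁, H₁, hc₁⟩ := normal_frame H₀ hsQ' hs hs1
  obtain ⟨y, hyY, hy1⟩ : ∃ y ∈ Y, y ≠ 1 := by
    by_contra h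
    push Not at h
    have : Nat.card Y = 1 := Subgroup.card_eq_one.2 ((Subgroup.eq_bot_iff_forall Y).2 h)
    omega
  have hord : orderOf y = 3 :=
    ((Nat.dvd_prime Nat.prime_three).1 (hY3 ▸ Subgroup.orderOf_dvd_natCard Y hyY)).resolve_left fun e =>
      hy1 (orderOf_eq_one_iff.1 e)
  have hYy : Y = Subgroup.zpowers y := (Subgroup.eq_of_le_of_card_ge ((Subgroup.zpowers_le).2 hyY)
    (by rw [Nat.card_zpowers, hY3, hord])).symm
  set L := Subgroup.centralizer ({z, s} : Set G) with hL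
  have hLf := card_L_three H₁ hsQ' hs hs1 hc₁
  have hnot : NotCentral L y := by
    intro P hPL hP27 hyP hc
    refine hnc (Sylow.ofCard (P.subgroupOf L)
      (by rw [Nat.card_congr (Subgroup.subgroupOfEquivOfLe hPL).toEquiv, hP27, hLf]; norm_num)) ?_
    intro a ha
    rw [Subgroup.mem_subgroupOf, hYy, ← mem_powers_iff_mem_zpowers] at ha
    obtain ⟨k, hk⟩ := ha
    have hk' : y ^ k = (a : G) := hk
    have haP : a ∈ P.subgroupOf L := Subgroup.mem_subgroupOf.2 (hk' ▸ pow_mem hyP k)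
    refine ⟨⟨a, haP⟩, Subgroup.mem_center_iff.2 fun q => Subtype.ext (Subtype.ext ?_), rfl⟩
    show ((q : ↥L) : G) * (a : G) = (a : G) * ((q : ↥L) : G)
    rw [← hk']
    exact (Commute.pow_right (show Commute ((q : ↥L) : G) y from hc _ (Subgroup.mem_subgroupOf.1 q.2)) k).eq
  have hLz : L ≤ Subgroup.centralizer ({z} : Set G) := by rw [hL, pair_centralizer]; exact inf_le_left
  obtain ⟨l, hl, hlz, hπl⟩ := exists_normal_three H₁ hsQ' hs hs1 hc₁ R_mem perm_eq (hY hyY) hord hnot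
  obtain ⟨g, hg⟩ := QuotientGroup.mk'_surjective (Subgroup.center Co0) (π₁ ⟨l, hLz hl⟩)
  rw [QuotientGroup.mk'_apply] at hg
  obtain ⟨-, -, hmem⟩ := pair_facts H₁ hsQ' hs hs1 hc₁ hLz
  have hgm : g ∈ monoSub := (hmem g).2 ⟨⟨l, hl⟩, hg.symm⟩
  have H := twist H₁ g⁻¹
  set π := twistHom π₁ g⁻¹
  have hcls : Cls z (fun v => θ₁ (g⁻¹ • v)) s (eightVec none) := H₁.cls_of_cong hc₁ (by
    have := inv_mem hgm
    rw [← classStab_eightVec, mem_classStab] at this
    exact this.symm)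
  have hproj : π ⟨y, hLz (hY hyY)⟩ = (QuotientGroup.mk tt : Spor.Co1) := by
    rw [twistHom_apply, inv_inv, QuotientGroup.mk_mul, QuotientGroup.mk_mul, QuotientGroup.mk_inv, hg, tt_eq,
      ← hπl, show (⟨l * y * l⁻¹, hlz⟩ : ↥(Subgroup.centralizer ({z} : Set G))) =
        ⟨l, hLz hl⟩ * ⟨y, hLz (hY hyY)⟩ * ⟨l, hLz hl⟩⁻¹ from rfl, map_mul, map_mul, map_inv]
    group
  have D : CentData z _ π (fun v => θ₁ (g⁻¹ • v)) y 3 8 tt rv :=
    ⟨H, fixed, Nat.prime_three, by norm_num, hord, hLz (hY hyY), hproj⟩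
  refine ⟨_, π, _, y, D, hs1, hcls, hYy, ?_⟩
  -- exchange z and s without moving the element
  obtain ⟨u, hu1, hu2⟩ := exists_exchange H hsQ' hs hs1 hcls
  have hmemL : ∀ {x : G}, x ∈ L ↔ x * z = z * x ∧ x * s = s * x := fun {x} => by
    simp only [L, pair_centralizer, Subgroup.mem_inf, Subgroup.mem_centralizer_singleton_iff]
  have hconjL : ∀ {v : G}, v * z * v⁻¹ = s → v * s * v⁻¹ = z → ∀ {x : G}, x ∈ L → v * x * v⁻¹ ∈ L := by
    intro v h1 h2 x hx
    obtain ⟨hxz, hxs⟩ := hmemL.1 hx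
    refine hmemL.2 ⟨?_, ?_⟩
    · rw [← h2, show v * x * v⁻¹ * (v * s * v⁻¹) = v * (x * s) * v⁻¹ by group, hxs]
      group
    · rw [← h1, show v * x * v⁻¹ * (v * z * v⁻¹) = v * (x * z) * v⁻¹ by group, hxz]
      group
  have hui1 : u⁻¹ * z * u⁻¹⁻¹ = s := by rw [← hu2]; group
  have hui2 : u⁻¹ * s * u⁻¹⁻¹ = z := by rw [← hu1]; group
  have hnot' : NotCentral L (u * y * u⁻¹) := by
    intro P hPL hP27 hyP hc
    refine hnot (P.map (MulAut.conj u⁻¹).toMonoidHom) ?_ ?_ ⟨_, hyP, by simp [mul_assoc]⟩ ?_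
    · rintro _ ⟨x, hx, rfl⟩
      exact hconjL hui1 hui2 (hPL hx)
    · rw [Subgroup.card_map_of_injective (f := (MulAut.conj u⁻¹).toMonoidHom) (MulAut.conj u⁻¹).injective, hP27]
    · rintro _ ⟨x, hx, rfl⟩
      show u⁻¹ * x * u⁻¹⁻¹ * y = y * (u⁻¹ * x * u⁻¹⁻¹)
      calc u⁻¹ * x * u⁻¹⁻¹ * y = u⁻¹ * (x * (u * y * u⁻¹)) * u := by group
        _ = u⁻¹ * (u * y * u⁻¹ * x) * u := by rw [hc x hx]
        _ = y * (u⁻¹ * x * u⁻¹⁻¹) := by group
  obtain ⟨m, hm, hmz, hπm⟩ := exists_normal_three H hsQ' hs hs1 hcls R_mem perm_eq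
    (hconjL hu1 hu2 (hY hyY)) (by rw [← hord]; exact MulEquiv.orderOf_eq (MulAut.conj u) y) hnot'
  rw [← tt_eq] at hπm
  set v := m * u
  have hvy : v * y * v⁻¹ = m * (u * y * u⁻¹) * m⁻¹ := by simp only [v]; group
  have hyv : v * y * v⁻¹ ∈ L := hvy ▸ mul_mem (mul_mem hm (hconjL hu1 hu2 (hY hyY))) (inv_mem hm)
  let f : ↥L →* Spor.Co1 := π.comp (Subgroup.inclusion hLz)
  set a : ↥L := ⟨v * y * v⁻¹, hyv⟩ with ha
  set b : ↥L := ⟨y, hY hyY⟩ with hb
  have hfa : f a = (QuotientGroup.mk tt : Spor.Co1) := by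
    rw [← hπm]
    exact congrArg π (Subtype.ext hvy)
  have hfb : f b = (QuotientGroup.mk tt : Spor.Co1) := hproj
  set W : Subgroup ↥L := (Subgroup.zpowers (QuotientGroup.mk tt : Spor.Co1)).comap f
  have hWcard : Nat.card W = 2 ^ 24 * 3 := by
    have hle : Subgroup.zpowers (QuotientGroup.mk tt : Spor.Co1) ≤ f.range :=
      (Subgroup.zpowers_le).2 ⟨b, hfb⟩
    have hk := (pair_facts H hsQ' hs hs1 hcls hLz).1
    have hker : (f.comp W.subtype).range = Subgroup.zpowers (QuotientGroup.mk tt : Spor.Co1) := by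
      rw [MonoidHom.range_comp, Subgroup.range_subtype, Subgroup.map_comap_eq_self hle]
    have ho : orderOf (QuotientGroup.mk tt : Spor.Co1) = 3 := by
      refine orderOf_eq_prime (by rw [← QuotientGroup.mk_pow, fixed.pow, QuotientGroup.mk_one]) fun e1 => ?_
      have hc : tt ∈ ({1, negEl} : Set Co0) := by rw [← center_eq]; exact (QuotientGroup.eq_one_iff _).1 e1
      rcases hc with h | h
      · exact tt_ne_one h
      · rw [Set.mem_singleton_iff] at h
        have h3 := fixed.pow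
        rw [h, pow_succ, pow_two, sq_negEl, one_mul] at h3
        exact tt_ne_one (h.trans h3)
    have hkk : Nat.card (f.comp W.subtype).ker = 2 ^ 24 := by
      rw [← hk]
      refine Nat.card_congr
        { toFun := fun x => ⟨((x : W) : ↥L), x.2⟩
          invFun := fun x => ⟨⟨(x : ↥L), Subgroup.mem_comap.2 (by
            rw [show f (x : ↥L) = 1 from x.2]; exact one_mem _)⟩, x.2⟩
          left_inv := fun x => rfl
          right_inv := fun x => rfl }
    rw [← Subgroup.card_mul_index (f.comp W.subtype).ker, Subgroup.index_ker, hker, Nat.card_zpowers, ho, hkk]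
  have hWf : (Nat.card W).factorization 3 = 1 := by
    rw [hWcard, Nat.factorization_mul (by norm_num) (by norm_num), Finsupp.add_apply,
      Nat.Prime.factorization_pow Nat.prime_two, Finsupp.single_eq_of_ne (by norm_num),
      Nat.prime_three.factorization, Finsupp.single_eq_same]
  have haW : a ∈ W := Subgroup.mem_comap.2 (hfa ▸ Subgroup.mem_zpowers _)
  have hbW : b ∈ W := Subgroup.mem_comap.2 (hfb ▸ Subgroup.mem_zpowers _)
  obtain ⟨k, hk, j, hkj⟩ := conj_sylow_elem (G := ↥L) 3 haW hbW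
    (by rw [← Subgroup.orderOf_coe]; exact (MulEquiv.orderOf_eq (MulAut.conj v) y).trans hord)
    (by rw [← Subgroup.orderOf_coe]; exact hord) hWf
  have hfk : Commute (f k) (QuotientGroup.mk tt : Spor.Co1) := by
    obtain ⟨i, hi⟩ := Subgroup.mem_zpowers_iff.1 (Subgroup.mem_comap.1 hk)
    rw [← hi]
    exact (Commute.refl _).zpow_left i
  have hj : (QuotientGroup.mk tt : Spor.Co1) ^ j = QuotientGroup.mk tt := by
    have e1 := congrArg f hkj
    rw [map_mul, map_mul, map_inv, map_pow, hfa, hfb, hfk.eq, mul_inv_cancel_right] at e1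
    exact e1.symm
  have hyj : y ^ j = y := by
    have h1 : y ^ (j + 2) ∈ _ := (D.hyp.ker ⟨y ^ (j + 2), pow_mem D.mem _⟩).1 (by
      rw [D.proj_pow, QuotientGroup.mk_pow, pow_add, hj, ← pow_succ', ← QuotientGroup.mk_pow,
        show 2 + 1 = 3 from rfl, fixed.pow, QuotientGroup.mk_one])
    have h2 := D.pow_eq_one_of_mem h1
    calc y ^ j = y ^ (j + 2) * y := by
          rw [← pow_succ, show j + 2 + 1 = j + 3 by ring, pow_add, D.bp, mul_one]
      _ = y := by rw [h2, one_mul]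
  refine ⟨(k : G) * v, ?_, ?_⟩
  · have e2 : (k : G) * (v * y * v⁻¹) * (k : G)⁻¹ = y ^ j := congrArg Subtype.val hkj
    rw [hyj] at e2
    rw [← mul_inv_eq_iff_eq_mul, show (k : G) * v * y * ((k : G) * v)⁻¹ = (k : G) * (v * y * v⁻¹) * (k : G)⁻¹ by group,
      e2]
  · rw [show (k : G) * v * z * ((k : G) * v)⁻¹ = (k : G) * (m * (u * z * u⁻¹) * m⁻¹) * (k : G)⁻¹ by simp only [v]; group, hu1,
      (hmemL.1 hm).2, mul_inv_cancel_right, (hmemL.1 k.2).2, mul_inv_cancel_right]

namespace Setup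

variable {z s : G} {Q Y : Subgroup G} {π : ↥(Subgroup.centralizer ({z} : Set G)) →* Spor.Co1}
  {θ : leechLattice → G} {b : G} (S : Setup z s Q Y π θ b)
include S

theorem s_mem : s ∈ S.data.CQ :=
  S.data.cls_rv_mem (k := 1) (by norm_num) (S.data.hyp.cls_of_cong S.cls rv_one_cong.symm)

end Setup

end CfsgLib.MonsterType.Three
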