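import Cfsg.Agent.Lib.MonsterType.BigFixed
import Cfsg.Agent.Lib.MonsterType.ThreeData

/-! Names for the tables of the element of order three. -/

set_option autoImplicit false

namespace CfsgLib.MonsterType.Three

open Cfsg CfsgLib

/-- The step of the distinguished permutation. -/
def tS : Step := some (ThreeData.tcode, 0)

/-- The identity permutation. -/
def idCode : ℕ := (List.range 24).foldl (fun a i => a + i * 2 ^ (5 * i)) 0

/-- The table entries. -/
def row (k : ℕ) : List ℤ := (ThreeData.repBlocks.getD (k / 16) []).getD (k % 16) []

/-- The squared norm of an entry. -/
def normAt (k : ℕ) : ℤ := ((List.range 24).map fun i => (row k).getD i 0 * (row k).getD i 0).sum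

/-- Image of an index under a word in the generators, first letter first. -/
def follow : List ℕ → ℕ → ℕ
  | [], k => k
  | j :: w, k => follow w (imgK (ThreeData.cols.getD j []) 8 k)

end CfsgLib.MonsterType.Three
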