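import Cfsg.Agent.Lib.MonsterType.BigFixed
import Cfsg.Agent.Lib.MonsterType.OctadDeduce
import Cfsg.Agent.Lib.MonsterType.TriData
import Cfsg.Agent.Lib.Comp.PermChain

/-! Names for the tables of the element of order three of cycle type `1^6 3^6`. -/

set_option autoImplicit false

namespace CfsgLib.MonsterType.Tri

open Cfsg CfsgLib

/-- The step of the distinguished permutation. -/
def tS : Step := some (TriData.tcode, 0)

/-- The identity permutation. -/
def idCode : ℕ := (List.range 24).foldl (fun a i => a + i * 2 ^ (5 * i)) 0

/-- Entry `k` of a list of packed chunks of 64 entries with `b` bits each. -/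
def packGet (L : List ℕ) (b k : ℕ) : ℕ := Nat.mod (Nat.shiftRight (L.getD (k / 64) 0) (b * (k % 64))) (2 ^ b)

/-- A basis vector. -/
def bas (i : ℕ) : List ℤ := TriData.basisRows.getD i []

/-- The combination of the basis vectors given by the bits of an index, among the first `n`. -/
def combRow (k : ℕ) : ℕ → List ℤ
  | 0 => (List.range 24).map fun _ => 0
  | n + 1 => forceL (combRow k n) fun a =>
      bif k.testBit n then (List.range 24).map fun i => a.getD i 0 + (bas n).getD i 0 else a

/-- The number of the orbit of a class. -/
def orbType (k : ℕ) : ℕ := packGet TriData.orbChunks 80 k % 4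

/-- The representing class of an orbit. -/
def repIx (t : ℕ) : ℕ := TriData.repIdx.getD t 0

/-- The representing vector of an orbit. -/
def repRow (t : ℕ) : List ℤ := TriData.repRows.getD t []

/-- The squared norm of a representing vector. -/
def repNorm (t : ℕ) : ℤ := ((List.range 24).map fun i => (repRow t).getD i 0 * (repRow t).getD i 0).sum

/-- Image of an index under a word in the generators, first letter first. -/
def follow : List ℕ → ℕ → ℕ
  | [], k => k
  | j :: w, k => follow w (imgK (TriData.cols.getD j []) 12 k)

/-- A packed word. -/
def decodeWord : ℕ → ℕ → List ℕ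
  | 0, _ => []
  | n + 1, c => bif Nat.ble c 1 then [] else c % 16 :: decodeWord n (c / 16)

/-- The word reaching a class from the representative of its orbit. -/
def orbWord (k : ℕ) : List ℕ := decodeWord 12 (packGet TriData.orbChunks 80 k / 4)

/-- The block of a class. -/
def blkAt (k : ℕ) : ℕ := packGet TriData.blkChunks 8 k

/-- A member of a block. -/
def memAt (b i : ℕ) : ℕ := Nat.mod (Nat.shiftRight (TriData.memCodes.getD b 0) (12 * i)) 4096

/-- The members of a block. -/
def members (b : ℕ) : List ℕ := (List.range 18).map (memAt b)

/-- The image of an index under the element of order three in the kernel. -/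
def omK (k : ℕ) : ℕ := follow TriData.omegaWord k

/-- A generating word. -/
def gen (j : ℕ) : List Step := TriData.gens.getD j []

/-- A composite of coded permutations of the points. -/
def evalC : List ℕ → ℕ → ℕ
  | [], i => i
  | g :: w, i => Leech.Trans.img (TriData.permGens.getD g 0) (evalC w i)

/-- A composite of permutations of the blocks, first letter first. -/
def evalB : List ℕ → ℕ → ℕ
  | [], i => i
  | j :: w, i => evalB w (Comp.PermCode.get (TriData.blockPerms.getD j 0) i)

/-- A candidate image `y` of `x` is compatible with the images chosen so far. -/
def compatible (x y : ℕ) (pairs : List (ℕ × ℕ)) : Bool :=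
  pairs.all fun e => Nat.beq (blkAt (e.2 ^^^ y)) (blkAt (e.1 ^^^ x))

/-- The possible images of the classes of the search, given those chosen so far: all end in a power
of the listed element. -/
def search : List ℕ → List ℕ → List (ℕ × ℕ) → Bool
  | [], ys, _ => [TriData.searchBasis, TriData.searchBasis.map omK, TriData.searchBasis.map fun x => omK (omK x)].any
      fun l => decide (l = ys.reverse)
  | x :: rest, ys, pairs => (members (blkAt x)).all fun y =>
      bif compatible x y pairs then search rest (y :: ys) (pairs ++ pairs.map fun e => (e.1 ^^^ x, e.2 ^^^ y))
      else true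

/-- The values forced by the images of the last two fixed points and of the base point. -/
def start (sw : Bool) (b : ℕ) : List (ℕ × ℕ) :=
  (List.zip TriData.fixPts (TriData.fixPts.take 4 ++
    bif sw then [TriData.fixPts.getD 5 0, TriData.fixPts.getD 4 0]
    else [TriData.fixPts.getD 4 0, TriData.fixPts.getD 5 0])) ++
  (List.range 3).map fun j =>
    ((Leech.Trans.img TriData.tcode)^[j] (TriData.movPts.getD 0 0), (Leech.Trans.img TriData.tcode)^[j] b)

/-- A power of the permutation, as a code. -/
def powCode (i : ℕ) : ℕ :=
  (List.range 24).foldl (fun a p => a + (Leech.Trans.img TriData.tcode)^[i] p * 2 ^ (5 * p)) 0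

end CfsgLib.MonsterType.Tri
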