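import Cfsg.Agent.Lib.MonsterType.Normal

/-! The order of the joint centralizer and its image (the part of `NormalThree` that needs no class
representatives of the group of the code). -/

set_option autoImplicit false
set_option linter.style.haveILetI false

namespace CfsgLib.MonsterType.Tri

open Cfsg CfsgLib CfsgLib.Leech CfsgLib.MonsterQ CfsgLib.MonsterType

variable {G : Type*} [Group G] {z : G} {Q : Subgroup G} {π : ↥(Subgroup.centralizer ({z} : Set G)) →* Spor.Co1}
  {θ : leechLattice → G}

/-- The facts about the joint centralizer. -/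
theorem pair_facts' [Finite G] (H : Hyp z Q π θ) {s : G} (hsQ : s ∈ Q) (hs : IsConj z s) (hs1 : s ≠ z)
    (hcls : Cls z θ s (eightVec none)) (hLz : Subgroup.centralizer ({z, s} : Set G) ≤ Subgroup.centralizer ({z} : Set G)) :
    Nat.card ↥(π.comp (Subgroup.inclusion hLz)).ker = 2 ^ 24 ∧
    Nat.card ↥(Subgroup.centralizer ({z, s} : Set G)) = 2 ^ 35 * Nat.card M24 ∧
    ∀ g : Co0, g ∈ monoSub ↔ ∃ l : ↥(Subgroup.centralizer ({z, s} : Set G)),
      π (Subgroup.inclusion hLz l) = (QuotientGroup.mk g : Spor.Co1) := by
  classical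
  let f : ↥(Subgroup.centralizer ({z, s} : Set G)) →* Spor.Co1 := π.comp (Subgroup.inclusion hLz)
  have hrange : f.range = Hyp.xImage π s := by
    rw [MonoidHom.range_comp, Subgroup.inclusion_range, pair_centralizer]
    rfl
  have hker : Nat.card f.ker = 2 ^ 24 := by
    obtain ⟨g, hg⟩ := isConj_iff.1 hs
    rw [← H.card_cent (g := g) (hg ▸ hsQ) (hg ▸ hs1), hg]
    refine Nat.card_congr
      { toFun := fun a => ⟨((a : ↥(Subgroup.centralizer ({z, s} : Set G))) : G), (H.ker _).1 a.2, ?_⟩
        invFun := fun a => ⟨⟨(a : G), ?_⟩, (H.ker _).2 a.2.1⟩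
        left_inv := fun a => rfl
        right_inv := fun a => rfl }
    · exact ((pair_centralizer z s).le (a : ↥(Subgroup.centralizer ({z, s} : Set G))).2).2
    · exact (pair_centralizer z s).ge ⟨H.le a.2.1, a.2.2⟩
  have hX : 2 * Nat.card f.range = 4096 * Nat.card M24 := by
    rw [hrange, ← card_monoSub, ← classStab_eightVec, ← H.xImage_comap hcls not_cong_eight]
    have h1 := Subgroup.card_mul_index ((Hyp.xImage π s).comap (QuotientGroup.mk' (Subgroup.center Co0)))
    rw [Subgroup.index_comap_of_surjective _ (QuotientGroup.mk'_surjective _)] at h1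
    have h2 := Subgroup.card_mul_index (Hyp.xImage π s)
    have h3 : Nat.card Co0 = 2 * Nat.card Spor.Co1 := by
      have h := Subgroup.card_eq_card_quotient_mul_card_subgroup (Subgroup.center Co0)
      rw [card_center] at h
      rw [h, mul_comm]
    rw [h3, ← h2, ← mul_assoc] at h1
    exact (Nat.eq_of_mul_eq_mul_right (Nat.pos_of_ne_zero Subgroup.index_ne_zero_of_finite) h1).symm
  refine ⟨hker, ?_, fun g => ?_⟩
  · rw [← Subgroup.card_mul_index f.ker, Subgroup.index_ker, hker]
    have : Nat.card f.range = 2048 * Nat.card M24 := by omega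
    rw [this]; ring
  · rw [← classStab_eightVec, ← H.mem_xImage hcls not_cong_eight, ← hrange]
    exact MonoidHom.mem_range

theorem three_fact' : (Nat.card M24).factorization 3 = 3 := by
  rw [Golay.card_M24, show (244823040 : ℕ) = 3 ^ 3 * 9067520 by norm_num,
    Nat.factorization_mul (by norm_num) (by norm_num), Finsupp.add_apply, Nat.Prime.factorization_pow Nat.prime_three,
    Finsupp.single_eq_same, Nat.factorization_eq_zero_of_not_dvd (by norm_num)]

theorem card_L_three' [Finite G] (H : Hyp z Q π θ) {s : G} (hsQ : s ∈ Q) (hs : IsConj z s) (hs1 : s ≠ z)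
    (hcls : Cls z θ s (eightVec none)) :
    (Nat.card ↥(Subgroup.centralizer ({z, s} : Set G))).factorization 3 = 3 := by
  have hLz : Subgroup.centralizer ({z, s} : Set G) ≤ Subgroup.centralizer ({z} : Set G) := by
    rw [pair_centralizer]; exact inf_le_left
  rw [(pair_facts' H hsQ hs hs1 hcls hLz).2.1, Nat.factorization_mul (by norm_num) Nat.card_pos.ne',
    Finsupp.add_apply, Nat.Prime.factorization_pow Nat.prime_two, Finsupp.single_eq_of_ne (by norm_num), three_fact']

end CfsgLib.MonsterType.Tri
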