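import Cfsg.Agent.Lib.MonsterType.TriMono
import Cfsg.Agent.Lib.MonsterType.TriPair

/-! Elements of order three central in a subgroup of order 27 of the signed permutations. -/

set_option autoImplicit false
set_option linter.style.haveILetI false

namespace CfsgLib.MonsterType.Tri

open Cfsg CfsgLib CfsgLib.Leech CfsgLib.MonsterQ CfsgLib.MonsterType

/-- Two permutations generating, with the distinguished one, a Sylow 3-subgroup. -/
def sylCode (j : ℕ) : ℕ :=
  bif Nat.beq j 0 then 751164364245364340247827975460991243 else 46877029025814098821444265716309056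

/-- Their automorphisms. -/
noncomputable def sylEl (j : ℕ) : Co0 := stepEl (some (sylCode j, 0))

theorem syl_check : (((List.range 2).all fun j => Trans.okT (sylCode j) &&
      eqW [tS, some (sylCode j, 0)] [some (sylCode j, 0), tS] &&
      eqW (List.replicate 3 (some (sylCode j, 0))) []) &&
    eqW [some (sylCode 0, 0), some (sylCode 1, 0)] [some (sylCode 1, 0), some (sylCode 0, 0), tS]) = true := by
  decide +kernel

theorem wordEl_pair (a b : Step) : wordEl [a, b] = stepEl b * stepEl a := by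
  rw [wordEl, wordEl_single]

theorem wordEl_triple (a b c : Step) : wordEl [a, b, c] = stepEl c * (stepEl b * stepEl a) := by
  rw [wordEl, wordEl_pair, mul_assoc]

theorem sylEl_spec {j : ℕ} (hj : j < 2) : sylEl j ∈ monoSub ∧ sylEl j * tt = tt * sylEl j ∧ sylEl j ^ 3 = 1 := by
  have h := syl_check
  simp only [Bool.and_eq_true, List.all_eq_true, List.mem_range] at h
  obtain ⟨⟨hok, hc⟩, h3⟩ := h.1 j hj
  refine ⟨?_, ?_, ?_⟩
  · rw [sylEl, stepEl, dif_pos hok]; exact monoEl_mem_monoSub _ _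
  · have e := eq_of_eqW hc
    rw [wordEl_pair, wordEl_pair] at e
    exact e
  · have e := eq_of_eqW h3
    rw [wordEl_replicate] at e
    exact e

theorem sylEl_rel : sylEl 1 * sylEl 0 = tt * (sylEl 0 * sylEl 1) := by
  have h := syl_check
  simp only [Bool.and_eq_true] at h
  have e := eq_of_eqW h.2
  rw [wordEl_pair, wordEl_triple] at e
  exact e

theorem sylEl_not_comm : sylEl 0 * sylEl 1 ≠ sylEl 1 * sylEl 0 := by
  intro e
  have h := sylEl_rel
  rw [← e] at h
  exact tt_ne_one (mul_eq_right.1 h.symm)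

theorem mono_three_part : (Nat.card monoSub).factorization 3 = 3 := by
  rw [CfsgLib.MonsterType.card_monoSub, show 4096 = 2 ^ 12 by norm_num, Nat.factorization_mul (by norm_num) Nat.card_pos.ne',
    Finsupp.add_apply, Nat.Prime.factorization_pow Nat.prime_two, Finsupp.single_eq_of_ne (by norm_num), three_fact']

theorem exists_syl : ∃ U : Subgroup Co0, U ≤ monoSub ∧ Nat.card U = 27 ∧
    ∀ x ∈ U, (∀ u ∈ U, u * x = x * u) → x ∈ Subgroup.zpowers tt := by
  classical
  haveI : Fact (Nat.Prime 3) := ⟨Nat.prime_three⟩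
  obtain ⟨ha, hat, ha3⟩ := sylEl_spec (j := 0) (by norm_num)
  obtain ⟨hb, hbt, hb3⟩ := sylEl_spec (j := 1) (by norm_num)
  set a := sylEl 0
  set b := sylEl 1
  have hrel : b * a = tt * (a * b) := sylEl_rel
  have h3 : ∀ {x : Co0}, x ^ 3 = 1 → IsPGroup 3 ↥(Subgroup.zpowers x) := fun {x} hx => by
    obtain ⟨k, -, hk⟩ := (Nat.dvd_prime_pow Nat.prime_three).1
      (show orderOf x ∣ 3 ^ 1 from orderOf_dvd_of_pow_eq_one hx)
    exact IsPGroup.of_card (n := k) (by rw [Nat.card_zpowers, hk])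
  set V := Subgroup.zpowers tt ⊔ Subgroup.zpowers b
  set U₀ := V ⊔ Subgroup.zpowers a
  have hV : IsPGroup 3 V := (h3 fixed.pow).to_sup_of_normal_left' (h3 hb3) (by
    refine Subgroup.zpowers_le.2 (Subgroup.mem_normalizer_iff.2 fun x => ?_)
    constructor
    · intro hx
      obtain ⟨n, rfl⟩ := Subgroup.mem_zpowers_iff.1 hx
      rw [((show Commute b tt from hbt).zpow_right n).eq, mul_inv_cancel_right]
      exact Subgroup.zpow_mem _ (Subgroup.mem_zpowers _) n
    · intro hx
      obtain ⟨n, hn⟩ := Subgroup.mem_zpowers_iff.1 hx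
      have e : x = tt ^ n := by
        calc x = b⁻¹ * (b * x * b⁻¹) * b := by group
          _ = b⁻¹ * tt ^ n * b := by rw [hn]
          _ = tt ^ n := by rw [mul_assoc, ← ((show Commute b tt from hbt).zpow_right n).eq, inv_mul_cancel_left]
      rw [e]
      exact Subgroup.zpow_mem _ (Subgroup.mem_zpowers _) n)
  have htV : tt ∈ V := Subgroup.mem_sup_left (Subgroup.mem_zpowers _)
  have hbV : b ∈ V := Subgroup.mem_sup_right (Subgroup.mem_zpowers _)
  have hconj : a * tt * a⁻¹ = tt := by rw [hat, mul_inv_cancel_right]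
  have hconjb : a * b * a⁻¹ = tt⁻¹ * b := by
    rw [mul_inv_eq_iff_eq_mul, mul_assoc, hrel, inv_mul_cancel_left]
  have haN : Subgroup.zpowers a ≤ Subgroup.normalizer (V : Set Co0) := by
    have hgen : ∀ x ∈ V, a * x * a⁻¹ ∈ V := by
      intro x hx
      have hle : V ≤ V.comap (MulAut.conj a).toMonoidHom := sup_le
        (Subgroup.zpowers_le.2 (show a * tt * a⁻¹ ∈ V by rw [hconj]; exact htV))
        (Subgroup.zpowers_le.2 (show a * b * a⁻¹ ∈ V by rw [hconjb]; exact mul_mem (inv_mem htV) hbV))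
      exact hle hx
    refine Subgroup.zpowers_le.2 (Subgroup.mem_normalizer_iff.2 fun x => ⟨hgen x, fun hx => ?_⟩)
    have e := hgen _ (hgen _ hx)
    have ea : a * a * a = 1 := by rw [← ha3, pow_succ, pow_two]
    have e2 : a⁻¹ = a * a := inv_eq_of_mul_eq_one_right (by rw [← mul_assoc, ea])
    have : x = a * (a * (a * x * a⁻¹) * a⁻¹) * a⁻¹ := by
      rw [show a * (a * (a * x * a⁻¹) * a⁻¹) * a⁻¹ = a * a * a * x * (a * a * a)⁻¹ by group, ea]
      group
    rw [this]; exact e
  have hU : IsPGroup 3 U₀ := hV.to_sup_of_normal_left' (h3 ha3) haN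
  have hUm : U₀ ≤ monoSub := sup_le (sup_le (Subgroup.zpowers_le.2 tt_mem) (Subgroup.zpowers_le.2 hb))
    (Subgroup.zpowers_le.2 ha)
  have haU : a ∈ U₀ := Subgroup.mem_sup_right (Subgroup.mem_zpowers _)
  have hbU : b ∈ U₀ := Subgroup.mem_sup_left hbV
  obtain ⟨n, hn⟩ := hU.exists_card_eq
  have hn3 : n ≤ 3 := by
    have hd : 3 ^ n ∣ Nat.card monoSub := hn ▸ Subgroup.card_dvd_of_le hUm
    have := (Nat.prime_three.pow_dvd_iff_le_factorization Nat.card_pos.ne').1 hd
    rwa [mono_three_part] at this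
  have hn' : n = 3 := by
    have hnc : ¬ ∀ x y : ↥U₀, x * y = y * x := fun h =>
      sylEl_not_comm (congrArg Subtype.val (h ⟨a, haU⟩ ⟨b, hbU⟩))
    by_contra hne
    apply hnc
    interval_cases n
    · intro x y
      haveI : Subsingleton U₀ := (Nat.card_eq_one_iff_unique.1 (by rw [hn, pow_zero])).1
      exact Subsingleton.elim _ _
    · haveI : IsCyclic U₀ := isCyclic_of_prime_card (p := 3) (by rw [hn, pow_one])
      obtain ⟨g, hg⟩ := IsCyclic.exists_generator (α := U₀)
      intro x y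
      obtain ⟨i, rfl⟩ := Subgroup.mem_zpowers_iff.1 (hg x)
      obtain ⟨j, rfl⟩ := Subgroup.mem_zpowers_iff.1 (hg y)
      exact ((Commute.refl g).zpow_zpow i j).eq
    · exact fun x y => (IsPGroup.isMulCommutative_of_card_eq_prime_sq hn).is_comm.comm x y
    · exact absurd rfl hne
  subst hn'
  refine ⟨U₀, hUm, by rw [hn]; norm_num, fun x hx hc => ?_⟩
  set Zc : Subgroup Co0 := U₀ ⊓ Subgroup.centralizer (U₀ : Set Co0)
  have hmemZ : ∀ y, y ∈ Zc ↔ y ∈ U₀ ∧ ∀ u ∈ U₀, u * y = y * u := fun y => by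
    rw [Subgroup.mem_inf, Subgroup.mem_centralizer_iff]; rfl
  have htZ : tt ∈ Zc := (hmemZ tt).2 ⟨Subgroup.mem_sup_left htV, fun u hu => by
    have hle : U₀ ≤ Subgroup.centralizer ({tt} : Set Co0) := sup_le (sup_le
      (Subgroup.zpowers_le.2 (Subgroup.mem_centralizer_singleton_iff.2 rfl))
      (Subgroup.zpowers_le.2 (Subgroup.mem_centralizer_singleton_iff.2 hbt)))
      (Subgroup.zpowers_le.2 (Subgroup.mem_centralizer_singleton_iff.2 hat))
    exact Subgroup.mem_centralizer_singleton_iff.1 (hle hu)⟩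
  obtain ⟨m, hm⟩ := (hU.to_le (inf_le_left : Zc ≤ U₀)).exists_card_eq
  have hxZ : x ∈ Zc := (hmemZ x).2 ⟨hx, hc⟩
  suffices hm1 : m ≤ 1 by
    rw [Subgroup.eq_of_le_of_card_ge (Subgroup.zpowers_le.2 htZ) (by
      rw [hm, Nat.card_zpowers, tt_ord]; exact Nat.pow_le_pow_right (by norm_num) hm1 |>.trans (by norm_num))]
    exact hxZ
  by_contra hm1
  have haZ : a ∉ Zc := fun h => sylEl_not_comm (((hmemZ a).1 h).2 b hbU).symm
  set T : Subgroup Co0 := Zc ⊔ Subgroup.zpowers a
  have hTU : T ≤ U₀ := sup_le inf_le_left (Subgroup.zpowers_le.2 haU)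
  obtain ⟨r, hr⟩ := (hU.to_le hTU).exists_card_eq
  have hlt : Nat.card Zc < Nat.card T := by
    by_contra hle
    exact haZ (Subgroup.eq_of_le_of_card_ge (le_sup_left : Zc ≤ T) (not_lt.1 hle) ▸
      (Subgroup.mem_sup_right (Subgroup.mem_zpowers a) : a ∈ T))
  rw [hm, hr, Nat.pow_lt_pow_iff_right (by norm_num)] at hlt
  have hTeq : T = U₀ := Subgroup.eq_of_le_of_card_ge hTU (by
    rw [hn, hr]; exact Nat.pow_le_pow_right (by norm_num) (by omega))
  have hTc : T ≤ Subgroup.centralizer ({a} : Set Co0) := sup_le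
    (fun y hy => Subgroup.mem_centralizer_singleton_iff.2 (((hmemZ y).1 hy).2 a haU).symm)
    (Subgroup.zpowers_le.2 (Subgroup.mem_centralizer_singleton_iff.2 rfl))
  exact sylEl_not_comm (Subgroup.mem_centralizer_singleton_iff.1 (hTc (hTeq ▸ hbU))).symm

end CfsgLib.MonsterType.Tri
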