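import Cfsg.Agent.Lib.MonsterType.TriBase
import Cfsg.Agent.Lib.Leech.Triangle.U43Cert
import Mathlib.Tactic.IntervalCases

/-! Kernel checks of the blocks of classes of squared norm 48 and of their permutations. -/

set_option autoImplicit false

namespace CfsgLib.MonsterType.Tri

open Cfsg CfsgLib CfsgLib.Leech CfsgLib.MonsterType

theorem blocks_check : ((List.range 4096).all fun k => Nat.beq (orbType k) 3 == Nat.blt (blkAt k) 112 &&
    (Nat.beq (orbType k) 3 || Nat.beq (blkAt k) 255) &&
    (!Nat.blt (blkAt k) 112 || (members (blkAt k)).contains k)) = true := by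
  decide +kernel

theorem members_check : ((List.range 112).all fun b => (members b).all fun k => Nat.beq (blkAt k) b) = true := by
  decide +kernel

theorem perms_check : ((List.range 10).all fun j => Comp.PermCode.okb 112 (TriData.blockPerms.getD j 0)) = true := by
  decide +kernel

/-- A generator permutes the blocks as coded. -/
def genB (j : ℕ) : Bool := (List.range 112).all fun b => (members b).all fun k =>
  Nat.beq (blkAt (imgK (TriData.cols.getD j []) 12 k)) (Comp.PermCode.get (TriData.blockPerms.getD j 0) b)

theorem gen_0 : genB 0 = true := by decide +kernel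

theorem gen_1 : genB 1 = true := by decide +kernel

theorem gen_2 : genB 2 = true := by decide +kernel

theorem gen_3 : genB 3 = true := by decide +kernel

theorem gen_4 : genB 4 = true := by decide +kernel

theorem gen_5 : genB 5 = true := by decide +kernel

theorem gen_6 : genB 6 = true := by decide +kernel

theorem gen_7 : genB 7 = true := by decide +kernel

theorem gen_8 : genB 8 = true := by decide +kernel

theorem gen_9 : genB 9 = true := by decide +kernel

theorem gen_check {j : ℕ} (hj : j < 10) {b k : ℕ} (hb : b < 112) (hk : k ∈ members b) :
    blkAt (imgK (TriData.cols.getD j []) 12 k) = Comp.PermCode.get (TriData.blockPerms.getD j 0) b := by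
  have h : genB j = true := by
    interval_cases j
    exacts [gen_0, gen_1, gen_2, gen_3, gen_4, gen_5, gen_6, gen_7, gen_8, gen_9]
  exact Nat.eq_of_beq_eq_true (List.all_eq_true.1 (List.all_eq_true.1 h b (List.mem_range.2 hb)) k hk)

theorem simple_check : (TriData.simpleWords.all (fun w => w.all (Nat.blt · 10)) &&
    (List.range 2).all fun q => (List.range 112).all fun i =>
      Nat.beq (evalB (TriData.simpleWords.getD q []) i) (Comp.PermCode.get (Leech.Triangle.U43.u43Gens.getD q 0) i)) =
    true := by
  decide +kernel

theorem omega_check : (TriData.omegaWord.all (Nat.blt · 10) &&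
    ((List.range 12).all fun i => Nat.beq (omK (omK (omK (2 ^ i)))) (2 ^ i)) &&
    !((List.range 12).all fun i => Nat.beq (omK (2 ^ i)) (2 ^ i)) &&
    ((List.range 112).all fun b => Nat.beq (evalB TriData.omegaWord b) b) &&
    ((List.range 2).all fun q => (List.range 12).all fun i =>
      Nat.beq (omK (follow (TriData.simpleWords.getD q []) (2 ^ i)))
        (follow (TriData.simpleWords.getD q []) (omK (2 ^ i)))) &&
    !((List.range 12).all fun i => Nat.beq (omK (follow [5] (2 ^ i))) (follow [5] (omK (2 ^ i))))) = true := by
  decide +kernel

theorem basis_span_check : ((List.range 12).all fun i =>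
    Nat.beq (imgK TriData.searchBasis 12 (TriData.spanCoeff.getD i 0)) (2 ^ i) &&
      Nat.blt (TriData.searchBasis.getD i 4096) 4096) = true := by
  decide +kernel

theorem search_check : search TriData.searchBasis [] [(0, 0)] = true := by decide +kernel

end CfsgLib.MonsterType.Tri
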