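import Cfsg.Agent.Lib.MonsterType.TriBase

/-! Kernel checks of the deductions about the centralizer of the permutation in the group of the code. -/

set_option autoImplicit false

namespace CfsgLib.MonsterType.Tri

open Cfsg CfsgLib CfsgLib.MonsterType

/-- One case: the images of the last two fixed points, and of the base point. -/
def caseB (sw : Bool) (m : ℕ) : Bool :=
  Nat.blt (TriData.certs.getD ((bif sw then 18 else 0) + m) (3, [])).1 3 &&
    Deduce.run (powCode (TriData.certs.getD ((bif sw then 18 else 0) + m) (3, [])).1)
      (TriData.certs.getD ((bif sw then 18 else 0) + m) (3, [])).2 (start sw (TriData.movPts.getD m 0))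

theorem cases_check : ((List.range 18).all fun m => caseB false m && caseB true m) = true := by decide +kernel

theorem levels_check : ((List.range 4).all fun l =>
    (TriData.fixPts.drop l).all (fun a => (TriData.levels.getD l []).any fun e => Nat.beq e.1 a) &&
    (TriData.levels.getD l []).all fun e =>
      Nat.beq (evalC e.2 (TriData.fixPts.getD l 0)) e.1 &&
        (TriData.fixPts.take l).all fun a => Nat.beq (evalC e.2 a) a) = true := by
  decide +kernel

theorem shape_check : Nat.beq TriData.fixPts.length 6 = true ∧ Nat.beq TriData.movPts.length 18 = true ∧
    ((List.range 24).all fun i => bif Nat.beq (Leech.Trans.img TriData.tcode i) i then TriData.fixPts.contains i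
      else TriData.movPts.contains i) = true ∧
    (TriData.fixPts.all fun i => Nat.blt i 24 && Nat.beq (Leech.Trans.img TriData.tcode i) i) = true ∧
    (TriData.movPts.all fun i => Nat.blt i 24 && !Nat.beq (Leech.Trans.img TriData.tcode i) i) = true ∧
    (TriData.fixPts ++ (List.range 3).map fun j =>
      (Leech.Trans.img TriData.tcode)^[j] (TriData.movPts.getD 0 0)).Nodup := by
  decide +kernel

theorem pow_check : ∀ i < 3, (List.range 24).all (fun p =>
    Nat.beq (Leech.Trans.img (powCode i) p) ((Leech.Trans.img TriData.tcode)^[i] p)) = true := by
  decide +kernel

end CfsgLib.MonsterType.Tri
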