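import Cfsg.Agent.Lib.MonsterType.TriBase
import Mathlib.Tactic.IntervalCases

/-! Kernel checks of the fixed classes. -/

set_option autoImplicit false

namespace CfsgLib.MonsterType.Tri

open Cfsg CfsgLib CfsgLib.Leech CfsgLib.MonsterQ CfsgLib.MonsterType
open CfsgLib.Leech.Orbits (vecOf eqB)

theorem power_check : (Trans.okT TriData.tcode && eqW (List.replicate 3 tS) []) = true := by decide +kernel

theorem basis_check : ((List.range 12).all fun i =>
    leechL (bas i) && eqB (vecOf (monoL TriData.tcode 0 (bas i))) (vecOf (bas i))) = true := by
  decide +kernel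

theorem reps_check : ((List.range 4).all fun t =>
    leechL (repRow t) && eqB (vecOf (monoL TriData.tcode 0 (repRow t))) (vecOf (repRow t)) &&
      congB (repRow t) (combRow (repIx t) 12) && (repIx t).blt 4096 &&
      (Nat.beq t 0 == eqB (vecOf (repRow t)) fun _ => 0) &&
      decide (repNorm t = [0, 64, 32, 48].getD t 0)) = true := by
  decide +kernel

theorem avg_check : ((List.range 59).all fun k => Nat.blt (TriData.avg.getD k 4096) 4096 &&
    congB (forceL (toList (leechGen k)) (avgL TriData.tcode 3)) (combRow (TriData.avg.getD k 4096) 12)) = true := by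
  decide +kernel

theorem frame_check : (leechB (vecOf (unitL 23)) && congB (repRow 1) (unitL 23) && Nat.beq (repIx 1) 1 &&
    Nat.beq (orbType 0) 0) = true := by
  decide +kernel

/-- The checks on the words reaching a range of classes. -/
def orbB (c : ℕ) : Bool := (List.range 512).all fun i =>
  (orbWord (512 * c + i)).all (Nat.blt · 10) &&
    Nat.beq (follow (orbWord (512 * c + i)) (repIx (orbType (512 * c + i)))) (512 * c + i)

theorem orb_0 : orbB 0 = true := by decide +kernel

theorem orb_1 : orbB 1 = true := by decide +kernel

theorem orb_2 : orbB 2 = true := by decide +kernel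

theorem orb_3 : orbB 3 = true := by decide +kernel

theorem orb_4 : orbB 4 = true := by decide +kernel

theorem orb_5 : orbB 5 = true := by decide +kernel

theorem orb_6 : orbB 6 = true := by decide +kernel

theorem orb_7 : orbB 7 = true := by decide +kernel

theorem orb_check : ∀ k < 4096, (∀ j ∈ orbWord k, j < 10) ∧ follow (orbWord k) (repIx (orbType k)) = k := by
  intro k hk
  have h : orbB (k / 512) = true := by
    have : k / 512 < 8 := by omega
    interval_cases k / 512
    exacts [orb_0, orb_1, orb_2, orb_3, orb_4, orb_5, orb_6, orb_7]
  have h' := List.all_eq_true.1 h (k % 512) (List.mem_range.2 (Nat.mod_lt _ (by norm_num)))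
  rw [Nat.div_add_mod, Bool.and_eq_true, List.all_eq_true] at h'
  exact ⟨fun j hj => Nat.le_of_ble_eq_true (h'.1 j hj), Nat.eq_of_beq_eq_true h'.2⟩

theorem count_check : Nat.beq ((List.range 4096).countP fun k => Nat.beq (orbType k) 1) 1701 = true := by
  decide +kernel

end CfsgLib.MonsterType.Tri
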