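import Cfsg.Agent.Lib.MonsterType.TriBase

/-! Kernel checks of the generators of the centralizer. -/

set_option autoImplicit false

namespace CfsgLib.MonsterType.Tri

open Cfsg CfsgLib CfsgLib.Leech CfsgLib.MonsterQ CfsgLib.MonsterType
open CfsgLib.Leech.Orbits (vecOf)

theorem comm_check : ((List.range 10).all fun j => eqW (tS :: gen j) (gen j ++ [tS])) = true := by
  decide +kernel

theorem cols_check : ((List.range 10).all fun j => (gen j).all stepOk && (List.range 12).all fun i =>
    Nat.blt ((TriData.cols.getD j []).getD i 0) 4096 &&
      mapsB (gen j) (bas i) (combRow ((TriData.cols.getD j []).getD i 0) 12)) = true := by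
  decide +kernel

theorem auto_check : eqW (tS :: [some (TriData.invPerm, 0)]) (some (TriData.invPerm, 0) :: List.replicate 2 tS) =
    true := by
  decide +kernel

theorem id_check : (Trans.okT idCode && (List.range 24).all fun i => Nat.beq (Trans.img idCode i) i) = true := by
  decide +kernel

theorem perm_gens_check : (TriData.permGens.all Trans.okT && TriData.levels.all (fun l => l.all fun e =>
      e.2.all (Nat.blt · 2)) && TriData.tWord.all (Nat.blt · 2) &&
    (List.range 24).all fun i => Nat.beq (evalC TriData.tWord i) (Trans.img TriData.tcode i)) = true := by
  decide +kernel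

theorem code_check : ((List.range 4096).all fun x =>
    !((List.range 24).all fun i => (Golay.comb x).testBit (Trans.img TriData.tcode i) == (Golay.comb x).testBit i) ||
      TriData.fixCode.contains x) = true := by
  decide +kernel

theorem span_check : (TriData.fixCode.all fun x =>
    (List.range 64).any fun m => Nat.beq (imgK TriData.signGens 6 m) x) = true := by
  decide +kernel

theorem gens_shape : gen 0 = [some (TriData.permGens.getD 0 0, 0)] ∧
    gen 1 = [some (TriData.permGens.getD 1 0, 0)] ∧
    (∀ q < 6, gen (2 + q) = [some (idCode, TriData.signGens.getD q 0)]) := by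
  decide +kernel

end CfsgLib.MonsterType.Tri
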