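import Cfsg.Agent.Lib.MonsterType.BigFixed

/-! Fixed classes given by a basis and a vector in each class, and linearity of induced maps before
the classes are known to be distinct. -/

set_option autoImplicit false

namespace CfsgLib.MonsterType

open Cfsg CfsgLib CfsgLib.Leech CfsgLib.MonsterQ
open CfsgLib.Leech.Orbits (vecOf eqB eq_of_eqB)

/-- The combination of the vectors `b` given by the bits of `k`, among the first `n`. -/
noncomputable def combSum (b : ℕ → leechLattice) (n k : ℕ) : leechLattice :=
  ∑ j ∈ Finset.range n, if k.testBit j then b j else 0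

theorem combSum_zero (b : ℕ → leechLattice) (n : ℕ) : combSum b n 0 = 0 := by simp [combSum]

theorem combSum_succ (b : ℕ → leechLattice) (n k : ℕ) :
    combSum b (n + 1) k = combSum b n k + if k.testBit n then b n else 0 := Finset.sum_range_succ _ _

theorem combSum_two_pow (b : ℕ → leechLattice) {n i : ℕ} (hi : i < n) : combSum b n (2 ^ i) = b i := by
  rw [combSum, Finset.sum_eq_single i (fun j _ hne => by simp [Nat.testBit_two_pow, Ne.symm hne])
    (fun h => absurd (Finset.mem_range.2 hi) h)]
  simp

theorem combSum_add (b : ℕ → leechLattice) :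
    ∀ n k l : ℕ, Cong (combSum b n k + combSum b n l) (combSum b n (k ^^^ l))
  | 0, k, l => by simp only [combSum, Finset.range_zero, Finset.sum_empty, add_zero]; exact Cong.refl 0
  | n + 1, k, l => by
    rw [combSum_succ, combSum_succ, combSum_succ, Nat.testBit_xor, add_add_add_comm]
    refine cong_add (combSum_add b n k l) ?_
    cases k.testBit n <;> cases l.testBit n
    · simpa using Cong.refl (0 : leechLattice)
    · simpa using Cong.refl (b n)
    · simpa using Cong.refl (b n)
    · simpa using cong_two_zero (b n)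

theorem combSum_smul {b : ℕ → leechLattice} {g : Co0} {A : List ℕ} {d : ℕ}
    (h : ∀ j < d, A.getD j 0 < 2 ^ d ∧ Cong (g • b j) (combSum b d (A.getD j 0))) (k : ℕ) :
    ∀ n ≤ d, imgK A n k < 2 ^ d ∧ Cong (g • combSum b n k) (combSum b d (imgK A n k))
  | 0, _ => by
    refine ⟨Nat.two_pow_pos d, ?_⟩
    simp only [imgK, combSum_zero, combSum, Finset.range_zero, Finset.sum_empty, smul_zero']
    simpa [combSum] using Cong.refl (0 : leechLattice)
  | n + 1, hn => by
    obtain ⟨h1, h2⟩ := combSum_smul h k n (by omega)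
    rw [combSum_succ]
    cases hb : k.testBit n with
    | false =>
      simp only [imgK, hb, cond_false, Bool.false_eq_true, if_false, add_zero]
      exact ⟨h1, h2⟩
    | true =>
      simp only [imgK, hb, cond_true, if_true, smul_add']
      obtain ⟨h3, h4⟩ := h n (by omega)
      exact ⟨Nat.xor_lt_two_pow h1 h3, (cong_add h2 h4).trans (combSum_add b d _ _)⟩

theorem fixed_of_linear {p T d : ℕ} (hp : p % 2 = 1) (hT : Trans.okT T = true)
    (hp1 : eqW (List.replicate p (some (T, 0))) [] = true) {b rv : ℕ → leechLattice}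
    (hrv : ∀ k < 2 ^ d, Cong (rv k) (combSum b d k)) (hfix : ∀ k < 2 ^ d, stepEl (some (T, 0)) • rv k = rv k)
    (hzero : rv 0 = 0) (hne : ∀ k < 2 ^ d, k ≠ 0 → rv k ≠ 0)
    (hshort : ∀ k < 2 ^ d, sqNorm (rv k : GolayPt → ℤ) ≤ 64)
    (havg : ∀ k < 59, ∃ a < 2 ^ d, ∀ v : leechLattice,
      (v : GolayPt → ℤ) = vecOf (avgL T p (toList (leechGen k))) → Cong v (combSum b d a)) :
    FixedClasses (stepEl (some (T, 0))) p d rv := by
  set t := stepEl (some (T, 0)) with ht
  have hok : stepOk (some (T, 0)) = true := hT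
  have htp : t ^ p = 1 := by
    have e := eq_of_eqW hp1
    rwa [wordEl_replicate] at e
  have hadd : ∀ k < 2 ^ d, ∀ l < 2 ^ d, Cong (rv k + rv l) (rv (k ^^^ l)) := fun k hk l hl =>
    ((cong_add (hrv k hk) (hrv l hl)).trans (combSum_add b d k l)).trans (hrv _ (Nat.xor_lt_two_pow hk hl)).symm
  refine ⟨htp, fun k hk => by rw [hfix k hk]; exact Cong.refl _, hzero, hne, hshort, hadd, ?_⟩
  let N : leechLattice →+ leechLattice :=
    AddMonoidHom.mk' (fun v => ∑ i ∈ Finset.range p, t ^ i • v) fun a c => by
      simp only [smul_add', Finset.sum_add_distrib]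
  have hav : ∀ n (v : leechLattice) (l : List ℤ), (v : GolayPt → ℤ) = vecOf l →
      ((∑ i ∈ Finset.range n, t ^ i • v : leechLattice) : GolayPt → ℤ) = vecOf (avgL T n l) := by
    intro n
    induction n with
    | zero =>
      intro v l _
      funext q
      simp only [Finset.range_zero, Finset.sum_empty, avgL, vecOf_map_range]; rfl
    | succ n ih =>
      intro v l hl
      rw [Finset.sum_range_succ', pow_zero, one_smul, avgL, forceL_eq, forceL_eq, AddSubgroup.coe_add,
        show (∑ i ∈ Finset.range n, t ^ (i + 1) • v) = ∑ i ∈ Finset.range n, t ^ i • (t • v) from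
          Finset.sum_congr rfl fun i _ => by rw [pow_succ, mul_smul],
        ih (t • v) (monoL T 0 l) (by rw [ht, coe_stepEl hok, hl, ← vecOf_stepL hok]; rfl), hl]
      funext q
      rw [vecOf_map_range]
      exact add_comm _ _
  intro v hv
  suffices H : ∀ x (hx : x ∈ leechLattice), ∃ k < 2 ^ d, Cong (N ⟨x, hx⟩) (rv k) by
    obtain ⟨k, hk, hc⟩ := H _ v.2
    refine ⟨k, hk, Cong.trans ?_ hc⟩
    have hi : ∀ i, Cong (t ^ i • v) v := by
      intro i
      induction i with
      | zero => rw [pow_zero, one_smul]; exact Cong.refl v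
      | succ i ih => rw [pow_succ', mul_smul]; exact (ih.smul t).trans hv
    have hsum' : ∀ n, Cong (∑ i ∈ Finset.range n, t ^ i • v) ((n % 2) • v) := by
      intro n
      induction n with
      | zero => simp only [Finset.range_zero, Finset.sum_empty, Nat.zero_mod, zero_smul]; exact Cong.refl 0
      | succ n ih =>
        rw [Finset.sum_range_succ]
        refine (cong_add ih (hi n)).trans ?_
        rcases Nat.mod_two_eq_zero_or_one n with e | e
        · rw [e, show (n + 1) % 2 = 1 by omega, zero_smul, one_smul, zero_add]; exact Cong.refl v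
        · rw [e, show (n + 1) % 2 = 0 by omega, zero_smul, one_smul]; exact cong_zero_iff.2 (Cong.refl v)
    have h1 := hsum' p
    rw [hp, one_smul] at h1
    exact h1.symm
  intro x hx
  have hx' : x ∈ genSub := by rw [genSub_eq]; exact hx
  induction hx' using AddSubgroup.closure_induction with
  | mem y hy =>
    obtain ⟨k, hk, rfl⟩ := hy
    obtain ⟨a, ha, hc⟩ := havg k hk
    exact ⟨a, ha, (hc _ (hav p _ _ (vecOf_toList _).symm)).trans (hrv a ha).symm⟩
  | zero =>
    refine ⟨0, Nat.two_pow_pos d, ?_⟩
    rw [hzero, show (⟨0, hx⟩ : leechLattice) = 0 from rfl, map_zero]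
    exact Cong.refl 0
  | add a c ha hc iha ihb =>
    replace ha := genSub_le ha
    replace hc := genSub_le hc
    obtain ⟨k, hk, hka⟩ := iha ha
    obtain ⟨l, hl, hlb⟩ := ihb hc
    refine ⟨k ^^^ l, Nat.xor_lt_two_pow hk hl, ?_⟩
    rw [show (⟨a + c, hx⟩ : leechLattice) = ⟨a, ha⟩ + ⟨c, hc⟩ from rfl, map_add]
    exact (cong_add hka hlb).trans (hadd k hk l hl)
  | neg a ha iha =>
    replace ha := genSub_le ha
    obtain ⟨k, hk, hka⟩ := iha ha
    refine ⟨k, hk, ?_⟩
    rw [show (⟨-a, hx⟩ : leechLattice) = -⟨a, ha⟩ from rfl, map_neg]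
    exact (cong_neg _).trans hka

end CfsgLib.MonsterType
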