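import Cfsg.Agent.Lib.MonsterType.TriCheckFix
import Cfsg.Agent.Lib.MonsterType.TriCheckGens
import Cfsg.Agent.Lib.MonsterType.TriLinear

/-! The fixed classes of the element of order three, and generators commuting with it. -/

set_option autoImplicit false
set_option linter.style.haveILetI false

namespace CfsgLib.MonsterType.Tri

open Cfsg CfsgLib CfsgLib.Leech CfsgLib.MonsterQ CfsgLib.MonsterType
open CfsgLib.Leech.Orbits (vecOf eqB eq_of_eqB)

/-- The element of order three. -/
noncomputable def tt : Co0 := stepEl tS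

/-- The centralizer of `tt`. -/
abbrev K : Subgroup Co0 := Subgroup.centralizer ({tt} : Set Co0)

theorem K_comm (g : K) : (g : Co0) * tt = tt * (g : Co0) := Subgroup.mem_centralizer_singleton_iff.1 g.2

/-- A generator. -/
noncomputable def gEl (j : ℕ) : Co0 := wordEl (gen j)

theorem gEl_mem {j : ℕ} (hj : j < 10) : gEl j ∈ K := by
  have h := eq_of_eqW (List.all_eq_true.1 comm_check j (List.mem_range.2 hj))
  rw [wordEl, wordEl_append, wordEl_single] at h
  exact Subgroup.mem_centralizer_singleton_iff.2 h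

/-- A product of generators, first letter applied first. -/
noncomputable def prodEl : List ℕ → Co0
  | [] => 1
  | j :: w => prodEl w * gEl j

/-- The subgroup generated by the generators. -/
noncomputable def H : Subgroup Co0 := Subgroup.closure (Set.range fun j : Fin 10 => gEl j)

theorem gEl_mem_H {j : ℕ} (hj : j < 10) : gEl j ∈ H := Subgroup.subset_closure ⟨⟨j, hj⟩, rfl⟩

theorem H_le : H ≤ K := (Subgroup.closure_le _).2 (by rintro _ ⟨j, rfl⟩; exact gEl_mem j.2)

theorem prodEl_mem : ∀ {w : List ℕ}, (∀ j ∈ w, j < 10) → prodEl w ∈ H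
  | [], _ => one_mem _
  | j :: w, h => mul_mem (prodEl_mem fun i hi => h i (List.mem_cons_of_mem _ hi)) (gEl_mem_H (h j List.mem_cons_self))

/-- A basis vector of the fixed classes. -/
noncomputable def bv (i : ℕ) : leechLattice := latOf (bas i)

/-- The combination given by an index. -/
noncomputable def E (k : ℕ) : leechLattice := combSum bv 12 k

theorem coe_bv {i : ℕ} (hi : i < 12) : (bv i : GolayPt → ℤ) = vecOf (bas i) := by
  have h := List.all_eq_true.1 basis_check i (List.mem_range.2 hi)
  simp only [Bool.and_eq_true] at h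
  exact coe_latOf (leechB_of_leechL h.1)

theorem coe_comb (k : ℕ) : ∀ n ≤ 12, ((combSum bv n k : leechLattice) : GolayPt → ℤ) = vecOf (combRow k n)
  | 0, _ => by
    funext p
    simp only [combSum, Finset.range_zero, Finset.sum_empty, combRow, vecOf_map_range]; rfl
  | n + 1, hn => by
    rw [combSum_succ, combRow, forceL_eq, AddSubgroup.coe_add, coe_comb k n (by omega)]
    cases k.testBit n
    · simp
    · simp only [if_true, cond_true, coe_bv (show n < 12 by omega)]
      funext p
      rw [vecOf_map_range]; rfl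

theorem coe_E (k : ℕ) : (E k : GolayPt → ℤ) = vecOf (combRow k 12) := coe_comb k 12 le_rfl

theorem gEl_E {j k : ℕ} (hj : j < 10) :
    imgK (TriData.cols.getD j []) 12 k < 4096 ∧
      Cong (gEl j • E k) (E (imgK (TriData.cols.getD j []) 12 k)) := by
  refine combSum_smul (fun i hi => ?_) k 12 le_rfl
  have h := List.all_eq_true.1 cols_check j (List.mem_range.2 hj)
  simp only [Bool.and_eq_true, List.all_eq_true, List.mem_range, Nat.blt_eq] at h
  obtain ⟨h1, h2⟩ := h.2 i hi
  refine ⟨h1, ?_⟩
  have h3 := cong_of_mapsB h2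
  simp only [mapsB, Bool.and_eq_true] at h2
  have e : latOf (combRow ((TriData.cols.getD j []).getD i 0) 12) = E ((TriData.cols.getD j []).getD i 0) :=
    Subtype.ext ((coe_latOf (leechB_of_leechL h2.1.2)).trans (coe_E _).symm)
  rw [e] at h3
  exact h3

theorem prodEl_E : ∀ (w : List ℕ), (∀ j ∈ w, j < 10) → ∀ k < 4096,
    follow w k < 4096 ∧ Cong (prodEl w • E k) (E (follow w k))
  | [], _, k, hk => ⟨hk, by rw [prodEl, one_smul]; exact Cong.refl _⟩
  | j :: w, h, k, _ => by
    obtain ⟨h1, h2⟩ := gEl_E (k := k) (h j List.mem_cons_self)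
    obtain ⟨h3, h4⟩ := prodEl_E w (fun i hi => h i (List.mem_cons_of_mem _ hi)) _ h1
    refine ⟨h3, ?_⟩
    rw [prodEl, mul_smul]
    exact (h2.smul _).trans h4

theorem imgK_zero (A : List ℕ) : ∀ n, imgK A n 0 = 0
  | 0 => rfl
  | n + 1 => by simp [imgK, imgK_zero A n]

theorem follow_zero : ∀ w, follow w 0 = 0
  | [] => rfl
  | j :: w => by rw [follow, imgK_zero]; exact follow_zero w

/-- The representing vector of the orbit with number `t`. -/
noncomputable def repV (t : ℕ) : leechLattice := latOf (repRow t)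

theorem repV_spec {t : ℕ} (ht : t < 4) : tt • repV t = repV t ∧ repIx t < 4096 ∧ Cong (repV t) (E (repIx t)) ∧
    (repV t = 0 ↔ t = 0) ∧ sqNorm (repV t : GolayPt → ℤ) = [0, 64, 32, 48].getD t 0 := by
  have h := List.all_eq_true.1 reps_check t (List.mem_range.2 ht)
  simp only [Bool.and_eq_true, decide_eq_true_eq, Nat.blt_eq, beq_iff_eq] at h
  obtain ⟨⟨⟨⟨⟨hl, hf⟩, hc⟩, hlt⟩, hz⟩, hn⟩ := h
  have hco : (repV t : GolayPt → ℤ) = vecOf (repRow t) := coe_latOf (leechB_of_leechL hl)
  have hok : stepOk tS = true := by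
    have := power_check
    simp only [Bool.and_eq_true] at this
    exact this.1
  refine ⟨Subtype.ext ?_, hlt, cong_of_congB hco (coe_E _) hc, ⟨fun e => ?_, ?_⟩, ?_⟩
  · rw [tt, coe_stepEl hok, hco, ← vecOf_stepL hok]
    exact eq_of_eqB hf
  · have e' := hco.symm.trans (congrArg Subtype.val e)
    have : eqB (vecOf (repRow t)) (fun _ => 0) = true := by rw [e']; simp [eqB]
    exact Nat.eq_of_beq_eq_true (hz.trans this)
  · rintro rfl
    refine Subtype.ext (hco.trans ?_)
    exact eq_of_eqB hz.symm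
  · rw [sqNorm, hco, sum_vecOf _ (fun a => a ^ 2)]
    simp only [pow_two]
    exact hn

/-- The representatives of the fixed classes. -/
noncomputable def rv (k : ℕ) : leechLattice := prodEl (orbWord k) • repV (orbType k)

theorem orbType_lt (k : ℕ) : orbType k < 4 := Nat.mod_lt _ (by norm_num)

theorem rv_E {k : ℕ} (hk : k < 4096) : Cong (rv k) (E k) := by
  obtain ⟨hw, he⟩ := orb_check k hk
  obtain ⟨-, hlt, hc, -⟩ := repV_spec (orbType_lt k)
  refine (hc.smul _).trans ?_
  have h := (prodEl_E _ hw _ hlt).2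
  rwa [he] at h

theorem rv_norm (k : ℕ) : sqNorm (rv k : GolayPt → ℤ) = [0, 64, 32, 48].getD (orbType k) 0 :=
  (sqNorm_smul _ _).trans (repV_spec (orbType_lt k)).2.2.2.2

theorem orb_zero : orbType 0 = 0 ∧ orbType 1 = 1 ∧ orbWord 1 = [] ∧ repIx 0 = 0 := by decide +kernel

theorem fixed : FixedClasses tt 3 12 rv := by
  have h := power_check
  rw [Bool.and_eq_true] at h
  refine fixed_of_linear (by norm_num) h.1 h.2 (b := bv) (fun k hk => rv_E hk) (fun k hk => ?_) ?_
    (fun k hk hk0 e => hk0 ?_) (fun k _ => ?_) (fun k hk => ?_)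
  · have hc := Subgroup.mem_centralizer_singleton_iff.1 (H_le (prodEl_mem (orb_check k hk).1))
    show tt • rv k = rv k
    rw [rv, ← mul_smul, ← hc, mul_smul, (repV_spec (orbType_lt k)).1]
  · rw [rv, (repV_spec (orbType_lt 0)).2.2.2.1.2 orb_zero.1, smul_zero']
  · rw [rv, smul_eq_iff_eq_inv_smul, smul_zero'] at e
    have ht := (repV_spec (orbType_lt k)).2.2.2.1.1 e
    have h1 := (orb_check k hk).2
    rw [ht, orb_zero.2.2.2, follow_zero] at h1
    exact h1.symm
  · rw [rv_norm]
    have := orbType_lt k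
    interval_cases orbType k <;> simp
  · have h' := List.all_eq_true.1 avg_check k (List.mem_range.2 hk)
    simp only [Bool.and_eq_true, Nat.blt_eq, forceL_eq] at h'
    exact ⟨_, h'.1, fun v hv => cong_of_congB hv (coe_E _) h'.2⟩

theorem gEl_act {j k : ℕ} (hj : j < 10) (hk : k < 4096) :
    imgK (TriData.cols.getD j []) 12 k < 4096 ∧
      Cong (gEl j • rv k) (rv (imgK (TriData.cols.getD j []) 12 k)) := by
  obtain ⟨h1, h2⟩ := gEl_E (k := k) hj
  exact ⟨h1, (((rv_E hk).smul _).trans h2).trans (rv_E h1).symm⟩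

theorem prodEl_act {w : List ℕ} (hw : ∀ j ∈ w, j < 10) {k : ℕ} (hk : k < 4096) :
    follow w k < 4096 ∧ Cong (prodEl w • rv k) (rv (follow w k)) := by
  obtain ⟨h1, h2⟩ := prodEl_E w hw k hk
  exact ⟨h1, (((rv_E hk).smul _).trans h2).trans (rv_E h1).symm⟩

theorem rv_one_cong : Cong (rv 1) (eightVec none) := by
  have h := frame_check
  simp only [Bool.and_eq_true] at h
  have hr := List.all_eq_true.1 reps_check 1 (List.mem_range.2 (by norm_num))
  simp only [Bool.and_eq_true] at hr
  rw [rv, orb_zero.2.2.1, prodEl, one_smul, orb_zero.2.1]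
  exact cong_of_congB (coe_latOf (leechB_of_leechL hr.1.1.1.1.1)) (vecOf_unitL none).symm h.1.1.2

theorem classStab_one : classStab (rv 1) = monoSub := by
  rw [← classStab_eightVec]
  ext g
  exact ⟨fun h => ((rv_one_cong.smul g).symm.trans h).trans rv_one_cong,
    fun h => ((rv_one_cong.smul g).trans h).trans rv_one_cong.symm⟩

theorem K_frame (g : K) : ∃ k < 4096, orbType k = 1 ∧ Cong ((g : Co0) • rv 1) (rv k) := by
  obtain ⟨k, hk, hc⟩ := fixed.cover ((g : Co0) • rv 1) (by
    rw [← mul_smul, ← K_comm g, mul_smul]; exact (fixed.fix 1 (by norm_num)).smul _)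
  refine ⟨k, hk, ?_, hc⟩
  have h := fixed.norm_eq hk hc (by rw [sqNorm_smul, rv_norm, orb_zero.2.1]; rfl)
  rw [rv_norm] at h
  have := orbType_lt k
  interval_cases orbType k <;> simp at h ⊢

end CfsgLib.MonsterType.Tri
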