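import Cfsg.Agent.Lib.MonsterType.TriModel

/-! Pulling the normal series of the image back to the centralizer. -/

set_option autoImplicit false
set_option linter.style.haveILetI false

namespace CfsgLib.MonsterType.Tri

open Cfsg CfsgLib CfsgLib.Leech

theorem lift_chain {C : Type*} [Group C] (R : Subgroup C) [hR : R.Normal] (e : C ⧸ R ≃* Γ) :
    ∃ (N' M' : Subgroup C) (_ : N'.Normal) (_ : M'.Normal), R ≤ N' ∧ N' ≤ M' ∧ Nat.card N' = 3 * Nat.card R ∧
      (∃ (F : Type) (_ : Field F) (_ : Fintype F),
        Fintype.card F = 9 ∧ Nonempty (M' ⧸ N'.subgroupOf M' ≃* PSU 4 F 3)) ∧ M'.index = 2 := by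
  set h : C →* Γ := e.toMonoidHom.comp (QuotientGroup.mk' R) with hh
  have hs : Function.Surjective h := e.surjective.comp (QuotientGroup.mk'_surjective R)
  have hker : h.ker = R := by
    ext x
    show e (QuotientGroup.mk x) = 1 ↔ x ∈ R
    rw [map_eq_one_iff e e.injective, QuotientGroup.eq_one_iff]
  haveI : N.Normal := phiBar.normal_ker
  haveI : M.Normal := M_normal
  refine ⟨N.comap h, M.comap h, inferInstance, inferInstance, ?_, Subgroup.comap_mono N_le_M, ?_,
    ⟨Leech.Triangle.K9, inferInstance, inferInstance, Leech.Triangle.U43.hF.trans (by norm_num), ?_⟩, ?_⟩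
  · rw [← hker]; exact fun x hx => by
      show h x ∈ N
      rw [MonoidHom.mem_ker.1 hx]; exact one_mem _
  · let g : ↥(N.comap h) →* ↥N := h.subgroupComap N
    have hg : Function.Surjective g := fun y => by
      obtain ⟨x, hx⟩ := hs (y : Γ)
      exact ⟨⟨x, show h x ∈ N from hx ▸ y.2⟩, Subtype.ext hx⟩
    have hgk : Nat.card g.ker = Nat.card R := Nat.card_congr
      { toFun := fun a => ⟨((a : ↥(N.comap h)) : C), hker.le (show ((a : ↥(N.comap h)) : C) ∈ h.ker from
          congrArg Subtype.val a.2)⟩
        invFun := fun a => ⟨⟨(a : C), show h (a : C) ∈ N by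
          rw [show h (a : C) = 1 from hker.ge a.2]; exact one_mem _⟩, Subtype.ext (hker.ge a.2)⟩
        left_inv := fun a => rfl
        right_inv := fun a => rfl }
    rw [← Subgroup.card_mul_index g.ker, Subgroup.index_ker, MonoidHom.range_eq_top.2 hg, Subgroup.card_top, card_N,
      hgk, mul_comm]
  · let g : ↥(M.comap h) →* ↥M := h.subgroupComap M
    have hg : Function.Surjective g := fun y => by
      obtain ⟨x, hx⟩ := hs (y : Γ)
      exact ⟨⟨x, show h x ∈ M from hx ▸ y.2⟩, Subtype.ext hx⟩
    obtain ⟨e'⟩ := quotient_equiv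
    let q : ↥(M.comap h) →* ↥M ⧸ N.subgroupOf M := (QuotientGroup.mk' _).comp g
    have hq : Function.Surjective q := (QuotientGroup.mk'_surjective _).comp hg
    have hqk : q.ker = (N.comap h).subgroupOf (M.comap h) := by
      ext x
      rw [MonoidHom.mem_ker, Subgroup.mem_subgroupOf, Subgroup.mem_comap]
      exact (QuotientGroup.eq_one_iff (g x)).trans Subgroup.mem_subgroupOf
    exact ⟨((QuotientGroup.quotientMulEquivOfEq hqk.symm).trans
      (QuotientGroup.quotientKerEquivOfSurjective q hq)).trans e'⟩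
  · rw [Subgroup.index_comap_of_surjective _ hs, index_M]

end CfsgLib.MonsterType.Tri
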