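import Cfsg.Agent.Lib.MonsterType.TriLift
import Cfsg.Agent.Lib.MonsterType.TriCentral
import Cfsg.Agent.Lib.MonsterType.Swap

/-! The centralizer of a subgroup of order three central in a Sylow 3-subgroup of the joint centralizer. -/

set_option autoImplicit false
set_option linter.style.haveILetI false

namespace CfsgLib.MonsterType.Tri

open Cfsg CfsgLib CfsgLib.Leech CfsgLib.MonsterQ CfsgLib.MonsterType

variable {G : Type*} [Group G]

/-- One element conjugates the lifts of all central elements of a subgroup of order 27 into `⟨tt⟩`. -/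
theorem exists_normal_central [Finite G] {z : G} {Q : Subgroup G}
    {π : ↥(Subgroup.centralizer ({z} : Set G)) →* Spor.Co1} {θ : leechLattice → G} (H : Hyp z Q π θ) {s : G}
    (hsQ : s ∈ Q) (hs : IsConj z s) (hs1 : s ≠ z) (hcls : Cls z θ s (eightVec none))
    {PG : Subgroup G} (hPL : PG ≤ Subgroup.centralizer ({z, s} : Set G)) (hP : Nat.card PG = 27) :
    ∃ g ∈ monoSub, ∀ c ∈ PG, orderOf c = 3 → (∀ q ∈ PG, q * c = c * q) →
      ∀ hc : c ∈ Subgroup.centralizer ({z} : Set G), ∃ k : ℕ, k % 3 ≠ 0 ∧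
        π ⟨c, hc⟩ = (QuotientGroup.mk (g * tt ^ k * g⁻¹) : Spor.Co1) := by
  classical
  haveI : Fact (Nat.Prime 3) := ⟨Nat.prime_three⟩
  set L := Subgroup.centralizer ({z, s} : Set G) with hL
  have hLz : L ≤ Subgroup.centralizer ({z} : Set G) := by rw [hL, pair_centralizer]; exact inf_le_left
  obtain ⟨-, -, hmem⟩ := pair_facts' H hsQ hs hs1 hcls hLz
  let f : ↥PG →* Spor.Co1 := π.comp (Subgroup.inclusion (hPL.trans hLz))
  have hf : Function.Injective f := by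
    rw [injective_iff_map_eq_one]
    intro x hx
    obtain ⟨m, hm⟩ := H.S.two ⟨(x : G), (H.ker _).1 hx⟩
    have hm' : x ^ 2 ^ m = 1 := Subtype.ext (by simpa using congrArg Subtype.val hm)
    refine orderOf_eq_one_iff.1 (Nat.eq_one_of_dvd_coprimes (a := 2 ^ m) (b := 27)
      (Nat.Coprime.pow_left _ (by norm_num)) (orderOf_dvd_of_pow_eq_one hm') ?_)
    rw [← hP]; exact orderOf_dvd_natCard x
  set W : Subgroup Co0 := f.range.comap (QuotientGroup.mk' (Subgroup.center Co0)) with hW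
  have hWm : W ≤ monoSub := by
    rintro a ⟨x, hx⟩
    exact (hmem a).2 ⟨⟨(x : G), hPL x.2⟩, hx⟩
  have hWc : Nat.card W = 2 * 27 := by
    have h1 := Subgroup.card_mul_index W
    rw [hW, Subgroup.index_comap_of_surjective _ (QuotientGroup.mk'_surjective _)] at h1
    have h2 := Subgroup.card_mul_index f.range
    have h3 : Nat.card Co0 = 2 * Nat.card Spor.Co1 := by
      have h := Subgroup.card_eq_card_quotient_mul_card_subgroup (Subgroup.center Co0)
      rw [card_center] at h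
      rw [h, mul_comm]
    rw [h3, ← h2, ← mul_assoc] at h1
    rw [← hP, Nat.card_congr (MonoidHom.ofInjective hf).toEquiv]
    exact Nat.eq_of_mul_eq_mul_right (Nat.pos_of_ne_zero Subgroup.index_ne_zero_of_finite) h1
  let T₀ : Sylow 3 ↥W := default
  set T : Subgroup Co0 := (T₀ : Subgroup ↥W).map W.subtype with hT
  have hTW : T ≤ W := Subgroup.map_subtype_le _
  have hTc : Nat.card T = 27 := by
    rw [hT, Subgroup.card_map_of_injective W.subtype_injective, T₀.card_eq_multiplicity, hWc,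
      Nat.factorization_mul (by norm_num) (by norm_num), Finsupp.add_apply,
      Nat.factorization_eq_zero_of_not_dvd (show ¬ 3 ∣ 2 by norm_num), show (27 : ℕ) = 3 ^ 3 by norm_num,
      Nat.Prime.factorization_pow Nat.prime_three, Finsupp.single_eq_same]
  obtain ⟨U, hUm, hU27, hUc⟩ := exists_syl
  obtain ⟨g₀, hg₀, hg₀e⟩ := conj_sylow 3 (K := monoSub) (hTW.trans hWm) hUm
    (by rw [hTc, mono_three_part]; norm_num) (by rw [hU27, mono_three_part]; norm_num)
  refine ⟨g₀⁻¹, inv_mem hg₀, fun c hc hord hcen hcz => ?_⟩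
  obtain ⟨β₀, hβ₀⟩ := QuotientGroup.mk'_surjective (Subgroup.center Co0) (f ⟨c, hc⟩)
  rw [QuotientGroup.mk'_apply] at hβ₀
  have hordc : orderOf (⟨c, hc⟩ : ↥PG) = 3 := by rw [← hord, ← Subgroup.orderOf_coe]
  have hpp : f ⟨c, hc⟩ ^ 3 = 1 := by rw [← map_pow, ← hordc, pow_orderOf_eq_one, map_one]
  set β := β₀ ^ 4 with hβ
  have hβπ : (QuotientGroup.mk β : Spor.Co1) = f ⟨c, hc⟩ := by
    rw [hβ, QuotientGroup.mk_pow, hβ₀, pow_succ, hpp, one_mul]
  have hβp : β ^ 3 = 1 := by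
    rw [hβ, ← pow_mul, show 4 * 3 = 3 * 4 by norm_num, pow_mul]
    have hcc : β₀ ^ 3 ∈ ({1, negEl} : Set Co0) := by
      rw [← center_eq]
      exact (QuotientGroup.eq_one_iff _).1 (by rw [QuotientGroup.mk_pow, hβ₀, hpp])
    rcases hcc with h | h
    · rw [h, one_pow]
    · rw [Set.mem_singleton_iff] at h
      rw [h, show 4 = 2 * 2 by norm_num, pow_mul, show negEl ^ 2 = (1 : Co0) by rw [pow_two, sq_negEl], one_pow]
  have hβW : β ∈ W := ⟨⟨c, hc⟩, hβπ.symm⟩
  have hcomm : ∀ a ∈ W, a * β = β * a := by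
    rintro a ⟨x, hx⟩
    have hx' : (QuotientGroup.mk a : Spor.Co1) = f x := hx.symm
    have hq : (QuotientGroup.mk (a * β * a⁻¹ * β⁻¹) : Spor.Co1) = 1 := by
      simp only [QuotientGroup.mk_mul, QuotientGroup.mk_inv, hx', hβπ, ← map_mul, ← map_inv]
      rw [show x * ⟨c, hc⟩ * x⁻¹ * (⟨c, hc⟩ : ↥PG)⁻¹ = 1 from Subtype.ext (by
        show (x : G) * c * (x : G)⁻¹ * c⁻¹ = 1
        rw [hcen _ x.2]; group), map_one]
    have hd : a * β * a⁻¹ * β⁻¹ ∈ ({1, negEl} : Set Co0) := by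
      rw [← center_eq]; exact (QuotientGroup.eq_one_iff _).1 hq
    rcases hd with h | h
    · exact mul_inv_eq_iff_eq_mul.1 (mul_inv_eq_one.1 h)
    · exfalso
      rw [Set.mem_singleton_iff, mul_inv_eq_iff_eq_mul] at h
      have e : (a * β * a⁻¹) ^ 3 = 1 := by rw [conj_pow, hβp, mul_one, mul_inv_cancel]
      rw [h, (show Commute negEl β from (negEl_comm β).symm).mul_pow, hβp, mul_one, pow_succ, pow_two, sq_negEl,
        one_mul] at e
      exact negEl_ne_one e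
  have hβT : β ∈ T := by
    have h3 : IsPGroup 3 T := IsPGroup.of_card (n := 3) (by rw [hTc]; norm_num)
    obtain ⟨m, -, hm⟩ := (Nat.dvd_prime_pow Nat.prime_three).1
      (show orderOf β ∣ 3 ^ 1 from orderOf_dvd_of_pow_eq_one hβp)
    have hb3 : IsPGroup 3 ↥(Subgroup.zpowers β) := IsPGroup.of_card (n := m) (by rw [Nat.card_zpowers, hm])
    have hsup : IsPGroup 3 ↥(Subgroup.zpowers β ⊔ T) := hb3.to_sup_of_normal_left' h3 (fun a ha => by
      refine Subgroup.mem_normalizer_iff.2 fun y => ?_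
      have hay : Commute a β := hcomm a (hTW ha)
      constructor
      · intro hy
        obtain ⟨n, rfl⟩ := Subgroup.mem_zpowers_iff.1 hy
        rw [(hay.zpow_right n).eq, mul_inv_cancel_right]
        exact Subgroup.zpow_mem _ (Subgroup.mem_zpowers _) n
      · intro hy
        obtain ⟨n, hn⟩ := Subgroup.mem_zpowers_iff.1 hy
        have e : y = β ^ n := by
          calc y = a⁻¹ * (a * y * a⁻¹) * a := by group
            _ = a⁻¹ * β ^ n * a := by rw [hn]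
            _ = β ^ n := by rw [mul_assoc, ← (hay.zpow_right n).eq, inv_mul_cancel_left]
        rw [e]; exact Subgroup.zpow_mem _ (Subgroup.mem_zpowers _) n)
    obtain ⟨n, hn⟩ := hsup.exists_card_eq
    have hle : Subgroup.zpowers β ⊔ T ≤ W := sup_le (Subgroup.zpowers_le.2 hβW) hTW
    have hn3 : n ≤ 3 := by
      have hd : 3 ^ n ∣ 2 * 27 := by rw [← hn, ← hWc]; exact Subgroup.card_dvd_of_le hle
      have hd' : 3 ^ n ∣ 3 ^ 3 := (Nat.Coprime.pow_left n (by norm_num : Nat.Coprime 3 2)).dvd_of_dvd_mul_left hd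
      exact (Nat.pow_dvd_pow_iff_le_right (by norm_num : 1 < 3)).1 hd'
    rw [Subgroup.eq_of_le_of_card_ge (le_sup_right : T ≤ Subgroup.zpowers β ⊔ T)
      (by rw [hn, hTc, show (27 : ℕ) = 3 ^ 3 by norm_num]; exact Nat.pow_le_pow_right (by norm_num) hn3)]
    exact Subgroup.mem_sup_left (Subgroup.mem_zpowers _)
  have hβU : g₀ * β * g₀⁻¹ ∈ U := hg₀e ▸ Subgroup.mem_map_of_mem _ hβT
  have hz : g₀ * β * g₀⁻¹ ∈ Subgroup.zpowers tt := hUc _ hβU fun u hu => by
    rw [← hg₀e] at hu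
    obtain ⟨a, ha, rfl⟩ := hu
    show g₀ * a * g₀⁻¹ * (g₀ * β * g₀⁻¹) = g₀ * β * g₀⁻¹ * (g₀ * a * g₀⁻¹)
    calc g₀ * a * g₀⁻¹ * (g₀ * β * g₀⁻¹) = g₀ * (a * β) * g₀⁻¹ := by group
      _ = g₀ * (β * a) * g₀⁻¹ := by rw [hcomm a (hTW ha)]
      _ = _ := by group
  rw [← mem_powers_iff_mem_zpowers] at hz
  obtain ⟨k, hk⟩ := hz
  have hk' : tt ^ k = g₀ * β * g₀⁻¹ := hk
  have hπc : π ⟨c, hcz⟩ = f ⟨c, hc⟩ := rfl
  refine ⟨k, fun hk0 => ?_, ?_⟩
  · have e : tt ^ k = 1 := by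
      rw [← Nat.div_add_mod k 3, hk0, add_zero, pow_mul, fixed.pow, one_pow]
    rw [e, eq_comm, conj_eq_one_iff] at hk'
    have h1 : (⟨c, hc⟩ : ↥PG) = 1 := hf (by rw [← hβπ, hk', QuotientGroup.mk_one, map_one])
    rw [h1, orderOf_one] at hordc
    norm_num at hordc
  · rw [hπc, ← hβπ, hk']
    congr 1
    group

/-- The element, the conjugate `s`, and their coordinates. -/
structure Setup (z s : G) (Q Y : Subgroup G) (π : ↥(Subgroup.centralizer ({z} : Set G)) →* Spor.Co1)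
    (θ : leechLattice → G) (b : G) : Prop where
  data : CentData z Q π θ b 3 12 tt rv
  ne : s ≠ z
  cls : Cls z θ s (eightVec none)
  eqY : Y = Subgroup.zpowers b
  exch : ∃ n : G, n * b = b * n ∧ n * z * n⁻¹ = s

theorem inv_auto : ∃ g : Co0, g * tt * g⁻¹ = tt ^ 2 := by
  have e := eq_of_eqW auto_check
  rw [wordEl, wordEl_single, wordEl, wordEl_replicate] at e
  exact ⟨_, mul_inv_eq_iff_eq_mul.2 e⟩

theorem pow_mod {M : Type*} [Monoid M] {x : M} (h : x ^ 3 = 1) (n : ℕ) : x ^ n = x ^ (n % 3) := by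
  conv_lhs => rw [← Nat.div_add_mod n 3, pow_add, pow_mul, h, one_pow, one_mul]

theorem exists_setup [Finite G] {z : G} {Q : Subgroup ↥(Subgroup.centralizer ({z} : Set G))} [Q.Normal]
    (hM : Cfsg.IsOfMonsterType z Q) {s : G}
    (hsQ : ∃ hsc : s ∈ Subgroup.centralizer ({z} : Set G), (⟨s, hsc⟩ : Subgroup.centralizer ({z} : Set G)) ∈ Q)
    (hs : IsConj z s) (hs1 : s ≠ z) {Y : Subgroup G} (hY : Y ≤ Subgroup.centralizer ({z, s} : Set G))
    (hY3 : Nat.card Y = 3)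
    (hc : ∃ P : Sylow 3 ↥(Subgroup.centralizer ({z, s} : Set G)),
      Y.subgroupOf (Subgroup.centralizer ({z, s} : Set G)) ≤
        (Subgroup.center ↥(P : Subgroup ↥(Subgroup.centralizer ({z, s} : Set G)))).map
          (P : Subgroup ↥(Subgroup.centralizer ({z, s} : Set G))).subtype) :
    ∃ (Q' : Subgroup G) (π : ↥(Subgroup.centralizer ({z} : Set G)) →* Spor.Co1) (θ : leechLattice → G) (b : G),
      Setup z s Q' Y π θ b := by
  classical
  haveI : Fact (Nat.Prime 3) := ⟨Nat.prime_three⟩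
  obtain ⟨e, θ₀, H₀⟩ := of_monsterType hM
  have hsQ' := mem_map_of_exists hsQ
  obtain ⟨π₁, θ₁, H₁, hc₁⟩ := normal_frame H₀ hsQ' hs hs1
  set L := Subgroup.centralizer ({z, s} : Set G) with hL
  obtain ⟨P, hP⟩ := hc
  have hLz : L ≤ Subgroup.centralizer ({z} : Set G) := by rw [hL, pair_centralizer]; exact inf_le_left
  have hLf := card_L_three' H₁ hsQ' hs hs1 hc₁
  set PG : Subgroup G := (P : Subgroup ↥L).map L.subtype with hPG
  have hPL : PG ≤ L := Subgroup.map_subtype_le _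
  have hP27 : Nat.card PG = 27 := by
    rw [hPG, Subgroup.card_map_of_injective L.subtype_injective, P.card_eq_multiplicity, hLf]; norm_num
  obtain ⟨y, hyY, hy1⟩ : ∃ y ∈ Y, y ≠ 1 := by
    by_contra h
    push Not at h
    have : Nat.card Y = 1 := Subgroup.card_eq_one.2 ((Subgroup.eq_bot_iff_forall Y).2 h)
    omega
  have hord : orderOf y = 3 :=
    ((Nat.dvd_prime Nat.prime_three).1 (hY3 ▸ Subgroup.orderOf_dvd_natCard Y hyY)).resolve_left fun e =>
      hy1 (orderOf_eq_one_iff.1 e)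
  obtain ⟨yP, hyPc, hyPe⟩ := hP (show (⟨y, hY hyY⟩ : ↥L) ∈ Y.subgroupOf L from hyY)
  have hyPG : y ∈ PG := ⟨(yP : ↥L), yP.2, congrArg Subtype.val hyPe⟩
  have hycen : ∀ q ∈ PG, q * y = y * q := by
    rintro q ⟨qL, hq, rfl⟩
    have h := congrArg (fun a : ↥(P : Subgroup ↥L) => ((a : ↥L) : G)) (Subgroup.mem_center_iff.1 hyPc ⟨qL, hq⟩)
    simp only [Subgroup.coe_mul, show ((yP : ↥L) : G) = y from congrArg Subtype.val hyPe] at h
    exact h
  obtain ⟨g, hgm, hgc⟩ := exists_normal_central H₁ hsQ' hs hs1 hc₁ hPL hP27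
  obtain ⟨k, hk0, hπy⟩ := hgc y hyPG hord hycen (hLz (hY hyY))
  have H := twist H₁ g
  set π := twistHom π₁ g with hπdef
  have hcls : Cls z (fun v => θ₁ (g • v)) s (eightVec none) := H₁.cls_of_cong hc₁ (by
    have := hgm
    rw [← classStab_eightVec, mem_classStab] at this
    exact this.symm)
  set b := y ^ k with hb
  have hbord : orderOf b = 3 := by
    rw [hb, Nat.Coprime.orderOf_pow, hord]
    rw [hord]
    exact (Nat.prime_three.coprime_iff_not_dvd).2 fun h => hk0 (Nat.mod_eq_zero_of_dvd h)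
  have hbY : Y = Subgroup.zpowers b := (Subgroup.eq_of_le_of_card_ge
    ((Subgroup.zpowers_le).2 (pow_mem hyY k)) (by rw [Nat.card_zpowers, hY3, hbord])).symm
  have hk2 : k * k % 3 = 1 := by
    have := Nat.mod_lt k (show 3 > 0 by norm_num)
    rw [Nat.mul_mod]
    interval_cases k % 3 <;> simp at hk0 ⊢
  have hbz : b ∈ Subgroup.centralizer ({z} : Set G) := pow_mem (hLz (hY hyY)) k
  have hπb : π ⟨b, hbz⟩ = (QuotientGroup.mk tt : Spor.Co1) := by
    rw [hπdef, twistHom_apply, show (⟨b, hbz⟩ : ↥(Subgroup.centralizer ({z} : Set G))) =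
      ⟨y, hLz (hY hyY)⟩ ^ k from rfl, map_pow, hπy, ← QuotientGroup.mk_pow, conj_pow, ← pow_mul,
      pow_mod fixed.pow, hk2, pow_one]
  have D : CentData z _ π (fun v => θ₁ (g • v)) b 3 12 tt rv :=
    ⟨H, fixed, Nat.prime_three, by norm_num, hbord, hbz, hπb⟩
  refine ⟨_, π, _, b, D, hs1, hcls, hbY, ?_⟩
  have hPGp : Nat.card PG = 3 ^ (Nat.card ↥(Subgroup.centralizer ({z, s} : Set G))).factorization 3 := by
    rw [hP27, hLf]; norm_num
  obtain ⟨n₀, hn₀, hn₀z, -⟩ := exists_swap H₁ hsQ' hs hs1 hc₁ 3 hPL hPGp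
  have hbPG : b ∈ PG := pow_mem hyPG k
  have hbcen : ∀ q ∈ PG, q * b = b * q := fun q hq =>
    (Commute.pow_right (show Commute q y from hycen q hq) k).eq
  set c := n₀ * b * n₀⁻¹ with hc
  have hcPG : c ∈ PG := (Subgroup.mem_normalizer_iff.1 hn₀ b).1 hbPG
  have hccen : ∀ q ∈ PG, q * c = c * q := by
    intro q hq
    have hq' : n₀⁻¹ * q * n₀ ∈ PG := by
      refine (Subgroup.mem_normalizer_iff.1 hn₀ _).2 ?_
      rwa [show n₀ * (n₀⁻¹ * q * n₀) * n₀⁻¹ = q by group]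
    calc q * c = n₀ * (n₀⁻¹ * q * n₀ * b) * n₀⁻¹ := by rw [hc]; group
      _ = n₀ * (b * (n₀⁻¹ * q * n₀)) * n₀⁻¹ := by rw [hbcen _ hq']
      _ = c * q := by rw [hc]; group
  have hcord : orderOf c = 3 := (MulEquiv.orderOf_eq (MulAut.conj n₀) b).trans hbord
  obtain ⟨j, hj0, hπc⟩ := hgc c hcPG hcord hccen (hLz (hPL hcPG))
  have hπc' : π ⟨c, hLz (hPL hcPG)⟩ = (QuotientGroup.mk (tt ^ j) : Spor.Co1) := by
    rw [hπdef, twistHom_apply, hπc]
  have hcb : c = b ^ j := by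
    have hd : c * (b ^ j)⁻¹ ∈ _ := (H.ker ⟨_, mul_mem (hLz (hPL hcPG)) (inv_mem (pow_mem hbz j))⟩).1 (by
      rw [show (⟨c * (b ^ j)⁻¹, _⟩ : ↥(Subgroup.centralizer ({z} : Set G))) =
        ⟨c, hLz (hPL hcPG)⟩ * ⟨b ^ j, pow_mem hbz j⟩⁻¹ from rfl, map_mul, map_inv, hπc', D.proj_pow, mul_inv_cancel])
    obtain ⟨m, hm⟩ := H.S.two ⟨_, hd⟩
    have hm' : (c * (b ^ j)⁻¹) ^ 2 ^ m = 1 := congrArg Subtype.val hm
    have h27 : orderOf (c * (b ^ j)⁻¹) ∣ 27 :=
      hP27 ▸ Subgroup.orderOf_dvd_natCard PG (mul_mem hcPG (inv_mem (pow_mem hbPG j)))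
    exact mul_inv_eq_one.1 (orderOf_eq_one_iff.1 (Nat.eq_one_of_dvd_coprimes (a := 2 ^ m) (b := 27)
      (Nat.Coprime.pow_left _ (by norm_num)) (orderOf_dvd_of_pow_eq_one hm') h27))
  have hj : j % 3 = 1 ∨ j % 3 = 2 := by omega
  rcases hj with hj | hj
  · refine ⟨n₀, ?_, hn₀z⟩
    rw [← mul_inv_eq_iff_eq_mul, ← hc, hcb, pow_mod D.bp, hj, pow_one]
  · obtain ⟨a, ha⟩ := inv_auto
    obtain ⟨m, hm, -, hmb⟩ := D.lift ha
    refine ⟨n₀ * m, ?_, ?_⟩
    · rw [← mul_inv_eq_iff_eq_mul, show n₀ * m * b * (n₀ * m)⁻¹ = n₀ * (m * b * m⁻¹) * n₀⁻¹ by group, hmb,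
        ← conj_pow, ← hc, hcb, ← pow_mul, pow_mod D.bp, Nat.mul_mod, hj]
      exact pow_one b
    · have hmz := Subgroup.mem_centralizer_singleton_iff.1 hm
      rw [show n₀ * m * z * (n₀ * m)⁻¹ = n₀ * (m * z * m⁻¹) * n₀⁻¹ by group,
        hmz, mul_inv_cancel_right, hn₀z]

namespace Setup

variable {z s : G} {Q Y : Subgroup G} {π : ↥(Subgroup.centralizer ({z} : Set G)) →* Spor.Co1}
  {θ : leechLattice → G} {b : G} (S : Setup z s Q Y π θ b)
include S

theorem s_mem : s ∈ S.data.CQ :=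
  S.data.cls_rv_mem (k := 1) (by norm_num) (S.data.hyp.cls_of_cong S.cls rv_one_cong.symm)

end Setup

end CfsgLib.MonsterType.Tri
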