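import Cfsg.Agent.Lib.Leech.Triangle.U43Model
import Cfsg.Agent.Lib.Leech.Triangle.U43Cert
import Cfsg.Agent.Lib.Comp.PermChain
import Cfsg.Agent.Lib.Classical.Herm.Apps

/-! The two certified permutations of 112 letters generate a copy of `PSU₄(3)`: they are the actions on the
lines of the elements acting on the 280 isotropic points as two generators of `SU₄(3)`. -/

set_option autoImplicit false

namespace CfsgLib.MonsterType.Tri

open Cfsg CfsgLib CfsgLib.CosetEnum
open CfsgLib.Leech.Triangle

/-- A point of a line. -/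
noncomputable def linePt (i k : ℕ) : ℕ := Nat.mod (Nat.shiftRight (U43.incT.get 100 i) (10 * k)) 1024

/-- The points of a line, as a mask. -/
noncomputable def lineMask (i : ℕ) : ℕ := (List.range 10).foldl (fun a k => a ||| 2 ^ linePt i k) 0

/-- The line and the point are incident. -/
def OnLine (i : Fin 112) (p : Fin 280) : Prop := ∃ k < 10, linePt i k = p.1

theorem lines_check : (((List.range 112).all fun i => (List.range 10).all fun k => Nat.blt (linePt i k) 280) &&
    ((List.range 2).all fun j => Comp.PermCode.okb 112 (U43.u43Gens.getD j 0) &&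
      (List.range 112).all fun i => (List.range 10).all fun k =>
        (List.range 10).any fun k' => Nat.beq (linePt (Comp.PermCode.get (U43.u43Gens.getD j 0) i) k')
          (act U43.hTable (j + 1) (linePt i k)))) = true := by
  decide +kernel

theorem sep_check : ((List.range 112).all fun i => (List.range 112).all fun i' =>
    Nat.beq i i' || !(Nat.beq (lineMask i &&& lineMask i') (lineMask i))) = true := by
  decide +kernel

theorem wit_check : ((List.range 280).all fun p =>
    let w := U43.witT.get 20 p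
    Nat.blt (Nat.mod w 1024) 112 && Nat.blt (Nat.shiftRight w 10) 112 &&
      Nat.beq (lineMask (Nat.mod w 1024) &&& lineMask (Nat.shiftRight w 10)) (2 ^ p)) = true := by
  decide +kernel

theorem testBit_lineMask (i p : ℕ) : (lineMask i).testBit p = true ↔ ∃ k < 10, linePt i k = p := by
  have h : ∀ (l : List ℕ) (a : ℕ), (l.foldl (fun a k => a ||| 2 ^ linePt i k) a).testBit p = true ↔
      a.testBit p = true ∨ ∃ k ∈ l, linePt i k = p := by
    intro l
    induction l with
    | nil => simp
    | cons x l ih =>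
      intro a
      rw [List.foldl_cons, ih, Nat.testBit_or, Bool.or_eq_true, Nat.testBit_two_pow, decide_eq_true_eq]
      simp only [List.mem_cons, exists_eq_or_imp]
      tauto
  rw [lineMask, h]
  simp

/-- A permutation of the lines and one of the points preserving incidence. -/
def Compat (g : Equiv.Perm (Fin 112) × Equiv.Perm (Fin 280)) : Prop :=
  ∀ i p, OnLine i p → OnLine (g.1 i) (g.2 p)

theorem compat_mul {g h : Equiv.Perm (Fin 112) × Equiv.Perm (Fin 280)} (hg : Compat g) (hh : Compat h) :
    Compat (g * h) := fun i p hp => hg _ _ (hh i p hp)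

theorem compat_pow {g : Equiv.Perm (Fin 112) × Equiv.Perm (Fin 280)} (hg : Compat g) : ∀ n : ℕ, Compat (g ^ n)
  | 0 => fun i p hp => hp
  | n + 1 => by rw [pow_succ]; exact compat_mul (compat_pow hg n) hg

/-- The compatible pairs. -/
def compatSub : Subgroup (Equiv.Perm (Fin 112) × Equiv.Perm (Fin 280)) where
  carrier := {g | Compat g}
  one_mem' := fun i p hp => hp
  mul_mem' := fun hg hh => compat_mul hg hh
  inv_mem' := fun {g} hg => by
    show Compat g⁻¹
    have h := compat_pow hg (orderOf g - 1)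
    rwa [show g ^ (orderOf g - 1) = g⁻¹ from (inv_eq_of_mul_eq_one_right (by
      rw [← pow_succ', Nat.sub_add_cancel (orderOf_pos g), pow_orderOf_eq_one])).symm] at h

theorem compat_one_of_fst {g : Equiv.Perm (Fin 112) × Equiv.Perm (Fin 280)} (hg : Compat g) (h1 : g.1 = 1) :
    g = 1 := by
  refine Prod.ext h1 (Equiv.ext fun p => ?_)
  have hw := List.all_eq_true.1 wit_check p.1 (List.mem_range.2 p.2)
  simp only [Bool.and_eq_true, Nat.blt_eq] at hw
  obtain ⟨⟨ha, hb⟩, hm⟩ := hw
  have hm' := Nat.eq_of_beq_eq_true hm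
  have hp : ∀ q : Fin 280, OnLine ⟨_, ha⟩ q → OnLine ⟨_, hb⟩ q → q = p := by
    intro q hqa hqb
    have h : (lineMask (Nat.mod (U43.witT.get 20 p.1) 1024) &&&
        lineMask (Nat.shiftRight (U43.witT.get 20 p.1) 10)).testBit q.1 = true := by
      rw [Nat.testBit_and, Bool.and_eq_true, testBit_lineMask, testBit_lineMask]
      exact ⟨hqa, hqb⟩
    rw [hm', Nat.testBit_two_pow, decide_eq_true_eq] at h
    exact Fin.ext h.symm
  have hself : OnLine ⟨_, ha⟩ p ∧ OnLine ⟨_, hb⟩ p := by
    have h : (lineMask (Nat.mod (U43.witT.get 20 p.1) 1024) &&&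
        lineMask (Nat.shiftRight (U43.witT.get 20 p.1) 10)).testBit p.1 = true := by
      rw [hm', Nat.testBit_two_pow]; simp
    rw [Nat.testBit_and, Bool.and_eq_true, testBit_lineMask, testBit_lineMask] at h
    exact h
  have h2 := hg _ _ hself.1
  have h3 := hg _ _ hself.2
  rw [h1] at h2 h3
  exact hp _ h2 h3

theorem compat_one_of_snd {g : Equiv.Perm (Fin 112) × Equiv.Perm (Fin 280)} (hg : Compat g) (h1 : g.2 = 1) :
    g = 1 := by
  refine Prod.ext (Equiv.ext fun i => ?_) h1
  have hl := lines_check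
  simp only [Bool.and_eq_true, List.all_eq_true, List.mem_range, Nat.blt_eq] at hl
  have hs := List.all_eq_true.1 (List.all_eq_true.1 sep_check i.1 (List.mem_range.2 i.2)) (g.1 i).1
    (List.mem_range.2 (g.1 i).2)
  rw [Bool.or_eq_true] at hs
  rcases hs with e | e
  · exact (Fin.ext (Nat.eq_of_beq_eq_true e)).symm
  exfalso
  rw [Bool.not_eq_true'] at e
  refine Bool.eq_false_iff.1 e ?_
  rw [Nat.beq_eq]
  refine Nat.eq_of_testBit_eq fun p => ?_
  rw [Nat.testBit_and]
  cases hb : (lineMask i.1).testBit p with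
  | false => rfl
  | true =>
    obtain ⟨k, hk, rfl⟩ := (testBit_lineMask _ _).1 hb
    have h := hg i ⟨_, hl.1 i.1 i.2 k hk⟩ ⟨k, hk, rfl⟩
    rw [h1] at h
    rw [show (lineMask (g.1 i).1).testBit (linePt i.1 k) = true from (testBit_lineMask _ _).2 h]
    rfl

theorem span_equiv : Nonempty (↥(Comp.PermCode.span 112 U43.u43Gens) ≃* Cfsg.PSU 4 K9 3) := by
  classical
  let gen : Fin 2 → Equiv.Perm (Fin 112) × Equiv.Perm (Fin 280) := fun j =>
    (Comp.PermCode.val 112 (U43.u43Gens.getD j.1 0), U43.ρ (U43.u j.succ))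
  set W := Subgroup.closure (Set.range gen) with hW
  have hWc : W ≤ compatSub := by
    refine (Subgroup.closure_le _).2 ?_
    rintro _ ⟨j, rfl⟩ i p ⟨k, hk, hkp⟩
    have hl := lines_check
    simp only [Bool.and_eq_true, List.all_eq_true, List.mem_range, Nat.blt_eq, List.any_eq_true] at hl
    obtain ⟨hok, hinc⟩ := hl.2 j.1 j.2
    obtain ⟨k', hk', he⟩ := hinc i.1 i.2 k hk
    refine ⟨k', hk', ?_⟩
    show linePt ((Comp.PermCode.val 112 (U43.u43Gens.getD j.1 0) i : Fin 112) : ℕ) k' =
      ((U43.ρ (U43.u j.succ) p : Fin 280) : ℕ)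
    rw [Comp.PermCode.val_apply (Comp.PermCode.ok_of_okb hok), U43.ρ_u, Nat.eq_of_beq_eq_true he, hkp]
    rfl
  let f₁ : ↥W →* Equiv.Perm (Fin 112) := (MonoidHom.fst _ _).comp W.subtype
  let f₂ : ↥W →* Equiv.Perm (Fin 280) := (MonoidHom.snd _ _).comp W.subtype
  have h1 : Function.Injective f₁ := by
    rw [injective_iff_map_eq_one]
    exact fun x hx => Subtype.ext (compat_one_of_fst (hWc x.2) hx)
  have h2 : Function.Injective f₂ := by
    rw [injective_iff_map_eq_one]
    exact fun x hx => Subtype.ext (compat_one_of_snd (hWc x.2) hx)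
  have hr1 : f₁.range = Comp.PermCode.span 112 U43.u43Gens := by
    rw [MonoidHom.range_comp, Subgroup.range_subtype, hW, MonoidHom.map_closure, Comp.PermCode.span]
    congr 1
    ext x
    constructor
    · rintro ⟨_, ⟨j, rfl⟩, rfl⟩
      refine ⟨U43.u43Gens.getD j.1 0, ?_, rfl⟩
      rw [List.getD_eq_getElem _ _ (show j.1 < U43.u43Gens.length from j.2)]
      exact List.getElem_mem _
    · rintro ⟨s, hs, rfl⟩
      obtain ⟨k, hk, rfl⟩ := List.getElem_of_mem hs
      refine ⟨_, ⟨⟨k, hk⟩, rfl⟩, ?_⟩
      show Comp.PermCode.val 112 (U43.u43Gens.getD k 0) = _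
      rw [List.getD_eq_getElem _ _ hk]
  have hr2 : f₂.range ≤ U43.ρbar.range := by
    rw [MonoidHom.range_comp, Subgroup.range_subtype, hW, MonoidHom.map_closure, Subgroup.closure_le,
      U43.range_ρbar]
    rintro _ ⟨_, ⟨j, rfl⟩, rfl⟩
    exact ⟨U43.u j.succ, rfl⟩
  have hc1 : Nat.card f₁.range = 3265920 := by rw [hr1]; exact U43.u43_card
  have hc2 : Nat.card f₂.range = 3265920 := by
    rw [← hc1, ← Nat.card_congr (MonoidHom.ofInjective h1).toEquiv,
      ← Nat.card_congr (MonoidHom.ofInjective h2).toEquiv]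
  haveI : Finite (Cfsg.PSU 4 K9 3) := Nat.finite_of_card_ne_zero (by rw [U43.card_PSU]; norm_num)
  have hle : Nat.card U43.ρbar.range ≤ 3265920 := by
    rw [U43.range_ρbar]; exact U43.card_range_le
  have heq : f₂.range = U43.ρbar.range := Subgroup.eq_of_le_of_card_ge hr2 (by omega)
  have hb : Function.Bijective U43.ρbar.rangeRestrict :=
    (Nat.bijective_iff_surjective_and_card _).2 ⟨U43.ρbar.rangeRestrict_surjective, by
      rw [U43.card_PSU, ← heq, hc2]⟩
  exact ⟨((MulEquiv.subgroupCongr hr1).symm.trans (MonoidHom.ofInjective h1).symm).trans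
    ((MonoidHom.ofInjective h2).trans ((MulEquiv.subgroupCongr heq).trans (MulEquiv.ofBijective _ hb).symm))⟩

theorem psu_simple : IsSimpleGroup (Cfsg.PSU 4 K9 3) :=
  CfsgLib.Classical.Herm.isSimpleGroup_psu U43.hF (by omega) (by omega)

end CfsgLib.MonsterType.Tri
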