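import Cfsg.Agent.Lib.MonsterType.TriMono
import Cfsg.Agent.Lib.MonsterType.TriCheckBlocks
import Cfsg.Agent.Lib.MonsterType.TriSimple
import Cfsg.Agent.Lib.MonsterType.Quot

/-! The action of the centralizer of the element of order three on its fixed classes is that of
`3.U₄(3).2`. -/

set_option autoImplicit false
set_option linter.style.haveILetI false

namespace CfsgLib.MonsterType.Tri

open Cfsg CfsgLib CfsgLib.Leech CfsgLib.MonsterQ CfsgLib.MonsterType
open CfsgLib.Leech.Orbits (vecOf)

theorem exists_idx (g : K) (k : Fin 4096) : ∃ l : Fin 4096, Cong ((g : Co0) • rv k) (rv l) := by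
  obtain ⟨l, hl, hc⟩ := fixed.cover ((g : Co0) • rv k) (by
    rw [← mul_smul, ← K_comm g, mul_smul]; exact (fixed.fix k k.2).smul _)
  exact ⟨⟨l, hl⟩, hc⟩

/-- The image of a class. -/
noncomputable def idx (g : K) (k : Fin 4096) : Fin 4096 := (exists_idx g k).choose

theorem idx_eq {g : K} {k l : Fin 4096} (h : Cong ((g : Co0) • rv k) (rv l)) : idx g k = l :=
  Fin.ext (fixed.cong_inj (idx g k).2 l.2 ((exists_idx g k).choose_spec.symm.trans h))

theorem idx_spec (g : K) (k : Fin 4096) : Cong ((g : Co0) • rv k) (rv (idx g k)) := (exists_idx g k).choose_spec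

theorem idx_one (k : Fin 4096) : idx 1 k = k :=
  idx_eq (by rw [OneMemClass.coe_one, one_smul]; exact Cong.refl _)

theorem idx_mul (g h : K) (k : Fin 4096) : idx (g * h) k = idx g (idx h k) :=
  idx_eq (by rw [Subgroup.coe_mul, mul_smul]; exact ((idx_spec h k).smul _).trans (idx_spec g _))

/-- The action on the fixed classes. -/
noncomputable def psi0 : K →* Equiv.Perm (Fin 4096) :=
  MonoidHom.mk' (fun g => ⟨idx g, idx g⁻¹,
      fun k => by rw [← idx_mul, inv_mul_cancel, idx_one],
      fun k => by rw [← idx_mul, mul_inv_cancel, idx_one]⟩)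
    fun g h => Equiv.ext (idx_mul g h)

/-- The number of the image of a class. -/
noncomputable def act (g : K) (k : ℕ) : ℕ := if h : k < 4096 then (psi0 g ⟨k, h⟩ : ℕ) else k

theorem act_spec (g : K) {k : ℕ} (hk : k < 4096) :
    act g k < 4096 ∧ Cong ((g : Co0) • rv k) (rv (act g k)) := by
  rw [act, dif_pos hk]
  exact ⟨(psi0 g ⟨k, hk⟩).2, idx_spec g ⟨k, hk⟩⟩

theorem act_eq {g : K} {k l : ℕ} (hk : k < 4096) (hl : l < 4096) (h : Cong ((g : Co0) • rv k) (rv l)) :
    act g k = l :=
  fixed.cong_inj (act_spec g hk).1 hl ((act_spec g hk).2.symm.trans h)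

theorem act_one {k : ℕ} (hk : k < 4096) : act 1 k = k :=
  act_eq hk hk (by rw [OneMemClass.coe_one, one_smul]; exact Cong.refl _)

theorem act_mul (g h : K) {k : ℕ} (hk : k < 4096) : act (g * h) k = act g (act h k) :=
  act_eq hk (act_spec g (act_spec h hk).1).1 (by
    rw [Subgroup.coe_mul, mul_smul]
    exact ((act_spec h hk).2.smul _).trans (act_spec g (act_spec h hk).1).2)

theorem act_xor (g : K) {k l : ℕ} (hk : k < 4096) (hl : l < 4096) : act g (k ^^^ l) = act g k ^^^ act g l := by
  have hkl : k ^^^ l < 2 ^ 12 := Nat.xor_lt_two_pow hk hl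
  obtain ⟨h1, h2⟩ := act_spec g hk
  obtain ⟨h3, h4⟩ := act_spec g hl
  refine act_eq hkl (Nat.xor_lt_two_pow (n := 12) h1 h3) ?_
  refine ((fixed.add k hk l hl).symm.smul _).trans ?_
  rw [smul_add']
  exact (cong_add h2 h4).trans (fixed.add _ h1 _ h3)

theorem act_zero (g : K) : act g 0 = 0 := by
  have h := act_xor g (show (0 : ℕ) < 4096 by norm_num) (show (0 : ℕ) < 4096 by norm_num)
  rwa [Nat.xor_zero, Nat.xor_self] at h

theorem ext_pow {g h : K} (e : ∀ i < 12, act g (2 ^ i) = act h (2 ^ i)) : psi0 g = psi0 h := by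
  suffices ∀ n ≤ 12, ∀ k < 2 ^ n, act g k = act h k by
    refine Equiv.ext fun k => Fin.ext ?_
    have := this 12 le_rfl k k.2
    simpa [act, k.2] using this
  intro n
  induction n with
  | zero =>
    intro _ k hk
    obtain rfl : k = 0 := by simpa using hk
    rw [act_zero, act_zero]
  | succ n ih =>
    intro hn k hk
    by_cases hkn : k < 2 ^ n
    · exact ih (by omega) k hkn
    · have h1 : k ^^^ 2 ^ n < 2 ^ n := by
        refine Nat.lt_pow_two_of_testBit _ fun i hi => ?_
        rw [Nat.testBit_xor, Nat.testBit_two_pow]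
        rcases Nat.lt_or_eq_of_le hi with hlt | rfl
        · rw [Nat.testBit_lt_two_pow (hk.trans_le (Nat.pow_le_pow_right (by norm_num) (by omega)))]
          simp [(Nat.ne_of_lt hlt)]
        · obtain ⟨k', hk', rfl⟩ : ∃ k', k' < 2 ^ n ∧ k = 2 ^ n + k' :=
            ⟨k - 2 ^ n, by rw [pow_succ] at hk; omega, by omega⟩
          simp [Nat.testBit_two_pow_add_eq, Nat.testBit_lt_two_pow hk']
      have hb : (2 : ℕ) ^ n < 4096 := (Nat.pow_lt_pow_right (by norm_num) (show n < 12 by omega))
      have h2 : k = (k ^^^ 2 ^ n) ^^^ 2 ^ n := by rw [Nat.xor_assoc, Nat.xor_self, Nat.xor_zero]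
      have h3 : k ^^^ 2 ^ n < 4096 := h1.trans hb
      rw [h2, act_xor g h3 hb, act_xor h h3 hb, e n (by omega), ih (by omega) _ h1]

theorem act_imgK (g : K) {A : List ℕ} : ∀ (n c : ℕ), (∀ i < n, A.getD i 0 < 4096) →
    imgK A n c < 4096 ∧ act g (imgK A n c) = imgK (A.map (act g)) n c
  | 0, c, _ => ⟨by simp [imgK], by simp [imgK, act_zero]⟩
  | n + 1, c, h => by
    obtain ⟨h1, h2⟩ := act_imgK g n c fun i hi => h i (by omega)
    have hmap : (A.map (act g)).getD n 0 = act g (A.getD n 0) := by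
      rcases Nat.lt_or_ge n A.length with hl | hl
      · simp [List.getD_eq_getElem, hl]
      · simp [hl, act_zero]
    cases hb : c.testBit n with
    | false => simp only [imgK, hb, cond_false]; exact ⟨h1, h2⟩
    | true =>
      simp only [imgK, hb, cond_true]
      have h3 := h n (by omega)
      exact ⟨Nat.xor_lt_two_pow (n := 12) h1 h3, by rw [act_xor g h1 h3, h2, hmap]⟩

/-- A product of generators, in the centralizer. -/
noncomputable def kEl (w : List ℕ) : K :=
  if h : ∀ j ∈ w, j < 10 then ⟨prodEl w, H_le (prodEl_mem h)⟩ else 1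

theorem act_kEl {w : List ℕ} (hw : ∀ j ∈ w, j < 10) {k : ℕ} (hk : k < 4096) : act (kEl w) k = follow w k := by
  obtain ⟨h1, h2⟩ := prodEl_act hw hk
  refine act_eq hk h1 ?_
  rw [kEl, dif_pos hw]
  exact h2

/-- The image of the action. -/
abbrev Γ : Type := ↥psi0.range

/-- The action, onto its image. -/
noncomputable def psi : K →* Γ := psi0.rangeRestrict

theorem psi_surj : Function.Surjective psi := psi0.rangeRestrict_surjective

theorem psi_eq_iff {g h : K} : psi g = psi h ↔ psi0 g = psi0 h :=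
  ⟨fun e => congrArg Subtype.val e, fun e => Subtype.ext e⟩

theorem psi_one_act {g : K} (h : psi g = 1) {k : ℕ} (hk : k < 4096) : act g k = k := by
  have h' : psi0 g = 1 := congrArg Subtype.val h
  rw [act, dif_pos hk, h']; rfl

theorem psi_faith (g : K) (hg : ∀ k < 2 ^ 12, Cong ((g : Co0) • rv k) (rv k)) : psi g = 1 :=
  Subtype.ext (Equiv.ext fun k => idx_eq (hg k k.2))

/-- Two fixed points. -/
def pairRow (p q : ℕ) : List ℤ := (List.range 24).map fun i => bif Nat.beq i p || Nat.beq i q then 4 else 0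

theorem pair_check : ∀ p ∈ TriData.fixPts, ∀ q ∈ TriData.fixPts, p ≠ q →
    leechL (pairRow p q) && Leech.Orbits.eqB (vecOf (monoL TriData.tcode 0 (pairRow p q))) (vecOf (pairRow p q)) &&
      decide (((List.range 24).map fun i => (pairRow p q).getD i 0 * (pairRow p q).getD i 0).sum = 32) = true := by
  decide +kernel

theorem others_check : ∀ p ∈ TriData.fixPts, ∃ q ∈ TriData.fixPts, ∃ r ∈ TriData.fixPts, p ≠ q ∧ p ≠ r ∧ q ≠ r := by
  decide +kernel

theorem sign_check : ∀ m < 64, (∀ i < 12, follow (signWord m 6) (2 ^ i) = 2 ^ i) →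
    Golay.comb (imgK TriData.signGens 6 m) = 0 ∨ Golay.comb (imgK TriData.signGens 6 m) = 16777215 := by
  decide +kernel

theorem pair_mem {g : K} (hg : psi g = 1) {τ : Equiv.Perm GolayPt} {hτ : τ ∈ M24} {c : GolayPt → ZMod 2}
    {hc : c ∈ golayCode} (he : (g : Co0) = monoEl τ hτ c hc) {p q : ℕ} (hp : p ∈ TriData.fixPts)
    (hq : q ∈ TriData.fixPts) (hne : p ≠ q) : τ (Golay.pt p) = Golay.pt p ∨ τ (Golay.pt p) = Golay.pt q := by
  have h := pair_check p hp q hq hne
  simp only [Bool.and_eq_true, decide_eq_true_eq] at h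
  obtain ⟨⟨hl, hf⟩, hn⟩ := h
  set v := latOf (pairRow p q) with hv
  have hco : (v : GolayPt → ℤ) = vecOf (pairRow p q) := coe_latOf (leechB_of_leechL hl)
  have htv : tt • v = v := Subtype.ext (by
    have hok : stepOk tS = true := okT_tcode
    rw [tt, coe_stepEl hok, hco, ← vecOf_stepL hok]
    exact Leech.Orbits.eq_of_eqB hf)
  obtain ⟨k, hk, hck⟩ := fixed.cover v (by rw [htv]; exact Cong.refl _)
  have hgk : Cong ((g : Co0) • rv k) (rv k) := by
    have h' := (act_spec g hk).2
    rwa [psi_one_act hg hk] at h'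
  have hgv : Cong ((g : Co0) • v) v := ((hck.smul _).trans hgk).trans hck.symm
  have h32 : sqNorm (v : GolayPt → ℤ) = 32 := by
    rw [sqNorm, hco, sum_vecOf _ (fun a => a ^ 2)]
    simp only [pow_two]
    exact hn
  have hval : (((g : Co0) • v : leechLattice) : GolayPt → ℤ) (Golay.pt p) ≠ 0 := by
    have h4 : vecOf (pairRow p q) (Golay.pt p) ≠ 0 := by
      rw [pairRow, vecOf_map_range, Golay.bit_pt (mem_fixPts.1 hp).1]
      simp
    rcases eq_or_neg_of_cong hgv (by rw [sqNorm_smul, h32]; norm_num) with e | e <;>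
      rw [e] <;> simp [hco, h4]
  rw [he, coe_monoEl_smul] at hval
  have h5 : vecOf (pairRow p q) (τ (Golay.pt p)) ≠ 0 := fun h0 => hval (by simp [monoFun, hco, h0])
  rw [pairRow, vecOf_map_range] at h5
  cases hb : Nat.beq (Golay.bit (τ (Golay.pt p))) p with
  | true => left; rw [← Golay.pt_bit (τ (Golay.pt p)), Nat.eq_of_beq_eq_true hb]
  | false =>
    cases hb' : Nat.beq (Golay.bit (τ (Golay.pt p))) q with
    | true => right; rw [← Golay.pt_bit (τ (Golay.pt p)), Nat.eq_of_beq_eq_true hb']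
    | false => simp [hb, hb'] at h5

theorem psi_ker (g : K) (hg : psi g = 1) : ∃ i : ℕ, (g : Co0) = tt ^ i ∨ (g : Co0) = tt ^ i * negEl := by
  have hm : (g : Co0) ∈ monoSub := by
    rw [← classStab_one, mem_classStab]
    have h := (act_spec g (show 1 < 4096 by norm_num)).2
    rwa [psi_one_act hg (by norm_num)] at h
  obtain ⟨τ, hτ, c, hc, he, hR, hcR⟩ := mono_comm hm (K_comm g)
  have hfixp : ∀ p ∈ TriData.fixPts, τ (Golay.pt p) = Golay.pt p := by
    intro p hp
    obtain ⟨q, hq, r, hr, hpq, hpr, hqr⟩ := others_check p hp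
    rcases pair_mem hg he hp hq hpq with e | e
    · exact e
    rcases pair_mem hg he hp hr hpr with e' | e'
    · exact e'
    · exact absurd (pt_inj (mem_fixPts.1 hq).1 (mem_fixPts.1 hr).1 (e.symm.trans e')) hqr
  obtain ⟨i, hi, rfl⟩ := resid hτ hR fun p hp => hfixp p (List.mem_of_mem_take hp)
  have htp : ∀ n : ℕ, tt ^ n = monoEl (R ^ n) (pow_mem R_mem n) 0 (zero_mem _) := by
    intro n
    induction n with
    | zero => rw [pow_zero, ← monoEl_one]; exact monoEl_congr (pow_zero R).symm rfl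
    | succ n ih =>
      rw [pow_succ, ih, tt_eq, monoEl_mul]
      exact monoEl_congr (pow_succ' R n).symm (by funext p; simp)
  have hsplit : (g : Co0) = monoEl 1 (one_mem _) c hc * tt ^ i := by
    rw [he, htp, monoEl_mul]
    exact monoEl_congr (mul_one _).symm (by funext p; simp)
  obtain ⟨x, hx, rfl⟩ := fixed_word hc hcR
  obtain ⟨m, hm64, hmx, hme⟩ := sign_spec hx
  rw [hme] at hsplit
  have hact : ∀ j < 12, follow (signWord m 6) (2 ^ j) = 2 ^ j := by
    intro j hj
    have hj' : 2 ^ j < 4096 := Nat.pow_lt_pow_right (by norm_num) (show j < 12 from hj)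
    obtain ⟨h1, h2⟩ := prodEl_act (signWord_lt m 6 le_rfl) hj'
    refine fixed.cong_inj h1 hj' (h2.symm.trans ?_)
    have h3 := (act_spec g hj').2
    rw [psi_one_act hg hj', hsplit, mul_smul] at h3
    exact ((fixed.pow_fix hj' i).smul _).symm.trans h3
  refine ⟨i, ?_⟩
  rcases sign_check m hm64 hact with e | e
  · left
    rw [hsplit, ← hme]
    conv_rhs => rw [← one_mul (tt ^ i)]
    congr 1
    rw [← monoEl_one]
    exact monoEl_congr rfl (by rw [← hmx, e]; funext p; simp [Golay.toWord])
  · right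
    rw [hsplit, ← hme, negEl_comm]
    congr 1
    rw [negEl_eq_monoEl]
    exact monoEl_congr rfl (by rw [← hmx, e, Golay.toWord_ones])

theorem members_lt {b k : ℕ} (hk : k ∈ members b) : k < 4096 := by
  obtain ⟨i, -, rfl⟩ := List.mem_map.1 hk
  exact Nat.mod_lt _ (by norm_num)

theorem members_blk (b : Fin 112) {k : ℕ} (hk : k ∈ members b) : blkAt k = b :=
  Nat.eq_of_beq_eq_true (List.all_eq_true.1 (List.all_eq_true.1 members_check b (List.mem_range.2 b.2)) k hk)

theorem mem_members {k : ℕ} (hk : k < 4096) (h : blkAt k < 112) : k ∈ members (blkAt k) := by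
  have h' := List.all_eq_true.1 blocks_check k (List.mem_range.2 hk)
  simp only [Bool.and_eq_true, Bool.or_eq_true, Bool.not_eq_true'] at h'
  rcases h'.2 with e | e
  · exact Bool.noConfusion (e.symm.trans (Nat.ble_eq_true_of_le h : Nat.blt (blkAt k) 112 = true))
  · simpa using e

theorem blk_none {k : ℕ} (hk : k < 4096) (h : ¬ blkAt k < 112) : blkAt k = 255 := by
  have h' := List.all_eq_true.1 blocks_check k (List.mem_range.2 hk)
  simp only [Bool.and_eq_true, Bool.or_eq_true, beq_iff_eq] at h'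
  rcases h'.1.2 with e | e
  · rw [e] at h'
    exact absurd (Nat.le_of_ble_eq_true h'.1.1.symm) h
  · exact Nat.eq_of_beq_eq_true e

/-- An element permutes the blocks as a permutation does. -/
def Maps (g : K) (σ : Equiv.Perm (Fin 112)) : Prop := ∀ b : Fin 112, ∀ k ∈ members b, blkAt (act g k) = σ b

theorem maps_one : Maps 1 1 := fun b k hk => by rw [act_one (members_lt hk), members_blk b hk]; rfl

theorem Maps.mul {g h : K} {σ τ : Equiv.Perm (Fin 112)} (hg : Maps g σ) (hh : Maps h τ) : Maps (g * h) (σ * τ) := by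
  intro b k hk
  have h1 := hh b k hk
  have h2 := mem_members (act_spec h (members_lt hk)).1 (by rw [h1]; exact (τ b).2)
  rw [h1] at h2
  rw [act_mul g h (members_lt hk)]
  exact hg _ _ h2

theorem Maps.unique {g : K} {σ τ : Equiv.Perm (Fin 112)} (hσ : Maps g σ) (hτ : Maps g τ) : σ = τ :=
  Equiv.ext fun b => Fin.ext (by
    have h : memAt b 0 ∈ members b := List.mem_map.2 ⟨0, by simp, rfl⟩
    rw [← hσ b _ h, hτ b _ h])

theorem gen_ok {j : ℕ} (hj : j < 10) : Comp.PermCode.Ok 112 (TriData.blockPerms.getD j 0) :=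
  Comp.PermCode.ok_of_okb (List.all_eq_true.1 perms_check j (List.mem_range.2 hj))

theorem gen_maps {j : ℕ} (hj : j < 10) :
    Maps ⟨gEl j, gEl_mem hj⟩ (Comp.PermCode.val 112 (TriData.blockPerms.getD j 0)) := by
  intro b k hk
  rw [act_eq (g := ⟨gEl j, gEl_mem hj⟩) (members_lt hk) (gEl_act hj (members_lt hk)).1 (gEl_act hj (members_lt hk)).2,
    gen_check hj b.2 hk, Comp.PermCode.val_apply (gen_ok hj)]

theorem exists_maps (g : K) : ∃ σ, Maps g σ := by
  suffices ∀ x ∈ H, ∀ hx : x ∈ K, ∃ σ, Maps ⟨x, hx⟩ σ from this _ (K_le_H g.2) g.2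
  intro x hx
  induction hx using Subgroup.closure_induction with
  | mem y hy => obtain ⟨j, rfl⟩ := hy; exact fun _ => ⟨_, gen_maps j.2⟩
  | one =>
    intro hh
    rw [show (⟨1, hh⟩ : K) = 1 from Subtype.ext rfl]
    exact ⟨1, maps_one⟩
  | mul a b ha hb iha ihb =>
    intro hh
    obtain ⟨σ, hσ⟩ := iha (H_le ha)
    obtain ⟨τ, hτ⟩ := ihb (H_le hb)
    rw [show (⟨a * b, hh⟩ : K) = ⟨a, H_le ha⟩ * ⟨b, H_le hb⟩ from Subtype.ext rfl]
    exact ⟨σ * τ, hσ.mul hτ⟩
  | inv a ha iha =>
    intro hh
    obtain ⟨σ, hσ⟩ := iha (H_le ha)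
    have hp : ∀ n : ℕ, Maps ((⟨a, H_le ha⟩ : K) ^ n) (σ ^ n) := by
      intro n
      induction n with
      | zero => rw [pow_zero, pow_zero]; exact maps_one
      | succ n ih => rw [pow_succ, pow_succ]; exact ih.mul hσ
    refine ⟨σ ^ (orderOf a - 1), ?_⟩
    have e : (⟨a⁻¹, hh⟩ : K) = (⟨a, H_le ha⟩ : K) ^ (orderOf a - 1) := Subtype.ext (by
      rw [SubgroupClass.coe_pow]
      exact inv_eq_of_mul_eq_one_right (by
        rw [← pow_succ', Nat.sub_add_cancel (orderOf_pos a), pow_orderOf_eq_one]))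
    rw [e]
    exact hp _

/-- The action on the blocks. -/
noncomputable def phi : K →* Equiv.Perm (Fin 112) :=
  MonoidHom.mk' (fun g => (exists_maps g).choose) fun g h =>
    (exists_maps (g * h)).choose_spec.unique ((exists_maps g).choose_spec.mul (exists_maps h).choose_spec)

theorem phi_maps (g : K) : Maps g (phi g) := (exists_maps g).choose_spec

theorem phi_of_psi {g : K} (hg : psi g = 1) : phi g = 1 :=
  (phi_maps g).unique fun b k hk => by rw [psi_one_act hg (members_lt hk), members_blk b hk]; rfl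

theorem phi_kEl {w : List ℕ} (hw : ∀ j ∈ w, j < 10) (b : Fin 112) : ((phi (kEl w) b : Fin 112) : ℕ) = evalB w b := by
  induction w generalizing b with
  | nil =>
    have e : kEl [] = 1 := Subtype.ext (by rw [kEl, dif_pos hw]; rfl)
    rw [e, map_one]; rfl
  | cons j w ih =>
    have hj := hw j List.mem_cons_self
    have hw' : ∀ i ∈ w, i < 10 := fun i hi => hw i (List.mem_cons_of_mem _ hi)
    have e : kEl (j :: w) = kEl w * ⟨gEl j, gEl_mem hj⟩ :=
      Subtype.ext (by rw [Subgroup.coe_mul, kEl, dif_pos hw, kEl, dif_pos hw']; rfl)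
    rw [e, map_mul, Equiv.Perm.mul_apply, evalB, (phi_maps _).unique (gen_maps hj), ih hw',
      Comp.PermCode.val_apply (gen_ok hj)]

/-- The action on the blocks, on the image. -/
noncomputable def phiBar : Γ →* Equiv.Perm (Fin 112) :=
  MonoidHom.mk' (fun y => phi (psi_surj y).choose) fun y y' => by
    show phi (psi_surj (y * y')).choose = phi (psi_surj y).choose * phi (psi_surj y').choose
    rw [← map_mul, ← mul_inv_eq_one, ← map_inv, ← map_mul]
    refine phi_of_psi ?_
    simp only [map_mul, map_inv, (psi_surj _).choose_spec, mul_inv_cancel]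

theorem phiBar_psi (g : K) : phiBar (psi g) = phi g := by
  show phi (psi_surj (psi g)).choose = phi g
  rw [← mul_inv_eq_one, ← map_inv, ← map_mul]
  refine phi_of_psi ?_
  simp only [map_mul, map_inv, (psi_surj _).choose_spec, mul_inv_cancel]

theorem search_sound {f : ℕ → ℕ} (hlin : ∀ a < 4096, ∀ b < 4096, f (a ^^^ b) = f a ^^^ f b)
    (hblk : ∀ a < 4096, blkAt (f a) = blkAt a) (hf : ∀ a < 4096, f a < 4096) :
    ∀ (rest done : List ℕ) (pairs : List (ℕ × ℕ)), search rest (done.map f).reverse pairs = true →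
      (∀ e ∈ pairs, e.1 < 4096 ∧ e.2 = f e.1) → (∀ x ∈ rest, x < 4096 ∧ blkAt x < 112) →
      (done ++ rest).map f = TriData.searchBasis ∨
      (done ++ rest).map f = TriData.searchBasis.map omK ∨
      (done ++ rest).map f = TriData.searchBasis.map fun x => omK (omK x)
  | [], done, pairs, h, _, _ => by
    simp only [search, List.any_cons, List.any_nil, Bool.or_false, Bool.or_eq_true, decide_eq_true_eq,
      List.reverse_reverse] at h
    rw [List.append_nil]
    rcases h with h | h | h
    exacts [Or.inl h.symm, Or.inr (Or.inl h.symm), Or.inr (Or.inr h.symm)]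
  | x :: rest, done, pairs, h, hp, hr => by
    obtain ⟨hx, hxb⟩ := hr x List.mem_cons_self
    have hy : f x ∈ members (blkAt x) := by
      have := mem_members (hf x hx) (by rw [hblk x hx]; exact hxb)
      rwa [hblk x hx] at this
    have hcomp : compatible x (f x) pairs = true := by
      refine List.all_eq_true.2 fun e he => ?_
      obtain ⟨h1, h2⟩ := hp e he
      rw [h2, ← hlin _ h1 _ hx, hblk _ (Nat.xor_lt_two_pow (n := 12) h1 hx)]
      exact Nat.beq_refl _
    rw [search, List.all_eq_true] at h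
    have h1 := h _ hy
    rw [hcomp, cond_true, show f x :: (done.map f).reverse = ((done ++ [x]).map f).reverse by simp] at h1
    have h2 := search_sound hlin hblk hf rest (done ++ [x]) _ h1 (fun e he => ?_)
      fun z hz => hr z (List.mem_cons_of_mem _ hz)
    · rwa [List.append_assoc, List.singleton_append] at h2
    · rw [List.mem_append, List.mem_map] at he
      rcases he with he | ⟨e', he', rfl⟩
      · exact hp e he
      · obtain ⟨h3, h4⟩ := hp e' he'
        exact ⟨Nat.xor_lt_two_pow (n := 12) h3 hx, by rw [h4, hlin _ h3 _ hx]⟩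

theorem basis_facts : (∀ x ∈ TriData.searchBasis, x < 4096 ∧ blkAt x < 112) ∧
    TriData.searchBasis.length = 12 := by
  decide +kernel

theorem omega_facts : (∀ j ∈ TriData.omegaWord, j < 10) ∧ (∀ i < 12, omK (omK (omK (2 ^ i))) = 2 ^ i) ∧
    (∃ i < 12, omK (2 ^ i) ≠ 2 ^ i) ∧ (∀ b < 112, evalB TriData.omegaWord b = b) ∧
    (∀ q < 2, ∀ i < 12, omK (follow (TriData.simpleWords.getD q []) (2 ^ i)) =
      follow (TriData.simpleWords.getD q []) (omK (2 ^ i))) ∧
    (∃ i < 12, omK (follow [5] (2 ^ i)) ≠ follow [5] (omK (2 ^ i))) := by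
  have h := omega_check
  simp only [Bool.and_eq_true, List.all_eq_true, List.mem_range, Nat.blt_eq, Bool.not_eq_true',
    List.all_eq_false] at h
  obtain ⟨⟨⟨⟨⟨h1, h2⟩, h3⟩, h4⟩, h5⟩, h6⟩ := h
  refine ⟨h1, fun i hi => Nat.eq_of_beq_eq_true (h2 i hi), ?_, fun b hb => Nat.eq_of_beq_eq_true (h4 b hb),
    fun q hq i hi => Nat.eq_of_beq_eq_true (h5 q hq i hi), ?_⟩
  · obtain ⟨i, hi, he⟩ := h3
    exact ⟨i, hi, fun e => he (by rw [e]; exact Nat.beq_refl _)⟩
  · obtain ⟨i, hi, he⟩ := h6
    exact ⟨i, hi, fun e => he (by rw [e]; exact Nat.beq_refl _)⟩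

/-- An element of order three acting as a scalar. -/
noncomputable def omEl : K := kEl TriData.omegaWord

theorem act_omEl {k : ℕ} (hk : k < 4096) : act omEl k = omK k := act_kEl omega_facts.1 hk

theorem two_pow_lt {i : ℕ} (hi : i < 12) : (2 : ℕ) ^ i < 4096 :=
  Nat.pow_lt_pow_right (by norm_num) (show i < 12 from hi)

theorem omega_pow : psi omEl ^ 3 = 1 ∧ psi omEl ≠ 1 := by
  constructor
  · rw [← map_pow, ← map_one psi, psi_eq_iff]
    refine ext_pow fun i hi => ?_
    have h0 := two_pow_lt hi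
    have h1 := (act_spec omEl h0).1
    rw [act_one h0, show omEl ^ 3 = omEl * (omEl * omEl) by rw [pow_succ', pow_two],
      act_mul _ _ h0, act_mul _ _ h0, act_omEl (act_spec omEl h1).1, act_omEl h1, act_omEl h0, omega_facts.2.1 i hi]
  · intro e
    obtain ⟨i, hi, hne⟩ := omega_facts.2.2.1
    exact hne (by rw [← act_omEl (two_pow_lt hi)]; exact psi_one_act e (two_pow_lt hi))

/-- The subgroup of order three. -/
noncomputable def N : Subgroup Γ := phiBar.ker

theorem N_eq : N = Subgroup.zpowers (psi omEl) := by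
  apply le_antisymm
  · intro y hy
    obtain ⟨g, rfl⟩ := psi_surj y
    have hg : phi g = 1 := by rw [← phiBar_psi]; exact hy
    have hgi : phi g⁻¹ = 1 := by rw [map_inv, hg, inv_one]
    have hblk : ∀ a < 4096, blkAt (act g a) = blkAt a := by
      intro a ha
      by_cases h : blkAt a < 112
      · have := phi_maps g ⟨_, h⟩ a (mem_members ha h)
        rwa [hg] at this
      · rw [blk_none ha h]
        refine blk_none (act_spec g ha).1 fun h' => h ?_
        have h2 := phi_maps g⁻¹ ⟨_, h'⟩ _ (mem_members (act_spec g ha).1 h')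
        rw [hgi, ← act_mul _ _ ha, inv_mul_cancel, act_one ha] at h2
        rw [h2]; exact h'
    have hs := search_sound (f := act g) (fun a ha b hb => act_xor g ha hb) hblk (fun a ha => (act_spec g ha).1)
      TriData.searchBasis [] [(0, 0)] search_check
      (fun e he => by rw [List.mem_singleton] at he; subst he; exact ⟨by norm_num, (act_zero g).symm⟩) basis_facts.1
    rw [List.nil_append] at hs
    have hext : ∀ h : K, TriData.searchBasis.map (act g) = TriData.searchBasis.map (act h) → psi g = psi h := by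
      intro h hh
      rw [psi_eq_iff]
      refine ext_pow fun i hi => ?_
      have hc := List.all_eq_true.1 basis_span_check i (List.mem_range.2 hi)
      simp only [Bool.and_eq_true] at hc
      have hA : ∀ j < 12, TriData.searchBasis.getD j 0 < 4096 := fun j hj => by
        rw [List.getD_eq_getElem _ _ (basis_facts.2 ▸ hj)]
        exact (basis_facts.1 _ (List.getElem_mem _)).1
      rw [← Nat.eq_of_beq_eq_true hc.1, (act_imgK g 12 _ hA).2, (act_imgK h 12 _ hA).2, hh]
    rcases hs with e | e | e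
    · have e1 : TriData.searchBasis.map (act 1) = TriData.searchBasis.map id :=
        List.map_congr_left fun x hx => act_one (basis_facts.1 x hx).1
      rw [List.map_id] at e1
      rw [hext 1 (e.trans e1.symm)]
      simp
    · rw [hext omEl (e.trans (List.map_congr_left fun x hx => (act_omEl (basis_facts.1 x hx).1).symm))]
      exact Subgroup.mem_zpowers _
    · rw [hext (omEl * omEl) (e.trans (List.map_congr_left fun x hx => by
        have hx' := (basis_facts.1 x hx).1
        rw [act_mul _ _ hx', act_omEl (act_spec omEl hx').1, act_omEl hx'])), map_mul]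
      exact mul_mem (Subgroup.mem_zpowers _) (Subgroup.mem_zpowers _)
  · rw [Subgroup.zpowers_le, N, MonoidHom.mem_ker, phiBar_psi]
    refine Equiv.ext fun b => Fin.ext ?_
    rw [omEl, phi_kEl omega_facts.1, omega_facts.2.2.2.1 b b.2]
    rfl

theorem card_N : Nat.card N = 3 := by
  haveI : Fact (Nat.Prime 3) := ⟨Nat.prime_three⟩
  rw [N_eq, Nat.card_zpowers, orderOf_eq_prime omega_pow.1 omega_pow.2]

/-- The simple group of permutations of the blocks. -/
def S : Subgroup (Equiv.Perm (Fin 112)) := Comp.PermCode.span 112 Leech.Triangle.U43.u43Gens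

/-- The subgroup of index two. -/
noncomputable def M : Subgroup Γ := S.comap phiBar

theorem N_le_M : N ≤ M := fun y hy => by
  show phiBar y ∈ S
  rw [MonoidHom.mem_ker.1 hy]; exact one_mem _

theorem simple_word {q : ℕ} (hq : q < 2) : (∀ j ∈ TriData.simpleWords.getD q [], j < 10) ∧
    phi (kEl (TriData.simpleWords.getD q [])) =
      Comp.PermCode.val 112 (Leech.Triangle.U43.u43Gens.getD q 0) := by
  have h := simple_check
  simp only [Bool.and_eq_true, List.all_eq_true, List.mem_range, Nat.blt_eq] at h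
  have hw : ∀ j ∈ TriData.simpleWords.getD q [], j < 10 := by
    rw [List.getD_eq_getElem _ _ (show q < TriData.simpleWords.length from hq)]
    exact h.1 _ (List.getElem_mem _)
  refine ⟨hw, Equiv.ext fun b => Fin.ext ?_⟩
  have hok : ∀ q : Fin 2, Comp.PermCode.okb 112 (Leech.Triangle.U43.u43Gens.getD q 0) = true := by decide +kernel
  rw [phi_kEl hw, Nat.eq_of_beq_eq_true (h.2 q hq b b.2),
    Comp.PermCode.val_apply (Comp.PermCode.ok_of_okb (hok ⟨q, hq⟩))]

theorem S_le : S ≤ (Subgroup.centralizer ({psi omEl} : Set Γ)).map phiBar := by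
  refine (Subgroup.closure_le _).2 ?_
  rintro _ ⟨s, hs, rfl⟩
  obtain ⟨q, hq, rfl⟩ := List.getElem_of_mem hs
  have hq2 : q < 2 := hq
  obtain ⟨hw, he⟩ := simple_word hq2
  refine ⟨psi (kEl (TriData.simpleWords.getD q [])), Subgroup.mem_centralizer_singleton_iff.2 ?_, ?_⟩
  · rw [← map_mul, ← map_mul, psi_eq_iff]
    refine ext_pow fun i hi => ?_
    have h0 := two_pow_lt hi
    rw [act_mul _ _ h0, act_mul _ _ h0, act_omEl h0, act_kEl hw h0,
      act_kEl hw (act_omEl h0 ▸ (act_spec omEl h0).1),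
      act_omEl (act_kEl hw h0 ▸ (act_spec _ h0).1), omega_facts.2.2.2.2.1 q hq2 i hi]
  · rw [phiBar_psi, he, List.getD_eq_getElem _ _ hq]

theorem M_le : M ≤ Subgroup.centralizer ({psi omEl} : Set Γ) := by
  intro y hy
  obtain ⟨c, hc, he⟩ := S_le hy
  have h : c⁻¹ * y ∈ Subgroup.zpowers (psi omEl) := by
    rw [← N_eq, N, MonoidHom.mem_ker, map_mul, map_inv, he, inv_mul_cancel]
  obtain ⟨n, hn⟩ := Subgroup.mem_zpowers_iff.1 h
  have hy' : y = c * psi omEl ^ n := by rw [hn, mul_inv_cancel_left]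
  rw [hy']
  exact mul_mem hc (Subgroup.mem_centralizer_singleton_iff.2 ((Commute.refl (psi omEl)).zpow_left n).eq)

theorem cent_ne_top : Subgroup.centralizer ({psi omEl} : Set Γ) ≠ ⊤ := by
  intro h
  have hw : ∀ j ∈ [5], j < 10 := by simp
  have h1 : psi (kEl [5]) ∈ Subgroup.centralizer ({psi omEl} : Set Γ) := h ▸ Subgroup.mem_top _
  rw [Subgroup.mem_centralizer_singleton_iff, ← map_mul, ← map_mul] at h1
  obtain ⟨i, hi, hne⟩ := omega_facts.2.2.2.2.2
  have h0 := two_pow_lt hi
  apply hne
  have e : act (kEl [5] * omEl) (2 ^ i) = act (omEl * kEl [5]) (2 ^ i) := by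
    simp only [act, dif_pos h0, psi_eq_iff.1 h1]
  rw [act_mul _ _ h0, act_mul _ _ h0, act_omEl h0, act_kEl hw h0,
    act_kEl hw (act_omEl h0 ▸ (act_spec omEl h0).1),
    act_omEl (act_kEl hw h0 ▸ (act_spec _ h0).1)] at e
  exact e.symm

/-- The restriction to `M`, onto `S`. -/
noncomputable def phiM : ↥M →* ↥S := phiBar.subgroupComap S

theorem phiM_surj : Function.Surjective phiM := by
  rintro ⟨s, hs⟩
  obtain ⟨c, -, rfl⟩ := S_le hs
  exact ⟨⟨c, hs⟩, rfl⟩

theorem phiM_ker : phiM.ker = N.subgroupOf M := by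
  ext y
  rw [MonoidHom.mem_ker, Subgroup.mem_subgroupOf, N, MonoidHom.mem_ker]
  exact ⟨fun h => congrArg Subtype.val h, fun h => Subtype.ext h⟩

theorem card_M : Nat.card M = 9797760 := by
  rw [← Subgroup.card_mul_index phiM.ker, Subgroup.index_ker, MonoidHom.range_eq_top.2 phiM_surj, Subgroup.card_top,
    show Nat.card S = 3265920 from Leech.Triangle.U43.u43_card, phiM_ker,
    Nat.card_congr (Subgroup.subgroupOfEquivOfLe N_le_M).toEquiv, card_N]

theorem card_Gamma_le : Nat.card Γ ≤ 19595520 := by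
  classical
  have hn : negEl ∈ K := Subgroup.mem_centralizer_singleton_iff.2 (negEl_comm tt).symm
  let f : Fin 3 × Bool → ↥psi.ker := fun a => ⟨⟨tt ^ (a.1 : ℕ) * (bif a.2 then negEl else 1),
    mul_mem (pow_mem (Subgroup.mem_centralizer_singleton_iff.2 rfl) _) (by cases a.2; exacts [one_mem _, hn])⟩, by
      rw [MonoidHom.mem_ker]
      refine psi_faith _ fun k hk => ?_
      show Cong ((tt ^ (a.1 : ℕ) * (bif a.2 then negEl else 1)) • rv k) _
      rw [mul_smul]
      cases a.2
      · rw [cond_false, one_smul]; exact fixed.pow_fix hk _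
      · rw [cond_true, negEl_smul, smul_neg']; exact (cong_neg _).trans (fixed.pow_fix hk _)⟩
  have hodd : ∀ {n : ℕ}, tt ^ n ≠ negEl := fun {n} e => by
    have h := congrArg (fun g : Co0 => g ^ 3) e
    simp only [← pow_mul, mul_comm n 3] at h
    rw [pow_mul, fixed.pow, one_pow, show 3 = 2 * 1 + 1 from rfl, pow_succ, pow_mul,
      show negEl ^ 2 = (1 : Co0) by rw [pow_two, sq_negEl], one_pow, one_mul] at h
    exact negEl_ne_one h.symm
  have hinj : Function.Injective f := by
    rintro ⟨i, x⟩ ⟨j, y⟩ h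
    have h' : tt ^ (i : ℕ) * (bif x then negEl else 1) = tt ^ (j : ℕ) * (bif y then negEl else 1) :=
      congrArg (fun a : ↥psi.ker => ((a : K) : Co0)) h
    have hne : ∀ a c : ℕ, a < 3 → c < 3 → tt ^ a = tt ^ c → a = c := fun a c ha hc e =>
      pow_injOn_Iio_orderOf (by rw [Set.mem_Iio, tt_ord]; exact ha) (by rw [Set.mem_Iio, tt_ord]; exact hc) e
    have hbad : ∀ a c : ℕ, tt ^ a * negEl ≠ tt ^ c := fun a c e => by
      refine hodd (n := c + 2 * a) ?_
      rw [pow_add, ← e, mul_assoc, ← negEl_comm, ← mul_assoc, ← pow_add, show a + 2 * a = 3 * a by ring,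
        pow_mul, fixed.pow, one_pow, one_mul]
    cases x <;> cases y <;> simp only [cond_true, cond_false, mul_one] at h'
    · rw [Fin.ext (hne _ _ i.2 j.2 h')]
    · exact absurd h'.symm (hbad _ _)
    · exact absurd h' (hbad _ _)
    · rw [Fin.ext (hne _ _ i.2 j.2 (mul_right_cancel h'))]
  have h1 := Nat.card_le_card_of_injective f hinj
  rw [Nat.card_prod, Nat.card_fin, Nat.card_eq_fintype_card (α := Bool), Fintype.card_bool] at h1
  have h := Subgroup.card_mul_index psi.ker
  rw [Subgroup.index_ker, MonoidHom.range_eq_top.2 psi_surj, Subgroup.card_top] at h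
  have hK := card_K_le
  nlinarith

theorem index_M : M.index = 2 := by
  have hne : M.index ≠ 1 := fun h => cent_ne_top (top_unique (Subgroup.index_eq_one.1 h ▸ M_le))
  have h0 : M.index ≠ 0 := Subgroup.index_ne_zero_of_finite
  have h := Subgroup.card_mul_index M
  have hG := card_Gamma_le
  rw [card_M] at h
  omega

theorem cent_eq : Subgroup.centralizer ({psi omEl} : Set Γ) = M := by
  refine (Subgroup.eq_of_le_of_card_ge M_le ?_).symm
  have h := Subgroup.card_mul_index M
  have h' := Subgroup.card_mul_index (Subgroup.centralizer ({psi omEl} : Set Γ))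
  rw [index_M] at h
  have h1 : (Subgroup.centralizer ({psi omEl} : Set Γ)).index ≠ 1 := fun e => cent_ne_top (Subgroup.index_eq_one.1 e)
  have h2 : (Subgroup.centralizer ({psi omEl} : Set Γ)).index ≠ 0 := Subgroup.index_ne_zero_of_finite
  nlinarith [Nat.two_le_iff _ |>.2 ⟨h2, h1⟩]

theorem M_normal : M.Normal := Subgroup.normal_of_index_eq_two index_M

instance N_subgroupOf_normal : (N.subgroupOf M).Normal := phiM_ker ▸ phiM.normal_ker

theorem quotient_equiv : Nonempty (↥M ⧸ N.subgroupOf M ≃* Cfsg.PSU 4 Leech.Triangle.K9 3) := by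
  obtain ⟨e⟩ := span_equiv
  exact ⟨((QuotientGroup.quotientMulEquivOfEq phiM_ker.symm).trans
    (QuotientGroup.quotientKerEquivOfSurjective phiM phiM_surj)).trans e⟩

theorem psi_core (P : Subgroup Γ) (hn : P.Normal) (hP : IsPGroup 2 P) : P = ⊥ := by
  haveI : Fact (Nat.Prime 2) := ⟨Nat.prime_two⟩
  obtain ⟨e⟩ := span_equiv
  have hin : P ⊓ N = ⊥ := by
    rw [← disjoint_iff]
    have hN3 : IsPGroup 3 N := IsPGroup.of_card (n := 1) (by rw [card_N, pow_one])
    haveI : Fact (Nat.Prime 3) := ⟨Nat.prime_three⟩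
    exact IsPGroup.disjoint_of_ne 2 3 (by norm_num) P N hP hN3
  have hPM : P ⊓ M = ⊥ := by
    let Φ : ↥M →* Cfsg.PSU 4 Leech.Triangle.K9 3 := e.toMonoidHom.comp phiM
    have hΦ : Function.Surjective Φ := e.surjective.comp phiM_surj
    have hn' : ((P.subgroupOf M).map Φ).Normal := (hn.subgroupOf M).map Φ hΦ
    have hp' : IsPGroup 2 ((P.subgroupOf M).map Φ) :=
      (hP.comap_of_injective M.subtype Subtype.val_injective).map Φ
    haveI := psu_simple
    rcases hn'.eq_bot_or_eq_top with h | h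
    · rw [← le_bot_iff, ← hin]
      intro y hy
      obtain ⟨hyP, hyM⟩ := Subgroup.mem_inf.1 hy
      refine Subgroup.mem_inf.2 ⟨hyP, ?_⟩
      have h1 : Φ ⟨y, hyM⟩ ∈ (P.subgroupOf M).map Φ := Subgroup.mem_map_of_mem _ hyP
      rw [h, Subgroup.mem_bot] at h1
      have h2 : phiM ⟨y, hyM⟩ = 1 := (map_eq_one_iff e e.injective).1 h1
      exact congrArg Subtype.val h2
    · exfalso
      rw [h] at hp'
      obtain ⟨n, hn2⟩ := hp'.exists_card_eq
      rw [Subgroup.card_top, Leech.Triangle.U43.card_PSU] at hn2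
      have : n < 22 := by
        by_contra hh
        have := Nat.pow_le_pow_right (show 0 < 2 by norm_num) (not_lt.1 hh)
        omega
      interval_cases n <;> simp at hn2
  rw [← le_bot_iff, ← hPM]
  intro p hp
  refine Subgroup.mem_inf.2 ⟨hp, cent_eq ▸ Subgroup.mem_centralizer_singleton_iff.2 ?_⟩
  have hw : psi omEl ∈ N := N_eq ▸ Subgroup.mem_zpowers _
  have hNn : N.Normal := phiBar.normal_ker
  have h1 : p * psi omEl * p⁻¹ * (psi omEl)⁻¹ ∈ P ⊓ N := by
    refine Subgroup.mem_inf.2 ⟨?_, mul_mem (hNn.conj_mem _ hw _) (inv_mem hw)⟩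
    rw [mul_assoc, mul_assoc]
    refine mul_mem hp ?_
    rw [← mul_assoc]
    exact hn.conj_mem _ (inv_mem hp) _
  rw [hin, Subgroup.mem_bot] at h1
  exact mul_inv_eq_iff_eq_mul.1 (mul_inv_eq_one.1 h1)

theorem action : Action tt 12 rv psi where
  surj := psi_surj
  ker := psi_ker
  faith := psi_faith
  core := psi_core

end CfsgLib.MonsterType.Tri
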