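import Cfsg.Agent.Lib.MonsterType.TriFixed
import Cfsg.Agent.Lib.MonsterType.TriCheckCz

/-! The signed permutations commuting with the element of order three, and generators of its centralizer. -/

set_option autoImplicit false
set_option linter.style.haveILetI false

namespace CfsgLib.MonsterType.Tri

open Cfsg CfsgLib CfsgLib.Leech CfsgLib.MonsterQ CfsgLib.MonsterType
open CfsgLib.Leech.Orbits (vecOf)

/-- The permutation of order three. -/
noncomputable def R : Equiv.Perm GolayPt := Trans.tblPerm TriData.tcode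

theorem okT_tcode : Trans.okT TriData.tcode = true := by
  have := power_check
  rw [Bool.and_eq_true] at this
  exact this.1

theorem R_mem : R ∈ M24 := Trans.tblPerm_mem okT_tcode

theorem img_lt {i : ℕ} (hi : i < 24) : Trans.img TriData.tcode i < 24 := by
  have h := okT_tcode
  simp only [Trans.okT, Bool.and_eq_true, List.all_eq_true, List.mem_range, Nat.blt_eq] at h
  exact h.1.1 i hi

theorem R_pt {i : ℕ} (hi : i < 24) : R (Golay.pt i) = Golay.pt (Trans.img TriData.tcode i) := by
  rw [R, Trans.tblPerm_apply okT_tcode, Trans.tblFun, Golay.bit_pt hi]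

theorem pt_inj {i j : ℕ} (hi : i < 24) (hj : j < 24) (h : Golay.pt i = Golay.pt j) : i = j := by
  rw [← Golay.bit_pt hi, h, Golay.bit_pt hj]

theorem iter_pt {i : ℕ} (hi : i < 24) : ∀ j, (Trans.img TriData.tcode)^[j] i < 24 ∧
    (R ^ j) (Golay.pt i) = Golay.pt ((Trans.img TriData.tcode)^[j] i)
  | 0 => ⟨hi, by simp⟩
  | j + 1 => by
    obtain ⟨h1, h2⟩ := iter_pt hi j
    rw [Function.iterate_succ_apply', pow_succ', Equiv.Perm.mul_apply, h2, R_pt h1]
    exact ⟨img_lt h1, rfl⟩

theorem toWord_comb_zero : Golay.toWord (Golay.comb 0) = (0 : GolayPt → ZMod 2) :=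
  funext fun p => by simp [Golay.toWord, Golay.comb, Golay.term]

theorem tt_eq : tt = monoEl R R_mem 0 (zero_mem _) := by
  rw [tt, tS, stepEl, dif_pos okT_tcode]
  exact monoEl_congr rfl toWord_comb_zero

theorem tt_mem : tt ∈ monoSub := tt_eq ▸ monoEl_mem_monoSub _ _

theorem mono_inj {a a' : Equiv.Perm GolayPt} {c c' : GolayPt → ZMod 2} {ha : a ∈ M24} {ha' : a' ∈ M24}
    {hc : c ∈ golayCode} {hc' : c' ∈ golayCode} (h : monoEl a ha c hc = monoEl a' ha' c' hc') : a = a' ∧ c = c' := by
  have e := monoMap_injective (a₁ := (⟨a, ha⟩, ⟨c, hc⟩)) (a₂ := (⟨a', ha'⟩, ⟨c', hc'⟩)) h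
  exact ⟨congrArg (fun p => ((p.1 : M24) : Equiv.Perm GolayPt)) e,
    congrArg (fun p => ((p.2 : golayCode) : GolayPt → ZMod 2)) e⟩

theorem mem_fixPts {i : ℕ} : i ∈ TriData.fixPts ↔ i < 24 ∧ Trans.img TriData.tcode i = i := by
  obtain ⟨-, -, h3, h4, h5, -⟩ := shape_check
  simp only [List.all_eq_true, List.mem_range] at h3 h4 h5
  constructor
  · intro hi
    have h := h4 i hi
    simp only [Bool.and_eq_true, Nat.blt_eq] at h
    exact ⟨h.1, Nat.eq_of_beq_eq_true h.2⟩
  · rintro ⟨hi, he⟩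
    have h := h3 i hi
    rw [show Nat.beq (Trans.img TriData.tcode i) i = true by rw [he]; exact Nat.beq_refl _] at h
    simpa using h

theorem mem_movPts {i : ℕ} : i ∈ TriData.movPts ↔ i < 24 ∧ Trans.img TriData.tcode i ≠ i := by
  obtain ⟨-, -, h3, h4, h5, -⟩ := shape_check
  simp only [List.all_eq_true, List.mem_range] at h3 h4 h5
  constructor
  · intro hi
    have h := h5 i hi
    simp only [Bool.and_eq_true, Nat.blt_eq, Bool.not_eq_true'] at h
    exact ⟨h.1, fun e => by rw [e, Nat.beq_refl] at h; exact Bool.noConfusion h.2⟩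
  · rintro ⟨hi, he⟩
    have h := h3 i hi
    rw [show Nat.beq (Trans.img TriData.tcode i) i = false from
      Bool.eq_false_iff.2 fun e => he (Nat.eq_of_beq_eq_true e)] at h
    simpa using h

theorem fix_R {i : ℕ} (hi : i ∈ TriData.fixPts) : R (Golay.pt i) = Golay.pt i := by
  obtain ⟨h1, h2⟩ := mem_fixPts.1 hi
  rw [R_pt h1, h2]

theorem tt_ne_one : tt ≠ 1 := by
  intro e
  rw [tt_eq, ← monoEl_one] at e
  obtain ⟨h1, -⟩ := mono_inj e
  obtain ⟨hi, hne⟩ := mem_movPts.1 (show TriData.movPts.getD 0 0 ∈ TriData.movPts by decide +kernel)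
  have h2 := R_pt hi
  rw [h1, Equiv.Perm.one_apply] at h2
  exact hne (pt_inj hi (img_lt hi) h2).symm

theorem tt_ord : orderOf tt = 3 := by
  haveI : Fact (Nat.Prime 3) := ⟨Nat.prime_three⟩
  exact orderOf_eq_prime fixed.pow tt_ne_one

theorem mono_comm {g : Co0} (hg : g ∈ monoSub) (hc : g * tt = tt * g) :
    ∃ (τ : Equiv.Perm GolayPt) (hτ : τ ∈ M24) (c : GolayPt → ZMod 2) (hc' : c ∈ golayCode),
      g = monoEl τ hτ c hc' ∧ τ * R = R * τ ∧ c ∘ R = c := by
  obtain ⟨τ, hτ, c, hc', rfl⟩ := exists_mono_of_stdStab hg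
  refine ⟨τ, hτ, c, hc', rfl, ?_⟩
  rw [tt_eq, monoEl_mul, monoEl_mul] at hc
  obtain ⟨h1, h2⟩ := mono_inj hc
  simp only [Pi.zero_comp, add_zero, zero_add] at h2
  exact ⟨h1.symm, h2.symm⟩

theorem permW_exists (w : List ℕ) (hw : ∀ g ∈ w, g < 2) : ∃ (σ : Equiv.Perm GolayPt) (hσ : σ ∈ M24),
    monoEl σ hσ 0 (zero_mem _) ∈ H ∧ σ * R = R * σ ∧
      ∀ i < 24, evalC w i < 24 ∧ σ (Golay.pt i) = Golay.pt (evalC w i) := by
  have h := perm_gens_check
  simp only [Bool.and_eq_true, List.all_eq_true, List.mem_range, Nat.blt_eq] at h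
  have hgl : ∀ g < 2, Trans.okT (TriData.permGens.getD g 0) = true := fun g hg => by
    rw [List.getD_eq_getElem _ _ (show g < TriData.permGens.length from hg)]
    exact h.1.1.1 _ (List.getElem_mem _)
  suffices ∃ (σ : Equiv.Perm GolayPt) (hσ : σ ∈ M24),
      monoEl σ hσ 0 (zero_mem _) ∈ H ∧ ∀ i < 24, evalC w i < 24 ∧ σ (Golay.pt i) = Golay.pt (evalC w i) by
    obtain ⟨σ, hσ, hH, he⟩ := this
    refine ⟨σ, hσ, hH, ?_, he⟩
    have hc := Subgroup.mem_centralizer_singleton_iff.1 (H_le hH)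
    rw [tt_eq, monoEl_mul, monoEl_mul] at hc
    exact (mono_inj hc).1.symm
  induction w with
  | nil => exact ⟨1, one_mem _, by rw [monoEl_one]; exact one_mem _, fun i hi => ⟨hi, rfl⟩⟩
  | cons g w ih =>
    obtain ⟨σ, hσ, hmem, hσi⟩ := ih fun a ha => hw a (List.mem_cons_of_mem _ ha)
    have hg := hgl g (hw g List.mem_cons_self)
    have hgH : monoEl (Trans.tblPerm (TriData.permGens.getD g 0)) (Trans.tblPerm_mem hg) 0 (zero_mem _) ∈ H := by
      have h1 := gEl_mem_H (j := g) (lt_trans (hw g List.mem_cons_self) (by norm_num))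
      have h2 : gen g = [some (TriData.permGens.getD g 0, 0)] := by
        have := hw g List.mem_cons_self
        interval_cases g
        exacts [gens_shape.1, gens_shape.2.1]
      rw [gEl, h2, wordEl_single, stepEl, dif_pos hg] at h1
      convert h1 using 1
      exact monoEl_congr rfl toWord_comb_zero.symm
    refine ⟨_, mul_mem (Trans.tblPerm_mem hg) hσ, ?_, fun i hi => ?_⟩
    · have h1 := mul_mem hmem hgH
      rw [monoEl_mul] at h1
      convert h1 using 1
      exact monoEl_congr rfl (by funext p; simp)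
    · obtain ⟨h1, h2⟩ := hσi i hi
      have h3 : Trans.img (TriData.permGens.getD g 0) (evalC w i) < 24 := by
        have h' := hg
        simp only [Trans.okT, Bool.and_eq_true, List.all_eq_true, List.mem_range, Nat.blt_eq] at h'
        exact h'.1.1 _ h1
      refine ⟨h3, ?_⟩
      rw [Equiv.Perm.mul_apply, h2, Trans.tblPerm_apply hg, Trans.tblFun, Golay.bit_pt h1]
      rfl

/-- A transversal element at a level. -/
noncomputable def tr (l a : ℕ) : Equiv.Perm GolayPt :=
  if h : ∀ g ∈ ((TriData.levels.getD l []).getD a (0, [])).2, g < 2 then (permW_exists _ h).choose else 1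

theorem tr_word {l a : ℕ} : ∀ g ∈ ((TriData.levels.getD l []).getD a (0, [])).2, g < 2 := by
  have h := perm_gens_check
  simp only [Bool.and_eq_true, List.all_eq_true, Nat.blt_eq] at h
  intro g hg
  by_cases ha : a < (TriData.levels.getD l []).length
  · by_cases hl : l < TriData.levels.length
    · rw [List.getD_eq_getElem _ _ ha] at hg
      exact h.1.1.2 _ (by rw [List.getD_eq_getElem _ _ hl]; exact List.getElem_mem _) _ (List.getElem_mem _) g hg
    · rw [List.getD_eq_default _ _ (not_lt.1 hl)] at ha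
      simp at ha
  · rw [List.getD_eq_default _ _ (not_lt.1 ha)] at hg
    simp at hg

theorem tr_spec (l a : ℕ) : ∃ hσ : tr l a ∈ M24, monoEl (tr l a) hσ 0 (zero_mem _) ∈ H ∧
    tr l a * R = R * tr l a ∧ ∀ i < 24,
      evalC ((TriData.levels.getD l []).getD a (0, [])).2 i < 24 ∧
      tr l a (Golay.pt i) = Golay.pt (evalC ((TriData.levels.getD l []).getD a (0, [])).2 i) := by
  obtain ⟨h1, h2, h3, h4⟩ := (permW_exists _ (tr_word (l := l) (a := a))).choose_spec
  simp only [tr, dif_pos (tr_word (l := l) (a := a))]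
  exact ⟨h1, h2, h3, h4⟩

/-- An element fixing four of the fixed points and commuting with `R` is a power of `R`. -/
theorem resid {x : Equiv.Perm GolayPt} (hx : x ∈ M24) (hc : x * R = R * x)
    (hf : ∀ i ∈ TriData.fixPts.take 4, x (Golay.pt i) = Golay.pt i) : ∃ i < 3, x = R ^ i := by
  set f : ℕ → ℕ := fun i => Golay.bit (x (Golay.pt i)) with hfdef
  have hfs : ∀ i, f i < 24 ∧ x (Golay.pt i) = Golay.pt (f i) := fun i => ⟨Golay.bit_lt _, (Golay.pt_bit _).symm⟩
  have hinj : ∀ {i j}, i < 24 → j < 24 → f i = f j → i = j := fun {i j} hi hj h =>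
    pt_inj hi hj (x.injective (by rw [(hfs i).2, (hfs j).2, h]))
  have hxR : ∀ i < 24, Trans.img TriData.tcode (f i) = f (Trans.img TriData.tcode i) := by
    intro i hi
    refine pt_inj (img_lt (hfs i).1) (hfs _).1 ?_
    rw [← R_pt (hfs i).1, ← (hfs i).2, ← (hfs _).2, ← R_pt hi]
    exact (DFunLike.congr_fun hc _).symm
  have hfix : ∀ i ∈ TriData.fixPts, f i ∈ TriData.fixPts := by
    intro i hi
    obtain ⟨hi, he⟩ := mem_fixPts.1 hi
    exact mem_fixPts.2 ⟨(hfs i).1, by rw [hxR i hi, he]⟩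
  obtain ⟨hlen6, hlen18, -, -, -, hnd⟩ := shape_check
  set a := TriData.movPts.getD 0 0 with ha
  have hbase : a ∈ TriData.movPts := by
    rw [ha]; decide +kernel
  obtain ⟨ha24, hane⟩ := mem_movPts.1 hbase
  have hfa : f a ∈ TriData.movPts := mem_movPts.2 ⟨(hfs a).1, by
    rw [hxR a ha24]
    exact fun e => hane (hinj (img_lt ha24) ha24 e)⟩
  obtain ⟨sw, hsw⟩ : ∃ sw : Bool, TriData.fixPts.map f = TriData.fixPts.take 4 ++
      bif sw then [TriData.fixPts.getD 5 0, TriData.fixPts.getD 4 0]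
      else [TriData.fixPts.getD 4 0, TriData.fixPts.getD 5 0] := by
    have hf' : ∀ i ∈ TriData.fixPts.take 4, f i = i := fun i hi => by
      refine pt_inj (hfs i).1 (mem_fixPts.1 (List.mem_of_mem_take hi)).1 ?_
      rw [← (hfs i).2, hf i hi]
    have hnf : (TriData.fixPts.map f).Nodup := List.Nodup.map_on
      (fun i hi j hj h => hinj (mem_fixPts.1 hi).1 (mem_fixPts.1 hj).1 h) hnd.of_append_left
    have hlen := Nat.eq_of_beq_eq_true hlen6
    revert hnf hfix hf' hlen
    rcases hF : TriData.fixPts with _ | ⟨i0, _ | ⟨i1, _ | ⟨i2, _ | ⟨i3, _ | ⟨i4, _ | ⟨i5, _ | ⟨i6, l⟩⟩⟩⟩⟩⟩⟩ <;>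
      intro hfix hf' hnf hlen <;> simp only [List.length_cons, List.length_nil] at hlen <;> try omega
    simp only [List.mem_cons, List.not_mem_nil, or_false, forall_eq_or_imp, forall_eq, List.take_succ_cons,
      List.take_zero] at hfix hf'
    obtain ⟨-, -, -, -, h4, h5⟩ := hfix
    obtain ⟨e0, e1, e2, e3⟩ := hf'
    simp only [List.map_cons, List.map_nil, e0, e1, e2, e3, List.nodup_cons, List.mem_cons, List.not_mem_nil,
      or_false, not_or] at hnf
    rcases h4 with e | e | e | e | e4 | e4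
    · exact absurd e.symm (by tauto)
    · exact absurd e.symm (by tauto)
    · exact absurd e.symm (by tauto)
    · exact absurd e.symm (by tauto)
    · refine ⟨false, ?_⟩
      rcases h5 with e | e | e | e | e | e <;> first
        | exact absurd e.symm (by tauto)
        | (simp [e0, e1, e2, e3, e4, e]; done)
        | (exfalso; simp [e4, e] at hnf)
    · refine ⟨true, ?_⟩
      rcases h5 with e | e | e | e | e | e <;> first
        | exact absurd e.symm (by tauto)
        | (simp [e0, e1, e2, e3, e4, e]; done)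
        | (exfalso; simp [e4, e] at hnf)
  obtain ⟨m, hmlt, hme⟩ := List.getElem_of_mem hfa
  have hm18 : m < 18 := by
    have := Nat.eq_of_beq_eq_true hlen18
    omega
  have hb : caseB sw m = true := by
    have h := List.all_eq_true.1 cases_check m (List.mem_range.2 hm18)
    simp only [Bool.and_eq_true] at h
    cases sw
    exacts [h.1, h.2]
  simp only [caseB, Bool.and_eq_true, Nat.blt_eq] at hb
  obtain ⟨hT, hrun⟩ := hb
  rw [List.getD_eq_getElem TriData.movPts _ hmlt, hme] at hrun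
  have hinv : Deduce.Inv x (start sw (f a)) := by
    rw [start, ← hsw, ← ha]
    refine ⟨fun e he => ?_, ?_⟩
    · rw [List.mem_append] at he
      rcases he with he | he
      · rw [List.zip_map_right, List.mem_map] at he
        obtain ⟨⟨i, i'⟩, hi, rfl⟩ := he
        have hii : i = i' ∧ i ∈ TriData.fixPts := by
          obtain ⟨n, hn, hne⟩ := List.getElem_of_mem hi
          simp only [List.getElem_zip, Prod.mk.injEq] at hne
          exact ⟨hne.1.symm.trans hne.2, (List.of_mem_zip hi).1⟩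
        obtain ⟨rfl, hi'⟩ := hii
        exact ⟨(mem_fixPts.1 hi').1, (hfs i).1, (hfs i).2⟩
      · obtain ⟨j, -, rfl⟩ := List.mem_map.1 he
        obtain ⟨h1, h2⟩ := iter_pt ha24 j
        obtain ⟨h3, h4⟩ := iter_pt (hfs a).1 j
        refine ⟨h1, h3, ?_⟩
        rw [← h2, ← h4, ← (hfs a).2, ← Equiv.Perm.mul_apply, ← Equiv.Perm.mul_apply,
          (Commute.pow_right (show Commute x R from hc) j).eq]
    · rw [List.map_append, List.map_fst_zip (by simp), List.map_map]
      exact hnd
  have hrs := Deduce.run_sound hx _ _ hinv hrun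
  refine ⟨_, hT, Equiv.ext fun p => ?_⟩
  have hp := List.all_eq_true.1 (pow_check _ hT) _ (List.mem_range.2 (Golay.bit_lt p))
  rw [← Golay.pt_bit p, hrs _ (Golay.bit_lt p), Nat.eq_of_beq_eq_true hp, (iter_pt (Golay.bit_lt p) _).2]

/-- Fixing the first fixed points. -/
def Fixes (l : ℕ) (x : Equiv.Perm GolayPt) : Prop :=
  x ∈ M24 ∧ x * R = R * x ∧ ∀ i ∈ TriData.fixPts.take l, x (Golay.pt i) = Golay.pt i

theorem descend {l : ℕ} (hl : l < 4) {x : Equiv.Perm GolayPt} (h : Fixes l x) :
    ∃ a < 6 - l, ∃ y, Fixes (l + 1) y ∧ x = tr l a * y := by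
  obtain ⟨hx, hc, hf⟩ := h
  have hlev := List.all_eq_true.1 levels_check l (List.mem_range.2 hl)
  simp only [Bool.and_eq_true, List.all_eq_true, List.any_eq_true] at hlev
  obtain ⟨hcover, hev⟩ := hlev
  have hlen := Nat.eq_of_beq_eq_true shape_check.1
  have hl' : l < TriData.fixPts.length := by omega
  set i0 := TriData.fixPts.getD l 0 with hi0
  have hi0m : i0 ∈ TriData.fixPts := by
    rw [hi0, List.getD_eq_getElem _ _ hl']; exact List.getElem_mem _
  obtain ⟨hi24, -⟩ := mem_fixPts.1 hi0m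
  set v := Golay.bit (x (Golay.pt i0)) with hv
  have hvp : x (Golay.pt i0) = Golay.pt v := (Golay.pt_bit _).symm
  have hv24 : v < 24 := Golay.bit_lt _
  have hvfix : v ∈ TriData.fixPts := by
    refine mem_fixPts.2 ⟨hv24, pt_inj (img_lt hv24) hv24 ?_⟩
    rw [← R_pt hv24, ← hvp, ← Equiv.Perm.mul_apply, ← hc, Equiv.Perm.mul_apply, fix_R hi0m]
  have hvd : v ∈ TriData.fixPts.drop l := by
    rw [← List.take_append_drop l TriData.fixPts, List.mem_append] at hvfix
    refine hvfix.resolve_left fun hm => ?_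
    have e := hf v hm
    replace e := e.trans hvp.symm
    have e' : v = i0 := pt_inj hv24 hi24 (x.injective e)
    have hnd := (shape_check.2.2.2.2.2).of_append_left
    rw [← List.take_append_drop l TriData.fixPts] at hnd
    refine (List.nodup_append.1 hnd).2.2 v hm v ?_ rfl
    rw [e', hi0, List.getD_eq_getElem _ _ hl', List.drop_eq_getElem_cons hl']
    exact List.mem_cons_self
  obtain ⟨e, he, hev'⟩ := hcover v hvd
  obtain ⟨a, ha, rfl⟩ := List.getElem_of_mem he
  have hlenl : (TriData.levels.getD l []).length = 6 - l := by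
    interval_cases l <;> rfl
  obtain ⟨hσ, -, hσR, hσi⟩ := tr_spec l a
  rw [List.getD_eq_getElem _ _ ha] at hσi
  have h2 := hev _ he
  refine ⟨a, hlenl ▸ ha, (tr l a)⁻¹ * x, ⟨mul_mem (inv_mem hσ) hx, ?_, fun i hi => ?_⟩, by group⟩
  · have h1 : Commute (tr l a) R := hσR
    exact (h1.inv_left.mul_left hc).eq
  · rw [Equiv.Perm.mul_apply, Equiv.Perm.inv_eq_iff_eq]
    rw [List.take_succ_eq_append_getElem hl', List.mem_append, List.mem_singleton] at hi
    rcases hi with hi | hi
    · have hi24' := (mem_fixPts.1 (List.mem_of_mem_take hi)).1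
      rw [hf i hi, (hσi i hi24').2, Nat.eq_of_beq_eq_true (h2.2 i hi)]
    · rw [← List.getD_eq_getElem _ 0 hl', ← hi0] at hi
      subst hi
      rw [hvp, (hσi _ hi24).2, Nat.eq_of_beq_eq_true h2.1, Nat.eq_of_beq_eq_true hev']

/-- Every element commuting with `R` in a normal form. -/
theorem cz_decomp {x : Equiv.Perm GolayPt} (hx : x ∈ M24) (hc : x * R = R * x) :
    ∃ (a : Fin 6) (b : Fin 5) (c : Fin 4) (d : Fin 3) (i : Fin 3),
      x = tr 0 a * (tr 1 b * (tr 2 c * (tr 3 d * R ^ (i : ℕ)))) := by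
  obtain ⟨a, ha, x1, h1, rfl⟩ := descend (l := 0) (by norm_num) (x := x) ⟨hx, hc, by simp⟩
  obtain ⟨b, hb, x2, h2, rfl⟩ := descend (by norm_num) h1
  obtain ⟨c, hc', x3, h3, rfl⟩ := descend (by norm_num) h2
  obtain ⟨d, hd, x4, h4, rfl⟩ := descend (by norm_num) h3
  obtain ⟨i, hi, rfl⟩ := resid h4.1 h4.2.1 h4.2.2
  exact ⟨⟨a, ha⟩, ⟨b, hb⟩, ⟨c, hc'⟩, ⟨d, hd⟩, ⟨i, hi⟩, rfl⟩

theorem R_mono_mem : monoEl R R_mem 0 (zero_mem _) ∈ H := by
  have h := perm_gens_check
  simp only [Bool.and_eq_true, List.all_eq_true, List.mem_range, Nat.blt_eq] at h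
  obtain ⟨σ, hσ, hH, -, hσi⟩ := permW_exists _ h.1.2
  convert hH using 1
  refine monoEl_congr (Equiv.ext fun p => ?_) rfl
  rw [← Golay.pt_bit p, R_pt (Golay.bit_lt p), (hσi _ (Golay.bit_lt p)).2,
    Nat.eq_of_beq_eq_true (h.2 _ (Golay.bit_lt p))]

theorem perm_mul_mem {a b : Equiv.Perm GolayPt} (ha : a ∈ M24) (hb : b ∈ M24)
    (h1 : monoEl a ha 0 (zero_mem _) ∈ H) (h2 : monoEl b hb 0 (zero_mem _) ∈ H) :
    monoEl (a * b) (mul_mem ha hb) 0 (zero_mem _) ∈ H := by
  have h := mul_mem h2 h1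
  rw [monoEl_mul] at h
  convert h using 1
  exact monoEl_congr rfl (by funext p; simp)

theorem perm_mem {τ : Equiv.Perm GolayPt} (hτ : τ ∈ M24) (hc : τ * R = R * τ) :
    monoEl τ hτ 0 (zero_mem _) ∈ H := by
  obtain ⟨a, b, c, d, i, rfl⟩ := cz_decomp hτ hc
  obtain ⟨ha, ha', -⟩ := tr_spec 0 a
  obtain ⟨hb, hb', -⟩ := tr_spec 1 b
  obtain ⟨hc, hc', -⟩ := tr_spec 2 c
  obtain ⟨hd, hd', -⟩ := tr_spec 3 d
  have hi : ∀ n : ℕ, monoEl (R ^ n) (pow_mem R_mem n) 0 (zero_mem _) ∈ H := by
    intro n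
    induction n with
    | zero =>
      convert H.one_mem using 1
      rw [← monoEl_one]; exact monoEl_congr (pow_zero R) rfl
    | succ n ih =>
      convert perm_mul_mem _ _ ih R_mono_mem using 1
      exact monoEl_congr (pow_succ R n) rfl
  exact perm_mul_mem _ _ ha' (perm_mul_mem _ _ hb' (perm_mul_mem _ _ hc' (perm_mul_mem _ _ hd' (hi _))))

theorem fixed_word {c : GolayPt → ZMod 2} (hc : c ∈ golayCode) (h : c ∘ R = c) :
    ∃ x ∈ TriData.fixCode, c = Golay.toWord (Golay.comb x) := by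
  obtain ⟨x, hx, rfl⟩ := Golay.mem_golay_iff.1 hc
  have hcc := code_check
  simp only [List.all_eq_true, List.mem_range, Bool.or_eq_true, Bool.not_eq_true', List.contains_eq_mem,
    decide_eq_true_eq] at hcc
  rcases hcc x hx with hne | hmem
  · exfalso
    refine Bool.eq_false_iff.1 hne (List.all_eq_true.2 fun i hi => ?_)
    rw [List.mem_range] at hi
    have e := congrFun h (Golay.pt i)
    rw [Function.comp_apply, R_pt hi] at e
    simp only [Golay.toWord, Golay.bit_pt hi, Golay.bit_pt (img_lt hi)] at e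
    rw [beq_iff_eq]
    revert e
    cases (Golay.comb x).testBit (Trans.img TriData.tcode i) <;> cases (Golay.comb x).testBit i <;> simp
  · exact ⟨x, hmem, rfl⟩

/-- The word of a combination of sign changes. -/
def signWord (m : ℕ) : ℕ → List ℕ
  | 0 => []
  | n + 1 => bif m.testBit n then (2 + n) :: signWord m n else signWord m n

theorem signWord_lt (m : ℕ) : ∀ n ≤ 6, ∀ j ∈ signWord m n, j < 10
  | 0, _ => by simp [signWord]
  | n + 1, hn => by
    intro j hj
    cases h : m.testBit n <;> simp only [signWord, h, cond_true, cond_false, List.mem_cons] at hj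
    · exact signWord_lt m n (by omega) j hj
    · rcases hj with rfl | hj
      · omega
      · exact signWord_lt m n (by omega) j hj

theorem sign_eq (m : ℕ) : ∀ n ≤ 6, prodEl (signWord m n) =
    monoEl 1 (one_mem _) (Golay.toWord (Golay.comb (imgK TriData.signGens n m))) (Golay.toWord_comb_mem _)
  | 0, _ => by
    simp only [signWord, prodEl, imgK]
    rw [← monoEl_one]
    exact monoEl_congr rfl toWord_comb_zero.symm
  | n + 1, hn => by
    have ih := sign_eq m n (by omega)
    cases hb : m.testBit n with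
    | false => simp only [signWord, imgK, hb, cond_false]; exact ih
    | true =>
      have hid := id_check
      simp only [Bool.and_eq_true, List.all_eq_true, List.mem_range] at hid
      have hidp : Trans.tblPerm idCode = 1 := Equiv.ext fun p => by
        rw [Trans.tblPerm_apply hid.1, Trans.tblFun, Nat.eq_of_beq_eq_true (hid.2 _ (Golay.bit_lt p)), Golay.pt_bit,
          Equiv.Perm.one_apply]
      simp only [signWord, imgK, hb, cond_true, prodEl]
      rw [ih, gEl, gens_shape.2.2 n (by omega), wordEl_single, stepEl, dif_pos hid.1, monoEl_mul]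
      refine monoEl_congr (by rw [hidp, mul_one]) ?_
      simp only [Golay.comb_xor, Golay.toWord_xor]
      funext p
      simp

theorem sign_spec {x : ℕ} (hx : x ∈ TriData.fixCode) : ∃ m < 64, imgK TriData.signGens 6 m = x ∧
    monoEl 1 (one_mem _) (Golay.toWord (Golay.comb x)) (Golay.toWord_comb_mem _) = prodEl (signWord m 6) := by
  obtain ⟨m, hm, he⟩ := List.any_eq_true.1 (List.all_eq_true.1 span_check x hx)
  have he' := (Nat.eq_of_beq_eq_true he).symm
  subst he'
  exact ⟨m, List.mem_range.1 hm, rfl, (sign_eq m 6 le_rfl).symm⟩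

theorem mono_mem {g : Co0} (hg : g ∈ monoSub) (hc : g * tt = tt * g) : g ∈ H := by
  obtain ⟨τ, hτ, c, hc', rfl, hR, hcR⟩ := mono_comm hg hc
  obtain ⟨x, hx, rfl⟩ := fixed_word hc' hcR
  obtain ⟨m, -, -, he⟩ := sign_spec hx
  have h := mul_mem (he ▸ prodEl_mem (signWord_lt m 6 le_rfl)) (perm_mem hτ hR)
  rw [monoEl_mul] at h
  convert h using 1
  exact monoEl_congr (mul_one _).symm (by funext p; simp)

theorem K_le_H : K ≤ H := by
  intro g hg
  obtain ⟨k, hk, ht, hc⟩ := K_frame ⟨g, hg⟩
  obtain ⟨hw, he⟩ := orb_check k hk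
  obtain ⟨-, hact⟩ := prodEl_act hw (k := 1) (by norm_num)
  have h1 : follow (orbWord k) 1 = k := by
    rw [ht, show repIx 1 = 1 by decide +kernel] at he
    exact he
  rw [h1] at hact
  have hm : (prodEl (orbWord k))⁻¹ * g ∈ H := by
    refine mono_mem ?_ ?_
    · rw [← classStab_one, mem_classStab, mul_smul]
      have h2 := (hc.trans hact.symm).smul (prodEl (orbWord k))⁻¹
      rwa [inv_smul_smul] at h2
    · exact Subgroup.mem_centralizer_singleton_iff.1 (mul_mem (inv_mem (H_le (prodEl_mem hw))) hg)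
  simpa using mul_mem (prodEl_mem hw) hm

theorem card_mono_part : Nat.card ↥(monoSub.subgroupOf K) ≤ 69120 := by
  classical
  have hmem : ∀ g : ↥(monoSub.subgroupOf K), ∃ (n : Fin 6 × Fin 5 × Fin 4 × Fin 3 × Fin 3)
      (i : Fin TriData.fixCode.length) (hτ : tr 0 n.1 * (tr 1 n.2.1 * (tr 2 n.2.2.1 * (tr 3 n.2.2.2.1 *
        R ^ (n.2.2.2.2 : ℕ)))) ∈ M24),
      ((g : K) : Co0) = monoEl _ hτ (Golay.toWord (Golay.comb TriData.fixCode[i])) (Golay.toWord_comb_mem _) := by
    intro g
    obtain ⟨τ, hτ, c, hc, hg, hcz, hR⟩ := mono_comm g.2 (K_comm (g : K))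
    obtain ⟨x, hx, rfl⟩ := fixed_word hc hR
    obtain ⟨i, hi, rfl⟩ := List.getElem_of_mem hx
    obtain ⟨a, b, c, d, e, rfl⟩ := cz_decomp hτ hcz
    exact ⟨(a, b, c, d, e), ⟨i, hi⟩, hτ, hg⟩
  choose n i hτ hg using hmem
  have hinj : Function.Injective fun g => (n g, i g) := by
    intro g g' e
    simp only [Prod.mk.injEq] at e
    refine Subtype.ext (Subtype.ext ?_)
    rw [hg g, hg g']
    exact monoEl_congr (by rw [e.1]) (by rw [e.2])
  refine (Nat.card_le_card_of_injective _ hinj).trans (le_of_eq ?_)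
  simp only [Nat.card_prod, Nat.card_fin]
  rfl

theorem card_K_le : Nat.card K ≤ 117573120 := by
  classical
  choose f hf hft hfc using fun g : K => K_frame g
  let S : Finset ℕ := (Finset.range 4096).filter fun k => orbType k = 1
  let F : K ⧸ monoSub.subgroupOf K → S :=
    fun q => ⟨f q.out, Finset.mem_filter.2 ⟨Finset.mem_range.2 (hf q.out), hft q.out⟩⟩
  have hinj : Function.Injective F := by
    intro q q' e
    rw [← QuotientGroup.out_eq' q, ← QuotientGroup.out_eq' q', QuotientGroup.eq, Subgroup.mem_subgroupOf]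
    refine classStab_one.le ?_
    rw [mem_classStab, Subgroup.coe_mul, InvMemClass.coe_inv, mul_smul]
    have h2 := hfc q'.out
    rw [← (show f q.out = f q'.out from congrArg Subtype.val e)] at h2
    have h3 := (h2.trans (hfc q.out).symm).smul (q.out : Co0)⁻¹
    rwa [inv_smul_smul] at h3
  have h1 := Nat.card_le_card_of_injective F hinj
  rw [Nat.card_eq_fintype_card (α := S), Fintype.card_coe] at h1
  have h2 : S.card ≤ 1701 := by
    have e := Nat.eq_of_beq_eq_true count_check
    rw [List.countP_eq_length_filter] at e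
    have : S ⊆ ((List.range 4096).filter fun k => Nat.beq (orbType k) 1).toFinset := fun k hk => by
      simp only [S, Finset.mem_filter, Finset.mem_range] at hk
      simp [List.mem_filter, hk.1, hk.2]
    exact (Finset.card_le_card this).trans ((List.toFinset_card_le _).trans e.le)
  rw [← Subgroup.card_mul_index (monoSub.subgroupOf K), Subgroup.index_eq_card]
  calc _ ≤ 69120 * 1701 := Nat.mul_le_mul card_mono_part (h1.trans h2)
    _ = 117573120 := by norm_num

end CfsgLib.MonsterType.Tri
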